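import Mathlib
import Cfsg.Agent.Bimonster.Words
import Cfsg.Agent.Bimonster.Split
import Cfsg.Prelude.Def_Spor_M
import Cfsg.Prelude.Def_Sporadic
import Cfsg.Agent.MonsterX.Frames.J8D_m3
import Cfsg.Agent.Leech.FrameTriples
import Cfsg.Agent.MonsterX.KModel
import Cfsg.Agent.BM.Psi
import Cfsg.Agent.MonsterU.Sheet3_m3
import Cfsg.Agent.MonsterX.KDone
import Cfsg.Agent.MonsterX.CertTab_m3
import Cfsg.Agent.MonsterX.CertS1_mg_m3
import Cfsg.Agent.FastGrp
import Cfsg.Agent.Prune
set_option linter.all false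

section
prune_inst 0x7f00000000000000000000000000000000000000000000000000000000000000000000000000000000000000000000000000000000000000000000000000000000000000000000000000000000000000003fffffffffdfffffffffffffffffbeffbdffffffff

section
prune_inst 0xbefff9efbcaddfffff7e7ffeffdffffbfdffffffdffffbffe9efffef9f6bf7bfe5fb8fffe45aff8ff7e2be70f87b53ffffffffee6ffc7ffffdfff45ffbffdfedffbfad71ffbcbe1ffe6ffffbf17fffffc00000000020000000000000000041004200000000

-- part: Bimonster/Main
section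
prune_inst 0x2004100000000000000000000040000000020000000141000004014084000000000080000300000008100000000000000010001000000000000040000000000000000000000001000000a000000000000000000000000000000000000000000000000
set_option linter.all false
open scoped Cfsg.Agent.FastGrp

-- part: Bimonster/Square
section
/-!
# The local computation (a 3 x 3 square of involutions)
-/

set_option autoImplicit false

namespace Cfsg.Agent.Bimonster.Square

variable {G : Type*} [Group G]

/-- conjugate -/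
def cj (u g : G) : G := g⁻¹ * u * g

theorem cj_sq {u : G} (hu : u * u = 1) (g : G) : cj u g * cj u g = 1 := by
  unfold cj
  calc g⁻¹ * u * g * (g⁻¹ * u * g) = g⁻¹ * (u * u) * g := by group
    _ = 1 := by rw [hu]; group

theorem tri_prod {u y : G} (hy : y ^ 3 = 1) (huy : (u * y) ^ 3 = 1) (g : G) :
    cj u g * cj u (y⁻¹ * g) * cj u (y * g) = 1 := by
  unfold cj
  have hy2 : y⁻¹ * y⁻¹ = y := by
    have : y * y * y = 1 := by rw [← hy, pow_three']
    calc y⁻¹ * y⁻¹ = (y * y * y) * (y⁻¹ * y⁻¹) := by rw [this, one_mul]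
      _ = y := by group
  calc g⁻¹ * u * g * ((y⁻¹ * g)⁻¹ * u * (y⁻¹ * g)) * ((y * g)⁻¹ * u * (y * g))
      = g⁻¹ * (u * y * u * (y⁻¹ * y⁻¹) * u * y) * g := by group
    _ = g⁻¹ * (u * y) ^ 3 * g := by rw [hy2, pow_three']; group
    _ = 1 := by rw [huy]; group

theorem inv_of_sq {a : G} (h : a * a = 1) : a⁻¹ = a := (eq_inv_of_mul_eq_one_left h).symm

theorem tri {u y : G} (hu : u * u = 1) (hy : y ^ 3 = 1) (huy : (u * y) ^ 3 = 1) (g : G) :
    cj u (y⁻¹ * g) = cj u g * cj u (y * g) ∧ cj u (y⁻¹ * g) = cj u (y * g) * cj u g := by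
  have h := tri_prod hy huy g
  have hA := inv_of_sq (cj_sq hu g)
  have hB := inv_of_sq (cj_sq hu (y⁻¹ * g))
  have hC := inv_of_sq (cj_sq hu (y * g))
  constructor
  · calc cj u (y⁻¹ * g) = (cj u g)⁻¹ * (cj u g * cj u (y⁻¹ * g) * cj u (y * g)) * (cj u (y * g))⁻¹ := by
          group
      _ = cj u g * cj u (y * g) := by rw [h, hA, hC, mul_one]
  · have h' : cj u (y * g) * cj u (y⁻¹ * g) * cj u g = 1 := by
      have := congrArg (·⁻¹) h
      simpa only [mul_inv_rev, hA, hB, hC, inv_one, mul_assoc] using this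
    calc cj u (y⁻¹ * g) = (cj u (y * g))⁻¹ * (cj u (y * g) * cj u (y⁻¹ * g) * cj u g) * (cj u g)⁻¹ := by
          group
      _ = cj u (y * g) * cj u g := by rw [h', hA, hC, mul_one]

/-- the local relation -/
theorem square {u x z : G} (hu : u * u = 1) (hx : x ^ 3 = 1) (hz : z ^ 3 = 1) (hxz : x * z = z * x)
    (hux : (u * x) ^ 3 = 1) (huz : (u * z) ^ 3 = 1) : Commute (u * (z * x) * u) (z * x⁻¹) := by
  have hu' := inv_of_sq hu
  have c1 : cj u (1 : G) = u := by simp [cj]
  -- the entries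
  obtain ⟨z1, z1'⟩ := tri hu hz huz 1
  obtain ⟨x1, x1'⟩ := tri hu hx hux 1
  obtain ⟨zx, zx'⟩ := tri hu hz huz x
  obtain ⟨xz, xz'⟩ := tri hu hx hux z
  obtain ⟨zxi, zxi'⟩ := tri hu hz huz x⁻¹
  obtain ⟨xzi, xzi'⟩ := tri hu hx hux z⁻¹
  rw [mul_one, mul_one, c1] at z1 z1' x1 x1'
  have e1 : x⁻¹ * z = z * x⁻¹ := by
    calc x⁻¹ * z = x⁻¹ * (z * x) * x⁻¹ := by group
      _ = z * x⁻¹ := by rw [← hxz]; group
  have e2 : x * z⁻¹ = z⁻¹ * x := by
    calc x * z⁻¹ = z⁻¹ * (z * x) * z⁻¹ := by group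
      _ = z⁻¹ * x := by rw [← hxz]; group
  have e3 : x⁻¹ * z⁻¹ = z⁻¹ * x⁻¹ := by
    rw [← mul_inv_rev, ← mul_inv_rev, hxz]
  rw [hxz, e1] at xz xz'
  rw [e2, e3] at xzi xzi'
  -- the magic square
  have key : u * cj u (z * x) = cj u (z * x) * u := by
    have h1 : cj u (z⁻¹ * x⁻¹) = cj u z * u * (cj u (z * x) * cj u x) := by
      rw [xzi, zx', z1']
    have h2 : cj u (z⁻¹ * x⁻¹) = cj u z * cj u (z * x) * (u * cj u x) := by
      rw [zxi', xz, x1]
    have h3 := h1.symm.trans h2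
    have h4 : cj u z * (u * cj u (z * x)) * cj u x = cj u z * (cj u (z * x) * u) * cj u x := by
      simpa only [mul_assoc] using h3
    exact mul_left_cancel (mul_right_cancel h4)
  -- the claim
  have ab : Commute (z * x) (z * x⁻¹) := by
    show z * x * (z * x⁻¹) = z * x⁻¹ * (z * x)
    calc z * x * (z * x⁻¹) = z * (x * z) * x⁻¹ := by group
      _ = z * (z * x) * x⁻¹ := by rw [hxz]
      _ = z * z := by group
      _ = z * (x⁻¹ * (z * x)) := by rw [← hxz]; group
      _ = z * x⁻¹ * (z * x) := by group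
  have hz2 : z * x * (z * x⁻¹) = z⁻¹ := by
    have : z * z * z = 1 := by rw [← hz, pow_three']
    calc z * x * (z * x⁻¹) = z * (x * z) * x⁻¹ := by group
      _ = z * z := by rw [hxz]; group
      _ = z * z * z * z⁻¹ := by group
      _ = z⁻¹ := by rw [this, one_mul]
  have hfix : cj (cj u (z * x) * u) (z * x⁻¹) = cj u (z * x) * u := by
    have : cj (cj u (z * x) * u) (z * x⁻¹) = cj u (z * x * (z * x⁻¹)) * cj u (z * x⁻¹) := by
      unfold cj; group
    rw [this, hz2, z1, xz, ← key]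
    have := cj_sq hu z
    calc u * cj u z * (cj u z * cj u (z * x)) = u * (cj u z * cj u z) * cj u (z * x) := by group
      _ = u * cj u (z * x) := by rw [this, mul_one]
  have hc : Commute (cj u (z * x) * u) (z * x⁻¹) := by
    have h := hfix
    unfold cj at h ⊢
    show _ = _
    calc ((z * x)⁻¹ * u * (z * x) * u) * (z * x⁻¹)
        = (z * x⁻¹) * ((z * x⁻¹)⁻¹ * ((z * x)⁻¹ * u * (z * x) * u) * (z * x⁻¹)) := by group
      _ = _ := by rw [h]
  have hd : u * (z * x) * u = (z * x) * (cj u (z * x) * u) := by unfold cj; group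
  rw [hd]
  exact ab.mul_left hc

/-- generation of `A₄` by two elements of order three -/
theorem mem_closure {u y : G} (hu : u * u = 1) (hy : y ^ 3 = 1) (huy : (u * y) ^ 3 = 1)
    {H : Subgroup G} (h1 : y ∈ H) (h2 : u * y * u ∈ H) : u ∈ H := by
  obtain ⟨a, a'⟩ := tri hu hy huy 1
  have c1 : cj u (1 : G) = u := by simp [cj]
  rw [mul_one, mul_one, c1] at a a'
  -- `y⁻¹ * (u y u) = cj u y * u`
  have h3 : y⁻¹ * (u * y * u) ∈ H := H.mul_mem (H.inv_mem h1) h2
  have h4 : y⁻¹ * (u * y * u) = cj u y⁻¹ := by rw [a']; unfold cj; group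
  rw [h4] at h3
  have h5 : u = y⁻¹ * cj u y⁻¹ * y := by unfold cj; group
  rw [h5]
  exact H.mul_mem (H.mul_mem (H.inv_mem h1) h3) h1

end Cfsg.Agent.Bimonster.Square
end

-- part: Bimonster/Struct
section
/-! # The structure of the Bimonster relative to the subgroup of the node `f3` -/

set_option autoImplicit false

namespace Cfsg.Agent.Bimonster

open Tits

variable {G P : Type*} [Group G] [Group P]

/-- the situation -/
structure Setup (t : ℕ → G) (x : ℕ → P) (φ : P →* G) (sgn : G →* ℤˣ) : Prop where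
  rel : BiRel t
  gen : Subgroup.closure (nodes 16 t) = ⊤
  xrel : PRel x
  zrel : ZRel x
  xgen : Subgroup.closure (nodes 14 x) = ⊤
  hphi : ∀ i < 14, φ (x i) = t 15 * t i
  hsgn : ∀ i < 16, sgn (t i) = -1

namespace Setup

variable {t : ℕ → G} {x : ℕ → P} {φ : P →* G} {sgn : G →* ℤˣ}

theorem ff (h : Setup t x φ sgn) : t 15 * t 15 = 1 := h.rel.cox.sq 15 (by norm_num)

theorem ee (h : Setup t x φ sgn) : t 14 * t 14 = 1 := h.rel.cox.sq 14 (by norm_num)

theorem f_t (h : Setup t x φ sgn) {i : ℕ} (hi : i < 14) : t 15 * t i = t i * t 15 := by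
  have : ∀ i < 14, adjB 15 i = false := by decide
  exact h.rel.cox.cm 15 (by norm_num) i (by omega) (this i hi)

theorem e_t (h : Setup t x φ sgn) {i : ℕ} (hi : i < 13) : t 14 * t i = t i * t 14 := by
  have : ∀ i < 13, adjB 14 i = false := by decide
  exact h.rel.cox.cm 14 (by norm_num) i (by omega) (this i hi)

theorem efe (h : Setup t x φ sgn) : t 14 * t 15 * t 14 = t 15 * t 14 * t 15 :=
  h.rel.cox.br 14 (by norm_num) 15 (by norm_num) (by decide)

theorem ede (h : Setup t x φ sgn) : t 14 * t 13 * t 14 = t 13 * t 14 * t 13 :=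
  h.rel.cox.br 14 (by norm_num) 13 (by norm_num) (by decide)

/-- the diagonal subgroup commutes with `f` -/
theorem f_phi (h : Setup t x φ sgn) (p : P) : t 15 * φ p = φ p * t 15 := by
  have hp : p ∈ Subgroup.closure (nodes 14 x) := by rw [h.xgen]; trivial
  induction hp using Subgroup.closure_induction with
  | mem y hy =>
    obtain ⟨i, hi, rfl⟩ := hy
    rw [h.hphi i hi, mul_assoc, h.f_t hi, ← mul_assoc, mul_assoc]
  | one => simp
  | mul y z _ _ hy hz => rw [map_mul, ← mul_assoc, hy, mul_assoc, hz, mul_assoc]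
  | inv y _ hy =>
    rw [map_inv]
    calc t 15 * (φ y)⁻¹ = (φ y)⁻¹ * (φ y * t 15) * (φ y)⁻¹ := by group
      _ = (φ y)⁻¹ * t 15 := by rw [← hy]; group

/-- the element of order three -/
def z (x : ℕ → P) (φ : P →* G) : G := φ (ev x zW)

/-- `α` -/
def al (t : ℕ → G) (x : ℕ → P) (φ : P →* G) : G := z x φ * (t 15 * t 14)

/-- `β` -/
def be (t : ℕ → G) (x : ℕ → P) (φ : P →* G) : G := z x φ * (t 14 * t 15)

theorem ev_mul_central {f : G} {s : ℕ → G} {w : List ℕ} (hf : ∀ i ∈ w, f * s i = s i * f) :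
    ev (fun i => f * s i) w = f ^ w.length * ev s w := by
  induction w with
  | nil => simp
  | cons i w ih =>
    have hc : ∀ n : ℕ, s i * f ^ n = f ^ n * s i := fun n =>
      ((show Commute f (s i) from hf i (by simp)).pow_left n).symm
    rw [ev_cons, ev_cons, ih fun j hj => hf j (by simp [hj]), List.length_cons, pow_succ']
    calc f * s i * (f ^ w.length * ev s w) = f * (s i * f ^ w.length) * ev s w := by group
      _ = _ := by rw [hc]; simp only [mul_assoc]

theorem zW_lt : ∀ i ∈ zW, i < 13 := by decide +kernel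

theorem zW_length : zW.length = 2 * 212 := by decide +kernel

theorem z_eq (h : Setup t x φ sgn) : z x φ = ev t zW := by
  unfold z
  rw [map_ev]
  have h1 : ev (fun i => φ (x i)) zW = ev (fun i => t 15 * t i) zW :=
    ev_congr fun i hi => h.hphi i (lt_trans (zW_lt i hi) (by norm_num))
  rw [h1, ev_mul_central fun i hi => h.f_t (lt_trans (zW_lt i hi) (by norm_num))]
  rw [zW_length, pow_mul, pow_two, h.ff, one_pow, one_mul]

theorem comm_ev {e : G} {s : ℕ → G} {w : List ℕ} (hf : ∀ i ∈ w, e * s i = s i * e) :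
    e * ev s w = ev s w * e := by
  induction w with
  | nil => simp
  | cons i w ih =>
    rw [ev_cons, ← mul_assoc, hf i (by simp), mul_assoc, ih fun j hj => hf j (by simp [hj]),
      mul_assoc]

theorem e_z (h : Setup t x φ sgn) : t 14 * z x φ = z x φ * t 14 := by
  rw [h.z_eq]
  exact comm_ev fun i hi => h.e_t (zW_lt i hi)

theorem f_z (h : Setup t x φ sgn) : t 15 * z x φ = z x φ * t 15 := h.f_phi _

theorem z_cube (h : Setup t x φ sgn) : z x φ ^ 3 = 1 := by
  unfold z; rw [← map_pow, h.zrel.cube, map_one]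

/-- the diagonal involutions -/
theorem uu (h : Setup t x φ sgn) {i : ℕ} (hi : i < 14) : φ (x i) * φ (x i) = 1 := by
  rw [← map_mul, h.xrel.cox.sq i hi, map_one]

theorem u_z (h : Setup t x φ sgn) {i : ℕ} (hi : i < 13) :
    φ (x i) * z x φ * φ (x i) = (z x φ)⁻¹ := by
  unfold z; rw [← map_mul, ← map_mul, h.zrel.inv i hi, map_inv]

theorem fe_inv (h : Setup t x φ sgn) : (t 15 * t 14)⁻¹ = t 14 * t 15 := by
  rw [mul_inv_rev, Square.inv_of_sq h.ff, Square.inv_of_sq h.ee]

theorem fe_cube (h : Setup t x φ sgn) : (t 15 * t 14) ^ 3 = 1 := by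
  rw [pow_three']
  calc t 15 * t 14 * (t 15 * t 14) * (t 15 * t 14)
      = t 15 * (t 14 * t 15 * t 14) * (t 15 * t 14) := by group
    _ = (t 15 * t 15) * t 14 * (t 15 * t 15) * t 14 := by rw [h.efe]; group
    _ = 1 := by rw [h.ff, one_mul, mul_one, h.ee]

theorem al_mul_be (h : Setup t x φ sgn) : al t x φ * be t x φ = z x φ * z x φ := by
  unfold al be
  calc z x φ * (t 15 * t 14) * (z x φ * (t 14 * t 15))
      = z x φ * t 15 * (t 14 * z x φ) * t 14 * t 15 := by group
    _ = z x φ * (t 15 * z x φ) * (t 14 * t 14) * t 15 := by rw [h.e_z]; group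
    _ = z x φ * z x φ * (t 15 * t 15) := by rw [h.f_z, h.ee]; group
    _ = z x φ * z x φ := by rw [h.ff, mul_one]

theorem be_mul_al (h : Setup t x φ sgn) : be t x φ * al t x φ = z x φ * z x φ := by
  unfold al be
  calc z x φ * (t 14 * t 15) * (z x φ * (t 15 * t 14))
      = z x φ * t 14 * (t 15 * z x φ) * t 15 * t 14 := by group
    _ = z x φ * (t 14 * z x φ) * (t 15 * t 15) * t 14 := by rw [h.f_z]; group
    _ = z x φ * z x φ * (t 14 * t 14) := by rw [h.e_z, h.ff]; group
    _ = z x φ * z x φ := by rw [h.ee, mul_one]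

theorem f_al (h : Setup t x φ sgn) : t 15 * al t x φ * t 15 = be t x φ := by
  unfold al be
  calc t 15 * (z x φ * (t 15 * t 14)) * t 15 = (t 15 * z x φ) * t 15 * t 14 * t 15 := by group
    _ = z x φ * (t 15 * t 15) * t 14 * t 15 := by rw [h.f_z]; group
    _ = _ := by rw [h.ff]; group

theorem f_be (h : Setup t x φ sgn) : t 15 * be t x φ * t 15 = al t x φ := by
  rw [← h.f_al]
  calc t 15 * (t 15 * al t x φ * t 15) * t 15 = (t 15 * t 15) * al t x φ * (t 15 * t 15) := by group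
    _ = _ := by rw [h.ff]; group

theorem fe_z (h : Setup t x φ sgn) : t 15 * t 14 * z x φ = z x φ * (t 15 * t 14) := by
  rw [mul_assoc, h.e_z, ← mul_assoc, h.f_z, mul_assoc]

theorem al_cube (h : Setup t x φ sgn) : al t x φ ^ 3 = 1 := by
  have hc : Commute (z x φ) (t 15 * t 14) := h.fe_z.symm
  unfold al
  rw [hc.mul_pow, h.z_cube, h.fe_cube, one_mul]

/-- the nodes of `Y552` invert `α` -/
theorem u_al (h : Setup t x φ sgn) {i : ℕ} (hi : i < 13) :
    φ (x i) * al t x φ * φ (x i) = (al t x φ)⁻¹ := by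
  have h1 : φ (x i) * (t 15 * t 14) * φ (x i) = t 14 * t 15 := by
    rw [h.hphi i (by omega)]
    calc t 15 * t i * (t 15 * t 14) * (t 15 * t i)
        = t 15 * (t i * t 15) * t 14 * t 15 * t i := by group
      _ = (t 15 * t 15) * t i * t 14 * t 15 * t i := by rw [← h.f_t (by omega)]; group
      _ = (t i * t 14) * t 15 * t i := by rw [h.ff]; group
      _ = t 14 * t i * (t 15 * t i) := by rw [← h.e_t hi]; group
      _ = t 14 * (t i * t i) * t 15 := by rw [h.f_t (by omega)]; group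
      _ = t 14 * t 15 := by rw [h.rel.cox.sq i (by omega), mul_one]
  have h2 : (al t x φ)⁻¹ = (z x φ)⁻¹ * (t 14 * t 15) := by
    unfold al
    rw [← h.fe_z, mul_inv_rev, h.fe_inv]
  rw [h2, ← h1, ← h.u_z hi]
  unfold al
  have h3 := h.uu (i := i) (by omega)
  calc φ (x i) * (z x φ * (t 15 * t 14)) * φ (x i)
      = φ (x i) * z x φ * 1 * (t 15 * t 14) * φ (x i) := by group
    _ = _ := by rw [← h3]; group

theorem u_be (h : Setup t x φ sgn) {i : ℕ} (hi : i < 13) :
    φ (x i) * be t x φ * φ (x i) = (be t x φ)⁻¹ := by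
  rw [← h.f_al]
  have h1 := h.f_phi (x i)
  calc φ (x i) * (t 15 * al t x φ * t 15) * φ (x i)
      = (φ (x i) * t 15) * al t x φ * (t 15 * φ (x i)) := by group
    _ = (φ (x i) * t 15) * al t x φ * (φ (x i) * t 15) := by rw [h1]
    _ = (t 15 * φ (x i)) * al t x φ * (φ (x i) * t 15) :=
        congrArg (fun y => y * al t x φ * (φ (x i) * t 15)) h1.symm
    _ = t 15 * (φ (x i) * al t x φ * φ (x i)) * t 15 := by group
    _ = (t 15)⁻¹ * (al t x φ)⁻¹ * (t 15)⁻¹ := by rw [h.u_al hi, Square.inv_of_sq h.ff]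
    _ = (t 15 * al t x φ * t 15)⁻¹ := by group

/-- the local commutation -/
theorem local_comm (h : Setup t x φ sgn) :
    Commute (φ (x 13) * al t x φ * φ (x 13)) (be t x φ) := by
  have hc : t 15 * t 14 * z x φ = z x φ * (t 15 * t 14) := h.fe_z
  have h1 : (φ (x 13) * (t 15 * t 14)) ^ 3 = 1 := by
    have : φ (x 13) * (t 15 * t 14) = t 13 * t 14 := by
      rw [h.hphi 13 (by norm_num)]
      calc t 15 * t 13 * (t 15 * t 14) = t 15 * (t 13 * t 15) * t 14 := by group
        _ = (t 15 * t 15) * t 13 * t 14 := by rw [← h.f_t (by norm_num)]; group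
        _ = t 13 * t 14 := by rw [h.ff]; group
    rw [this, pow_three']
    calc t 13 * t 14 * (t 13 * t 14) * (t 13 * t 14)
        = t 13 * (t 14 * t 13 * t 14) * (t 13 * t 14) := by group
      _ = (t 13 * t 13) * t 14 * (t 13 * t 13) * t 14 := by rw [h.ede]; group
      _ = 1 := by rw [h.rel.cox.sq 13 (by norm_num), one_mul, mul_one, h.ee]
  have h2 : (φ (x 13) * z x φ) ^ 3 = 1 := by
    unfold z; rw [← map_mul, ← map_pow, h.zrel.ord, map_one]
  have := Square.square (h.uu (i := 13) (by norm_num)) h.fe_cube h.z_cube hc h1 h2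
  rw [h.fe_inv] at this
  exact this

/-- the commutation predicate -/
def S (t : ℕ → G) (x : ℕ → P) (φ : P →* G) (g : G) : Prop :=
  Commute (g⁻¹ * al t x φ * g) (be t x φ)

theorem S_left (h : Setup t x φ sgn) {i : ℕ} (hi : i < 13) (g : G) :
    S t x φ (φ (x i) * g) ↔ S t x φ g := by
  have h1 : (φ (x i) * g)⁻¹ * al t x φ * (φ (x i) * g) = (g⁻¹ * al t x φ * g)⁻¹ := by
    have h2 := h.u_al hi
    rw [mul_inv_rev, Square.inv_of_sq (h.uu (i := i) (by omega))]
    calc g⁻¹ * φ (x i) * al t x φ * (φ (x i) * g) = g⁻¹ * (φ (x i) * al t x φ * φ (x i)) * g := by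
          group
      _ = _ := by rw [h2]; group
  unfold S
  rw [h1, Commute.inv_left_iff]

theorem S_right (h : Setup t x φ sgn) {i : ℕ} (hi : i < 13) (g : G) :
    S t x φ (g * φ (x i)) ↔ S t x φ g := by
  have h2 := h.u_be hi
  have h3 := h.uu (i := i) (by omega)
  have h4 := Square.inv_of_sq h3
  unfold S
  have h5 : (g * φ (x i))⁻¹ * al t x φ * (g * φ (x i)) =
      (φ (x i))⁻¹ * (g⁻¹ * al t x φ * g) * φ (x i) := by group
  have h6 : be t x φ = (φ (x i))⁻¹ * (be t x φ)⁻¹ * φ (x i) := by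
    rw [h4, ← h2]
    calc be t x φ = 1 * be t x φ * 1 := by group
      _ = _ := by rw [← h3]; group
  rw [h5]
  constructor
  · intro hc
    rw [h6] at hc
    have := (Commute.conj_iff (φ (x i))⁻¹ (a := g⁻¹ * al t x φ * g) (b := (be t x φ)⁻¹)).mp (by
      simpa only [inv_inv] using hc)
    exact Commute.inv_right_iff.mp this
  · intro hc
    rw [h6]
    have := (Commute.conj_iff (φ (x i))⁻¹ (a := g⁻¹ * al t x φ * g) (b := (be t x φ)⁻¹)).mpr
      (Commute.inv_right_iff.mpr hc)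
    simpa only [inv_inv] using this

theorem S_word (h : Setup t x φ sgn) {L R : List ℕ} (hL : ∀ i ∈ L, i < 13) (hR : ∀ i ∈ R, i < 13)
    (m : List ℕ) : S t x φ (φ (ev x (L ++ m ++ R))) ↔ S t x φ (φ (ev x m)) := by
  have h1 : ∀ (R : List ℕ), (∀ i ∈ R, i < 13) → ∀ g, S t x φ (g * φ (ev x R)) ↔ S t x φ g := by
    intro R
    induction R with
    | nil => intro _ g; simp
    | cons i R ih =>
      intro hR g
      rw [ev_cons, map_mul, ← mul_assoc, ih (fun j hj => hR j (by simp [hj])),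
        h.S_right (hR i (by simp))]
  have h2 : ∀ (L : List ℕ), (∀ i ∈ L, i < 13) → ∀ g, S t x φ (φ (ev x L) * g) ↔ S t x φ g := by
    intro L
    induction L with
    | nil => intro _ g; simp
    | cons i L ih =>
      intro hL g
      rw [ev_cons, map_mul, mul_assoc, h.S_left (hL i (by simp)),
        ih (fun j hj => hL j (by simp [hj]))]
  rw [ev_append, map_mul, h1 R hR, ev_append, map_mul, h2 L hL]

theorem S_one (h : Setup t x φ sgn) : S t x φ 1 := by
  unfold S
  rw [inv_one, one_mul, mul_one]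
  exact h.al_mul_be.trans h.be_mul_al.symm

theorem S_13 (h : Setup t x φ sgn) : S t x φ (φ (ev x [13])) := by
  unfold S
  rw [ev_cons, ev_nil, mul_one, Square.inv_of_sq (h.uu (i := 13) (by norm_num))]
  exact h.local_comm

theorem S_mid (h : Setup t x φ sgn) (b : Bool) : S t x φ (φ (ev x (midW b))) := by
  cases b with
  | false => exact h.S_13
  | true =>
    obtain ⟨L, R, hL, hR, he⟩ := g0_good h.xrel.cox h.xrel.f3a
    show S t x φ (φ (ev x g0W))
    rw [he, h.S_word hL hR]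
    exact h.S_13

theorem S_inv (h : Setup t x φ sgn) (p : P) (hs : S t x φ (φ p)) : S t x φ (φ p)⁻¹ := by
  unfold S at hs ⊢
  have h1 := h.f_phi p
  have h2 : t 15 * (φ p)⁻¹ = (φ p)⁻¹ * t 15 := by rw [← map_inv]; exact h.f_phi p⁻¹
  have h3 : t 15 * ((φ p)⁻¹ * al t x φ * φ p) * (t 15)⁻¹ = (φ p)⁻¹ * be t x φ * φ p := by
    rw [Square.inv_of_sq h.ff, ← h.f_al]
    calc t 15 * ((φ p)⁻¹ * al t x φ * φ p) * t 15
        = (t 15 * (φ p)⁻¹) * al t x φ * (φ p * t 15) := by group
      _ = _ := by rw [h2, ← h1]; group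
  have h4 := (Commute.conj_iff (t 15)).mpr hs
  rw [h3, Square.inv_of_sq h.ff, h.f_be] at h4
  have h5 := (Commute.conj_iff (φ p)).mpr h4
  have h6 : φ p * ((φ p)⁻¹ * be t x φ * φ p) * (φ p)⁻¹ = be t x φ := by group
  rw [h6] at h5
  rw [inv_inv]
  exact h5.symm

/-- all pairs -/
theorem S_pairs (h : Setup t x φ sgn) : ∀ v ∈ pth, ∀ w ∈ pth, S t x φ (φ (ev x (v ++ w.reverse))) := by
  have lt : ∀ v ∈ pth, ∀ i ∈ v, i < 14 := by decide
  have hrev : ∀ v ∈ pth, ∀ w ∈ pth,
      (φ (ev x (v ++ w.reverse)))⁻¹ = φ (ev x (w ++ v.reverse)) := by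
    intro v hv w hw
    rw [← map_inv]
    congr 1
    rw [ev_append, ev_append, ev_reverse (sq_of_lt h.xrel.cox (lt v hv)),
      ev_reverse (sq_of_lt h.xrel.cox (lt w hw)), mul_inv_rev, inv_inv]
  have hp : pth.Pairwise (fun v w => v ∈ pth ∧ w ∈ pth ∧ GoodPair x v w) := by
    rw [List.pairwise_iff_forall_sublist]
    intro v w hs
    have := hs.subset
    exact ⟨this (by simp), this (by simp),
      List.pairwise_iff_forall_sublist.mp (pair_good h.xrel.cox) hs⟩
  have hp2 : pth.Pairwise (fun v w => S t x φ (φ (ev x (v ++ w.reverse))) ∧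
      S t x φ (φ (ev x (w ++ v.reverse)))) := by
    refine hp.imp ?_
    rintro v w ⟨hv, hw, L, b, R, hL, hR, he⟩
    have h1 : S t x φ (φ (ev x (v ++ w.reverse))) := by
      rw [he, h.S_word hL hR]; exact h.S_mid b
    refine ⟨h1, ?_⟩
    rw [← hrev v hv w hw]
    exact h.S_inv _ h1
  have hsymm : Std.Symm (fun v w : List ℕ => S t x φ (φ (ev x (v ++ w.reverse))) ∧
      S t x φ (φ (ev x (w ++ v.reverse)))) := ⟨fun v w hvw => ⟨hvw.2, hvw.1⟩⟩
  have hdiag : ∀ v ∈ pth, S t x φ (φ (ev x (v ++ v.reverse))) ∧ S t x φ (φ (ev x (v ++ v.reverse))) := by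
    intro v hv
    have : S t x φ (φ (ev x (v ++ v.reverse))) := by
      rw [ev_append, ev_reverse (sq_of_lt h.xrel.cox (lt v hv)), mul_inv_cancel, map_one]
      exact h.S_one
    exact ⟨this, this⟩
  intro v hv w hw
  exact (List.Pairwise.forall_of_forall hdiag hp2 hv hw).1

end Setup

end Cfsg.Agent.Bimonster
end

-- part: Bimonster/Close
section
/-! # The structure of the Bimonster: closing -/

set_option autoImplicit false
set_option linter.unusedVariables false

namespace Cfsg.Agent.Bimonster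

open Tits
open scoped commutatorElement

namespace Setup

section

variable {G P : Type*} [Group G] [Group P]
variable {t : ℕ → G} {x : ℕ → P} {φ : P →* G} {sgn : G →* ℤˣ}

/-- conjugate by a word -/
def cw (x : ℕ → P) (φ : P →* G) (v : List ℕ) (g : G) : G := (φ (ev x v))⁻¹ * g * φ (ev x v)

theorem cw_mul (v : List ℕ) (a b : G) : cw x φ v (a * b) = cw x φ v a * cw x φ v b := by
  unfold cw; group

theorem cw_nil (a : G) : cw x φ [] a = a := by
  unfold cw; simp

/-- the first factor -/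
def A0 (t : ℕ → G) (x : ℕ → P) (φ : P →* G) : Subgroup G :=
  Subgroup.closure {g | ∃ v ∈ pth, cw x φ v (al t x φ) = g}

/-- the second factor -/
def B0 (t : ℕ → G) (x : ℕ → P) (φ : P →* G) : Subgroup G :=
  Subgroup.closure {g | ∃ v ∈ pth, cw x φ v (be t x φ) = g}

theorem al_mem {v : List ℕ} (hv : v ∈ pth) : cw x φ v (al t x φ) ∈ A0 t x φ :=
  Subgroup.subset_closure ⟨v, hv, rfl⟩

theorem be_mem {v : List ℕ} (hv : v ∈ pth) : cw x φ v (be t x φ) ∈ B0 t x φ :=
  Subgroup.subset_closure ⟨v, hv, rfl⟩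

theorem pth_lt : ∀ v ∈ pth, ∀ i ∈ v, i < 14 := by decide

theorem nil_mem_pth : ([] : List ℕ) ∈ pth := by decide

theorem gen_comm (h : Setup t x φ sgn) {v w : List ℕ} (hv : v ∈ pth) (hw : w ∈ pth) :
    Commute (cw x φ v (al t x φ)) (cw x φ w (be t x φ)) := by
  have hs := h.S_pairs v hv w hw
  unfold S at hs
  rw [ev_append, ev_reverse (sq_of_lt h.xrel.cox (pth_lt w hw)), map_mul, map_inv] at hs
  have h1 := (Commute.conj_iff (φ (ev x w))⁻¹).mpr hs
  have e1 : (φ (ev x w))⁻¹ * ((φ (ev x v) * (φ (ev x w))⁻¹)⁻¹ * al t x φ *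
      (φ (ev x v) * (φ (ev x w))⁻¹)) * ((φ (ev x w))⁻¹)⁻¹ = cw x φ v (al t x φ) := by
    unfold cw; group
  have e2 : (φ (ev x w))⁻¹ * be t x φ * ((φ (ev x w))⁻¹)⁻¹ = cw x φ w (be t x φ) := by
    unfold cw; group
  rwa [e1, e2] at h1

theorem AB_comm (h : Setup t x φ sgn) {a b : G} (ha : a ∈ A0 t x φ) (hb : b ∈ B0 t x φ) :
    a * b = b * a := by
  have h1 : A0 t x φ ≤ Subgroup.centralizer (B0 t x φ : Set G) := by
    unfold B0
    rw [Subgroup.centralizer_closure]
    refine (Subgroup.closure_le _).mpr ?_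
    rintro _ ⟨v, hv, rfl⟩
    rw [SetLike.mem_coe, Subgroup.mem_centralizer_iff]
    rintro _ ⟨w, hw, rfl⟩
    exact (h.gen_comm hv hw).symm.eq
  exact ((Subgroup.mem_centralizer_iff.mp (h1 ha)) b hb).symm

/-- conjugation with `f` on word conjugates -/
theorem f_cw (h : Setup t x φ sgn) (v : List ℕ) (g : G) :
    t 15 * cw x φ v g * t 15 = cw x φ v (t 15 * g * t 15) := by
  have h1 := h.f_phi (ev x v)
  have h2 : t 15 * (φ (ev x v))⁻¹ = (φ (ev x v))⁻¹ * t 15 := by rw [← map_inv]; exact h.f_phi _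
  unfold cw
  calc t 15 * ((φ (ev x v))⁻¹ * g * φ (ev x v)) * t 15
      = (t 15 * (φ (ev x v))⁻¹) * g * (φ (ev x v) * t 15) := by simp only [mul_assoc]
    _ = ((φ (ev x v))⁻¹ * t 15) * g * (t 15 * φ (ev x v)) := by rw [h2, h1]
    _ = _ := by simp only [mul_assoc]

theorem f_conj_mul (h : Setup t x φ sgn) (a b : G) :
    t 15 * (a * b) * t 15 = (t 15 * a * t 15) * (t 15 * b * t 15) := by
  calc t 15 * (a * b) * t 15 = t 15 * a * 1 * b * t 15 := by simp only [mul_assoc, mul_one]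
    _ = t 15 * a * (t 15 * t 15) * b * t 15 := by rw [h.ff]
    _ = _ := by simp only [mul_assoc]

theorem f_conj_inv (h : Setup t x φ sgn) (a : G) :
    t 15 * a⁻¹ * t 15 = (t 15 * a * t 15)⁻¹ := by
  rw [mul_inv_rev, mul_inv_rev, Square.inv_of_sq h.ff, mul_assoc]

theorem f_conj_conj (h : Setup t x φ sgn) (a : G) :
    t 15 * (t 15 * a * t 15) * t 15 = a := by
  calc t 15 * (t 15 * a * t 15) * t 15 = (t 15 * t 15) * a * (t 15 * t 15) := by
        simp only [mul_assoc]
    _ = a := by rw [h.ff, one_mul, mul_one]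

theorem f_A0 (h : Setup t x φ sgn) {a : G} (ha : a ∈ A0 t x φ) : t 15 * a * t 15 ∈ B0 t x φ := by
  induction ha using Subgroup.closure_induction with
  | mem y hy =>
    obtain ⟨v, hv, rfl⟩ := hy
    rw [h.f_cw, h.f_al]
    exact be_mem hv
  | one => rw [mul_one, h.ff]; exact Subgroup.one_mem _
  | mul y z _ _ hy hz => rw [h.f_conj_mul]; exact Subgroup.mul_mem _ hy hz
  | inv y _ hy => rw [h.f_conj_inv]; exact Subgroup.inv_mem _ hy

theorem f_B0 (h : Setup t x φ sgn) {a : G} (ha : a ∈ B0 t x φ) : t 15 * a * t 15 ∈ A0 t x φ := by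
  induction ha using Subgroup.closure_induction with
  | mem y hy =>
    obtain ⟨v, hv, rfl⟩ := hy
    rw [h.f_cw, h.f_be]
    exact al_mem hv
  | one => rw [mul_one, h.ff]; exact Subgroup.one_mem _
  | mul y z _ _ hy hz => rw [h.f_conj_mul]; exact Subgroup.mul_mem _ hy hz
  | inv y _ hy => rw [h.f_conj_inv]; exact Subgroup.inv_mem _ hy

/-- the product of the two factors -/
def DD (h : Setup t x φ sgn) : Subgroup G where
  carrier := {g | ∃ a ∈ A0 t x φ, ∃ b ∈ B0 t x φ, a * b = g}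
  one_mem' := ⟨1, Subgroup.one_mem _, 1, Subgroup.one_mem _, mul_one 1⟩
  mul_mem' := by
    rintro _ _ ⟨a, ha, b, hb, rfl⟩ ⟨a', ha', b', hb', rfl⟩
    refine ⟨a * a', Subgroup.mul_mem _ ha ha', b * b', Subgroup.mul_mem _ hb hb', ?_⟩
    have := h.AB_comm ha' hb
    calc a * a' * (b * b') = a * (a' * b) * b' := by simp only [mul_assoc]
      _ = a * (b * a') * b' := by rw [this]
      _ = a * b * (a' * b') := by simp only [mul_assoc]
  inv_mem' := by
    rintro _ ⟨a, ha, b, hb, rfl⟩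
    refine ⟨a⁻¹, Subgroup.inv_mem _ ha, b⁻¹, Subgroup.inv_mem _ hb, ?_⟩
    rw [← mul_inv_rev, h.AB_comm ha hb]

theorem A0_le (h : Setup t x φ sgn) : A0 t x φ ≤ h.DD := fun a ha =>
  ⟨a, ha, 1, Subgroup.one_mem _, mul_one a⟩

theorem B0_le (h : Setup t x φ sgn) : B0 t x φ ≤ h.DD := fun b hb =>
  ⟨1, Subgroup.one_mem _, b, hb, one_mul b⟩

theorem f_DD (h : Setup t x φ sgn) {g : G} (hg : g ∈ h.DD) : t 15 * g * t 15 ∈ h.DD := by
  obtain ⟨a, ha, b, hb, rfl⟩ := hg
  rw [h.f_conj_mul]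
  exact h.DD.mul_mem (h.B0_le (h.f_A0 ha)) (h.A0_le (h.f_B0 hb))

/-- words in the first thirteen nodes normalise `⟨z⟩` -/
theorem z_word (h : Setup t x φ sgn) {L : List ℕ} (hL : ∀ i ∈ L, i < 13) :
    (φ (ev x L))⁻¹ * z x φ * φ (ev x L) = z x φ ∨
      (φ (ev x L))⁻¹ * z x φ * φ (ev x L) = (z x φ)⁻¹ := by
  induction L with
  | nil => left; simp
  | cons i L ih =>
    have hi := hL i (by simp)
    have h1 := h.u_z hi
    have h2 := Square.inv_of_sq (h.uu (i := i) (by omega))
    have e : (φ (ev x (i :: L)))⁻¹ * z x φ * φ (ev x (i :: L)) =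
        ((φ (ev x L))⁻¹ * z x φ * φ (ev x L))⁻¹ := by
      rw [ev_cons, map_mul, mul_inv_rev, h2]
      calc (φ (ev x L))⁻¹ * φ (x i) * z x φ * (φ (x i) * φ (ev x L))
          = (φ (ev x L))⁻¹ * (φ (x i) * z x φ * φ (x i)) * φ (ev x L) := by
            simp only [mul_assoc]
        _ = _ := by rw [h1]; group
    rw [e]
    rcases ih (fun j hj => hL j (by simp [hj])) with h3 | h3
    · right; rw [h3]
    · left; rw [h3, inv_inv]

/-- the generation statement -/
theorem gen_mem (h : Setup t x φ sgn) {H : Subgroup G}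
    (hH : ∀ v ∈ pth, cw x φ v (z x φ) ∈ H) : ∀ k < 14, φ (x k) ∈ H := by
  intro k hk
  obtain ⟨v, L, hv, hvk, hL, he⟩ := a4_good h.xrel.cox k hk
  have hu := h.uu hk
  have hu' := Square.inv_of_sq hu
  have h1 := hH v hv
  have h2 := hH _ hvk
  have e1 : cw x φ (v ++ [k]) (z x φ) = φ (x k) * cw x φ v (z x φ) * φ (x k) := by
    unfold cw
    rw [ev_append, ev_cons, ev_nil, mul_one, map_mul, mul_inv_rev, hu']
    simp only [mul_assoc]
  rw [e1] at h2
  have hz3 : cw x φ v (z x φ) ^ 3 = 1 := by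
    have : cw x φ v (z x φ) = (φ (ev x v))⁻¹ * z x φ * ((φ (ev x v))⁻¹)⁻¹ := by
      unfold cw; rw [inv_inv]
    rw [this, conj_pow, h.z_cube, mul_one, mul_inv_cancel]
  refine Square.mem_closure hu hz3 ?_ h1 h2
  have hv' := ev_reverse (sq_of_lt h.xrel.cox (pth_lt v hv))
  have hLs : ∀ i ∈ L, x i * x i = 1 := fun i hi => h.xrel.cox.sq i (by have := hL i hi; omega)
  have hL' := ev_reverse hLs
  have h3 : φ (ev x v) * φ (x k) * (φ (ev x v))⁻¹ = φ (ev x L) * φ (x 13) * (φ (ev x L))⁻¹ := by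
    rw [ev_append, ev_append, ev_append, ev_append, hv', hL', ev_cons, ev_nil, mul_one, ev_cons,
      ev_nil, mul_one] at he
    rw [← map_inv, ← map_mul, ← map_mul, he, map_mul, map_mul, map_inv]
  have h4 : φ (x k) * cw x φ v (z x φ) = ((φ (ev x v))⁻¹ * φ (ev x L)) *
      (φ (x 13) * ((φ (ev x L))⁻¹ * z x φ * φ (ev x L))) *
        ((φ (ev x v))⁻¹ * φ (ev x L))⁻¹ := by
    calc φ (x k) * cw x φ v (z x φ)
        = (φ (ev x v))⁻¹ * (φ (ev x v) * φ (x k) * (φ (ev x v))⁻¹) * z x φ * φ (ev x v) := by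
          unfold cw; group
      _ = _ := by rw [h3]; group
  have h5 : (φ (x 13) * z x φ) ^ 3 = 1 := by
    unfold z; rw [← map_mul, ← map_pow, h.zrel.ord, map_one]
  have h6 : (φ (x 13) * (z x φ)⁻¹) ^ 3 = 1 := by
    have e : φ (x 13) * (z x φ)⁻¹ = φ (x 13) * (φ (x 13) * z x φ)⁻¹ * (φ (x 13))⁻¹ := by
      have := Square.inv_of_sq (h.uu (i := 13) (by norm_num))
      rw [mul_inv_rev, this]
      calc φ (x 13) * (z x φ)⁻¹ = φ (x 13) * (z x φ)⁻¹ * 1 := by rw [mul_one]
        _ = _ := by rw [← h.uu (i := 13) (by norm_num)]; simp only [mul_assoc]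
    rw [e, conj_pow, inv_pow, h5, inv_one, mul_one, mul_inv_cancel]
  rw [h4, conj_pow]
  rcases h.z_word hL with h7 | h7
  · rw [h7, h5, mul_one, mul_inv_cancel]
  · rw [h7, h6, mul_one, mul_inv_cancel]

theorem z_sq_sq (h : Setup t x φ sgn) : (z x φ * z x φ) * (z x φ * z x φ) = z x φ := by
  have h3 := h.z_cube
  rw [pow_three'] at h3
  calc (z x φ * z x φ) * (z x φ * z x φ) = z x φ * z x φ * z x φ * z x φ := by
        simp only [mul_assoc]
    _ = z x φ := by rw [h3, one_mul]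

theorem cw_z_mem_DD (h : Setup t x φ sgn) : ∀ v ∈ pth, cw x φ v (z x φ) ∈ h.DD := by
  intro v hv
  rw [← h.z_sq_sq, cw_mul, ← h.al_mul_be, cw_mul]
  have := h.DD.mul_mem (h.A0_le (al_mem hv)) (h.B0_le (be_mem hv))
  exact h.DD.mul_mem this this

theorem phi_x_mem (h : Setup t x φ sgn) : ∀ k < 14, φ (x k) ∈ h.DD := h.gen_mem h.cw_z_mem_DD

/-- generation by the nodes -/
theorem phi_le (h : Setup t x φ sgn) {H : Subgroup G} (hH : ∀ k < 14, φ (x k) ∈ H) (p : P) :
    φ p ∈ H := by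
  have hp : p ∈ Subgroup.closure (nodes 14 x) := by rw [h.xgen]; trivial
  induction hp using Subgroup.closure_induction with
  | mem y hy =>
    obtain ⟨i, hi, rfl⟩ := hy
    exact hH i hi
  | one => rw [map_one]; exact H.one_mem
  | mul y z _ _ hy hz => rw [map_mul]; exact H.mul_mem hy hz
  | inv y _ hy => rw [map_inv]; exact H.inv_mem hy

theorem phi_mem (h : Setup t x φ sgn) (p : P) : φ p ∈ h.DD := h.phi_le h.phi_x_mem p

theorem fe_mem (h : Setup t x φ sgn) : t 15 * t 14 ∈ h.DD := by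
  have h1 : t 15 * t 14 = (z x φ)⁻¹ * al t x φ := by unfold al; group
  rw [h1]
  refine h.DD.mul_mem (h.DD.inv_mem (h.phi_mem _)) (h.A0_le ?_)
  have := al_mem (t := t) (x := x) (φ := φ) nil_mem_pth
  rwa [cw_nil] at this

/-- the group is `DD ∪ f DD` -/
theorem mem_or (h : Setup t x φ sgn) (g : G) : g ∈ h.DD ∨ t 15 * g ∈ h.DD := by
  have hg : g ∈ Subgroup.closure (nodes 16 t) := by rw [h.gen]; trivial
  have key : ∀ g, t 15 * g ∈ h.DD → g * t 15 ∈ h.DD := by
    intro g hg
    have := h.f_DD hg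
    have e : t 15 * (t 15 * g) * t 15 = g * t 15 := by
      rw [← mul_assoc, h.ff, one_mul]
    rwa [e] at this
  induction hg using Subgroup.closure_induction with
  | mem y hy =>
    obtain ⟨i, hi, rfl⟩ := hy
    right
    by_cases h1 : i < 14
    · rw [← h.hphi i h1]; exact h.phi_x_mem i h1
    · have : i = 14 ∨ i = 15 := by omega
      rcases this with rfl | rfl
      · exact h.fe_mem
      · rw [h.ff]; exact h.DD.one_mem
  | one => left; exact h.DD.one_mem
  | mul y z _ _ hy hz =>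
    rcases hy with hy | hy <;> rcases hz with hz | hz
    · left; exact h.DD.mul_mem hy hz
    · right
      have h1 := h.f_DD hy
      have e : t 15 * (y * z) = (t 15 * y * t 15) * (t 15 * z) := by
        calc t 15 * (y * z) = t 15 * y * 1 * z := by rw [mul_one, mul_assoc]
          _ = _ := by rw [← h.ff]; simp only [mul_assoc]
      rw [e]
      exact h.DD.mul_mem h1 hz
    · right
      rw [← mul_assoc]
      exact h.DD.mul_mem hy hz
    · left
      have h1 := key y hy
      have e : y * z = (y * t 15) * (t 15 * z) := by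
        calc y * z = y * 1 * z := by rw [mul_one]
          _ = _ := by rw [← h.ff]; simp only [mul_assoc]
      rw [e]
      exact h.DD.mul_mem h1 hz
  | inv y _ hy =>
    rcases hy with hy | hy
    · left; exact h.DD.inv_mem hy
    · right
      have h1 := h.DD.inv_mem (key y hy)
      rwa [mul_inv_rev, Square.inv_of_sq h.ff] at h1

theorem sgn_z (h : Setup t x φ sgn) : sgn (z x φ) = 1 := by
  have h1 := congrArg sgn h.z_cube
  rw [map_pow, map_one] at h1
  have h2 := Int.units_mul_self (sgn (z x φ))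
  rwa [pow_three', h2, one_mul] at h1

theorem sgn_al (h : Setup t x φ sgn) : sgn (al t x φ) = 1 := by
  unfold al
  rw [map_mul, map_mul, h.sgn_z, h.hsgn 15 (by norm_num), h.hsgn 14 (by norm_num)]
  decide

theorem sgn_be (h : Setup t x φ sgn) : sgn (be t x φ) = 1 := by
  unfold be
  rw [map_mul, map_mul, h.sgn_z, h.hsgn 15 (by norm_num), h.hsgn 14 (by norm_num)]
  decide

theorem sgn_cw (h : Setup t x φ sgn) (v : List ℕ) (g : G) : sgn (cw x φ v g) = sgn g := by
  unfold cw
  rw [map_mul, map_mul, map_inv, mul_comm _ (sgn g), mul_assoc, inv_mul_cancel, mul_one]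

theorem sgn_DD (h : Setup t x φ sgn) {g : G} (hg : g ∈ h.DD) : sgn g = 1 := by
  have hA : A0 t x φ ≤ sgn.ker := by
    refine (Subgroup.closure_le _).mpr ?_
    rintro _ ⟨v, hv, rfl⟩
    show sgn _ = 1
    rw [h.sgn_cw, h.sgn_al]
  have hB : B0 t x φ ≤ sgn.ker := by
    refine (Subgroup.closure_le _).mpr ?_
    rintro _ ⟨v, hv, rfl⟩
    show sgn _ = 1
    rw [h.sgn_cw, h.sgn_be]
  obtain ⟨a, ha, b, hb, rfl⟩ := hg
  rw [map_mul, show sgn a = 1 from hA ha, show sgn b = 1 from hB hb, mul_one]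

theorem mem_DD_of_sgn (h : Setup t x φ sgn) {g : G} (hg : sgn g = 1) : g ∈ h.DD := by
  rcases h.mem_or g with h1 | h1
  · exact h1
  · exfalso
    have := h.sgn_DD h1
    rw [map_mul, hg, mul_one, h.hsgn 15 (by norm_num)] at this
    exact absurd this (by decide)

theorem al_mem_comm (h : Setup t x φ sgn) : al t x φ ∈ commutator G := by
  have h1 := h.u_al (i := 0) (by norm_num)
  have h2 := Square.inv_of_sq (h.uu (i := 0) (by norm_num))
  have h3 : ⁅φ (x 0), al t x φ⁆ = al t x φ := by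
    rw [commutatorElement_def, h2, h1]
    have h4 := h.al_cube
    rw [pow_three'] at h4
    calc (al t x φ)⁻¹ * (al t x φ)⁻¹ = (al t x φ)⁻¹ * (al t x φ)⁻¹ * 1 := by rw [mul_one]
      _ = (al t x φ)⁻¹ * (al t x φ)⁻¹ * (al t x φ * al t x φ * al t x φ) := by rw [h4]
      _ = al t x φ := by group
  rw [← h3]
  exact Subgroup.commutator_mem_commutator (Subgroup.mem_top _) (Subgroup.mem_top _)

theorem commutator_eq (h : Setup t x φ sgn) : commutator G = h.DD := by
  have hn : (commutator G).Normal := inferInstance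
  apply le_antisymm
  · intro g hg
    apply h.mem_DD_of_sgn
    have : commutator G ≤ sgn.ker := Abelianization.commutator_subset_ker sgn
    exact this hg
  · have hA : A0 t x φ ≤ commutator G := by
      refine (Subgroup.closure_le _).mpr ?_
      rintro _ ⟨v, hv, rfl⟩
      have := hn.conj_mem _ h.al_mem_comm (φ (ev x v))⁻¹
      rwa [inv_inv] at this
    have hb : be t x φ ∈ commutator G := by
      have := hn.conj_mem _ h.al_mem_comm (t 15)
      rwa [Square.inv_of_sq h.ff, h.f_al] at this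
    have hB : B0 t x φ ≤ commutator G := by
      refine (Subgroup.closure_le _).mpr ?_
      rintro _ ⟨v, hv, rfl⟩
      have := hn.conj_mem _ hb (φ (ev x v))⁻¹
      rwa [inv_inv] at this
    rintro _ ⟨a, ha, b, hb, rfl⟩
    exact (commutator G).mul_mem (hA ha) (hB hb)

/-- the map to the diagonal -/
def th (h : Setup t x φ sgn) : A0 t x φ →* G where
  toFun a := a.1 * (t 15 * a.1 * t 15)
  map_one' := by
    show 1 * (t 15 * 1 * t 15) = 1
    rw [one_mul, mul_one, h.ff]
  map_mul' a b := by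
    show a.1 * b.1 * (t 15 * (a.1 * b.1) * t 15) =
      a.1 * (t 15 * a.1 * t 15) * (b.1 * (t 15 * b.1 * t 15))
    have h1 := h.AB_comm b.2 (h.f_A0 a.2)
    rw [h.f_conj_mul]
    calc a.1 * b.1 * ((t 15 * a.1 * t 15) * (t 15 * b.1 * t 15))
        = a.1 * (b.1 * (t 15 * a.1 * t 15)) * (t 15 * b.1 * t 15) := by simp only [mul_assoc]
      _ = a.1 * ((t 15 * a.1 * t 15) * b.1) * (t 15 * b.1 * t 15) := by rw [h1]
      _ = _ := by simp only [mul_assoc]

theorem th_apply (h : Setup t x φ sgn) (a : A0 t x φ) : h.th a = a.1 * (t 15 * a.1 * t 15) := rfl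

theorem th_gen (h : Setup t x φ sgn) {v : List ℕ} (hv : v ∈ pth) :
    h.th ⟨_, al_mem hv⟩ = cw x φ v (z x φ * z x φ) := by
  rw [th_apply]
  show cw x φ v (al t x φ) * (t 15 * cw x φ v (al t x φ) * t 15) = _
  rw [h.f_cw, h.f_al, ← cw_mul, h.al_mul_be]

theorem th_mem (h : Setup t x φ sgn) (a : A0 t x φ) : h.th a ∈ φ.range := by
  have h1 : (⊤ : Subgroup (A0 t x φ)) ≤ φ.range.comap h.th := by
    have h2 : Subgroup.closure (((↑) : A0 t x φ → G) ⁻¹'
        {g | ∃ v ∈ pth, cw x φ v (al t x φ) = g}) = ⊤ := Subgroup.closure_closure_coe_preimage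
    rw [← h2]
    refine (Subgroup.closure_le _).mpr ?_
    rintro a ⟨v, hv, hva⟩
    have : a = ⟨_, al_mem hv⟩ := Subtype.ext hva.symm
    rw [this, SetLike.mem_coe, Subgroup.mem_comap, h.th_gen hv]
    refine ⟨(ev x v)⁻¹ * (ev x zW * ev x zW) * ev x v, ?_⟩
    unfold cw z
    simp only [map_mul, map_inv]
  exact h1 (Subgroup.mem_top a)

theorem phi_mem_th (h : Setup t x φ sgn) (p : P) : φ p ∈ h.th.range := by
  refine h.phi_le (H := h.th.range) (h.gen_mem ?_) p
  intro v hv
  have h1 : cw x φ v (z x φ * z x φ) ∈ h.th.range := ⟨_, h.th_gen hv⟩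
  rw [← h.z_sq_sq, cw_mul]
  exact Subgroup.mul_mem _ h1 h1

/-- the projection onto the presented group -/
noncomputable def pr (h : Setup t x φ sgn) (hφ : Function.Injective φ) : A0 t x φ →* P :=
  (MonoidHom.ofInjective hφ).symm.toMonoidHom.comp (h.th.codRestrict φ.range h.th_mem)

theorem phi_pr (h : Setup t x φ sgn) (hφ : Function.Injective φ) (a : A0 t x φ) :
    φ (h.pr hφ a) = h.th a := by
  have h1 : φ (h.pr hφ a) = ((MonoidHom.ofInjective hφ (h.pr hφ a) : φ.range) : G) := rfl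
  rw [h1]
  unfold pr
  rw [MonoidHom.comp_apply, MulEquiv.coe_toMonoidHom, MulEquiv.apply_symm_apply]
  rfl

theorem pr_ker (h : Setup t x φ sgn) (hφ : Function.Injective φ) {a : A0 t x φ}
    (ha : h.pr hφ a = 1) : a.1 ∈ B0 t x φ := by
  have h1 := h.phi_pr hφ a
  rw [ha, map_one, th_apply] at h1
  have h2 : a.1 = (t 15 * a.1 * t 15)⁻¹ := eq_inv_of_mul_eq_one_left h1.symm
  rw [h2]
  exact Subgroup.inv_mem _ (h.f_A0 a.2)

theorem pr_ext (h : Setup t x φ sgn) (hφ : Function.Injective φ) : Ext (h.pr hφ) := by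
  constructor
  · intro p
    obtain ⟨a, ha⟩ := h.phi_mem_th p
    refine ⟨a, hφ ?_⟩
    rw [h.phi_pr, ha]
  · intro k hk g
    have h1 := h.AB_comm g.2 (h.pr_ker hφ hk)
    exact Subtype.ext h1.symm

theorem A0_perfect (h : Setup t x φ sgn) : commutator (A0 t x φ) = ⊤ := by
  rw [eq_top_iff]
  have h2 : Subgroup.closure (((↑) : A0 t x φ → G) ⁻¹'
      {g | ∃ v ∈ pth, cw x φ v (al t x φ) = g}) = ⊤ := Subgroup.closure_closure_coe_preimage
  rw [← h2]
  refine (Subgroup.closure_le _).mpr ?_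
  rintro a ⟨v, hv, hva⟩
  -- the conjugate of `u₀` inverts the generator
  have h3 : φ ((ev x v)⁻¹ * x 0 * ev x v) ∈ h.DD := h.phi_mem _
  obtain ⟨p, hp, q, hq, hpq⟩ := h3
  have h4 : φ ((ev x v)⁻¹ * x 0 * ev x v) * a.1 * (φ ((ev x v)⁻¹ * x 0 * ev x v))⁻¹ = a.1⁻¹ := by
    rw [← hva]
    have h5 := h.u_al (i := 0) (by norm_num)
    have h6 := Square.inv_of_sq (h.uu (i := 0) (by norm_num))
    simp only [map_mul, map_inv]
    unfold cw
    calc (φ (ev x v))⁻¹ * φ (x 0) * φ (ev x v) * ((φ (ev x v))⁻¹ * al t x φ * φ (ev x v)) *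
          ((φ (ev x v))⁻¹ * φ (x 0) * φ (ev x v))⁻¹
        = (φ (ev x v))⁻¹ * (φ (x 0) * al t x φ * (φ (x 0))⁻¹) * φ (ev x v) := by group
      _ = _ := by rw [h6, h5]; group
  have h7 : a.1 ^ 3 = 1 := by
    rw [← hva]
    have : cw x φ v (al t x φ) = (φ (ev x v))⁻¹ * al t x φ * ((φ (ev x v))⁻¹)⁻¹ := by
      unfold cw; rw [inv_inv]
    rw [this, conj_pow, h.al_cube, mul_one, mul_inv_cancel]
  have h8 : p * a.1 * p⁻¹ = a.1⁻¹ := by
    rw [← h4, ← hpq]
    have := h.AB_comm a.2 hq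
    calc p * a.1 * p⁻¹ = p * (a.1 * q) * q⁻¹ * p⁻¹ := by group
      _ = p * (q * a.1) * q⁻¹ * p⁻¹ := by rw [this]
      _ = _ := by group
  have h9 : ⁅(⟨p, hp⟩ : A0 t x φ), a⁆ = a := by
    apply Subtype.ext
    show p * a.1 * p⁻¹ * a.1⁻¹ = a.1
    rw [h8]
    rw [pow_three'] at h7
    calc a.1⁻¹ * a.1⁻¹ = a.1⁻¹ * a.1⁻¹ * 1 := by rw [mul_one]
      _ = a.1⁻¹ * a.1⁻¹ * (a.1 * a.1 * a.1) := by rw [h7]
      _ = a.1 := by group
  rw [SetLike.mem_coe, ← h9]
  exact Subgroup.commutator_mem_commutator (Subgroup.mem_top _) (Subgroup.mem_top _)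

end

/-- **Closing**: the centraliser of `f` in the commutator subgroup is the diagonal. -/
theorem centralizer_eq {G P : Type} [Group G] [Group P]
    {t : ℕ → G} {x : ℕ → P} {φ : P →* G} {sgn : G →* ℤˣ}
    (h : Setup t x φ sgn) (hF : FiFacts) (hφ : Function.Injective φ) (hU : Univ.{0} x)
    (hZ : ∀ c : P, (∀ p, c * p = p * c) → c = 1) :
    Subgroup.centralizer {t 15} ⊓ commutator G = φ.range := by
  have hcube := (h.pr_ext hφ).cube_eq_one hF h.A0_perfect h.xrel h.xgen hU
  apply le_antisymm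
  · rintro g ⟨hg1, hg2⟩
    have hg2' : g ∈ h.DD := by rw [← h.commutator_eq]; exact hg2
    obtain ⟨a, ha, b, hb, rfl⟩ := hg2'
    have hg3 : t 15 * (a * b) = (a * b) * t 15 :=
      (Subgroup.mem_centralizer_iff.mp hg1) (t 15) rfl
    have hg4 : t 15 * (a * b) * t 15 = a * b := by
      rw [hg3, mul_assoc, h.ff, mul_one]
    have hfa := h.f_A0 ha
    have hfb := h.f_B0 hb
    rw [h.f_conj_mul, ← h.AB_comm hfb hfa] at hg4
    -- `c = a⁻¹ (f b f) = b (f a f)⁻¹`
    obtain ⟨c, hc⟩ : ∃ c, c = a⁻¹ * (t 15 * b * t 15) := ⟨_, rfl⟩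
    have hc1 : c = b * (t 15 * a * t 15)⁻¹ := by
      calc c = a⁻¹ * ((t 15 * b * t 15) * (t 15 * a * t 15)) * (t 15 * a * t 15)⁻¹ := by
            rw [hc]; group
        _ = a⁻¹ * (a * b) * (t 15 * a * t 15)⁻¹ := by rw [hg4]
        _ = _ := by group
    have hcA : c ∈ A0 t x φ := by
      rw [hc]; exact Subgroup.mul_mem _ (Subgroup.inv_mem _ ha) hfb
    have hcB : c ∈ B0 t x φ := by
      rw [hc1]; exact Subgroup.mul_mem _ hb (Subgroup.inv_mem _ hfa)
    have hcD : ∀ g ∈ h.DD, c * g = g * c := by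
      rintro _ ⟨a', ha', b', hb', rfl⟩
      have h1 := h.AB_comm ha' hcB
      have h2 := h.AB_comm hcA hb'
      calc c * (a' * b') = (c * a') * b' := by rw [mul_assoc]
        _ = (a' * c) * b' := by rw [h1]
        _ = a' * (c * b') := by rw [mul_assoc]
        _ = a' * (b' * c) := by rw [h2]
        _ = _ := by rw [mul_assoc]
    have e1 : t 15 * b * t 15 = a * c := by rw [hc]; group
    have e2 : b = c * (t 15 * a * t 15) := by rw [hc1]; group
    have hfc : t 15 * c * t 15 = c := by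
      have e3 : t 15 * b * t 15 = (t 15 * c * t 15) * a := by
        rw [e2, h.f_conj_mul, h.f_conj_conj]
      rw [e1, ← hcD a (h.A0_le ha)] at e3
      exact (mul_right_cancel e3).symm
    -- `θ c = c²` is central
    have hth : h.th ⟨c, hcA⟩ = c * c := by rw [th_apply, hfc]
    have hπc : h.pr hφ ⟨c, hcA⟩ = 1 := by
      apply hZ
      intro p
      apply hφ
      rw [map_mul, map_mul, h.phi_pr, hth]
      have h1 := hcD _ (h.phi_mem p)
      calc c * c * φ p = c * (c * φ p) := by rw [mul_assoc]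
        _ = c * (φ p * c) := by rw [h1]
        _ = (c * φ p) * c := by rw [mul_assoc]
        _ = φ p * c * c := by rw [h1]
        _ = _ := by rw [mul_assoc]
    have hc2 : c * c = 1 := by rw [← hth, ← h.phi_pr hφ, hπc, map_one]
    have hc3 : c ^ 3 = 1 := congrArg Subtype.val (hcube ⟨c, hcA⟩ hπc)
    have hc4 : c = 1 := by rwa [pow_three', hc2, one_mul] at hc3
    rw [hc4, one_mul] at e2
    rw [e2]
    exact h.th_mem ⟨a, ha⟩
  · rintro _ ⟨p, rfl⟩
    have h1 : φ p ∈ Subgroup.centralizer {t 15} := by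
      rw [Subgroup.mem_centralizer_iff]
      rintro _ rfl
      exact h.f_phi p
    have h2 : φ p ∈ commutator G := by
      rw [h.commutator_eq]; exact h.phi_mem p
    exact ⟨h1, h2⟩

end Setup

end Cfsg.Agent.Bimonster
end

-- part: Bimonster/Main
section
/-! # The presented Monster is the centraliser in the Bimonster -/

set_option autoImplicit false
set_option linter.unusedVariables false
set_option linter.constructorNameAsVariable false
set_option linter.unusedSectionVars false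

namespace Cfsg.Agent.Bimonster

open Tits
open scoped commutatorElement

/-! ## The presented group -/

/-- all relators -/
def relsM : Set (FreeGroup (Fin 14)) :=
  {r | ∀ (Q : Type) [Group Q] (v : ℕ → Q), PRel v → FreeGroup.lift (fun i : Fin 14 => v i) r = 1}

/-- the group presented by `PRel` -/
abbrev PM : Type := PresentedGroup relsM

/-- the letters as words -/
def wM (i : ℕ) : FreeGroup (Fin 14) := if h : i < 14 then FreeGroup.of ⟨i, h⟩ else 1

/-- the nodes -/
def xM (i : ℕ) : PM := PresentedGroup.mk relsM (wM i)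

theorem lift_wM {Q : Type} [Group Q] (v : ℕ → Q) {i : ℕ} (hi : i < 14) :
    FreeGroup.lift (fun i : Fin 14 => v i) (wM i) = v i := by
  unfold wM
  rw [dif_pos hi, FreeGroup.lift_apply_of]

theorem lift_ev_wM {Q : Type} [Group Q] (v : ℕ → Q) {w : List ℕ} (hw : ∀ i ∈ w, i < 14) :
    FreeGroup.lift (fun i : Fin 14 => v i) (ev wM w) = ev v w := by
  rw [map_ev]
  exact ev_congr fun i hi => lift_wM v (hw i hi)

theorem mk_ev_wM (w : List ℕ) : PresentedGroup.mk relsM (ev wM w) = ev xM w := by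
  rw [map_ev]; rfl

theorem mk_eq_one {r : FreeGroup (Fin 14)}
    (h : ∀ (Q : Type) [Group Q] (v : ℕ → Q), PRel v →
      FreeGroup.lift (fun i : Fin 14 => v i) r = 1) : PresentedGroup.mk relsM r = 1 :=
  PresentedGroup.one_of_mem h

theorem mk_eq {r s : FreeGroup (Fin 14)}
    (h : ∀ (Q : Type) [Group Q] (v : ℕ → Q), PRel v →
      FreeGroup.lift (fun i : Fin 14 => v i) r = FreeGroup.lift (fun i : Fin 14 => v i) s) :
    PresentedGroup.mk relsM r = PresentedGroup.mk relsM s := by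
  have : PresentedGroup.mk relsM (r * s⁻¹) = 1 := mk_eq_one fun Q _ v hv => by
    rw [map_mul, map_inv, h Q v hv, mul_inv_cancel]
  rw [map_mul, map_inv] at this
  exact mul_inv_eq_one.mp this

theorem xM_prel : PRel xM := by
  refine ⟨⟨?_, ?_, ?_⟩, ?_, ?_, ?_, ?_, ?_, ?_, ?_⟩
  · intro i hi
    have := mk_eq (r := wM i * wM i) (s := 1) fun Q _ v hv => by
      rw [map_mul, lift_wM v hi, hv.cox.sq i hi, map_one]
    rwa [map_mul, map_one] at this
  · intro i hi j hj hij
    have := mk_eq (r := wM i * wM j) (s := wM j * wM i) fun Q _ v hv => by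
      rw [map_mul, map_mul, lift_wM v hi, lift_wM v hj, hv.cox.cm i hi j hj hij]
    rwa [map_mul, map_mul] at this
  · intro i hi j hj hij
    have := mk_eq (r := wM i * wM j * wM i) (s := wM j * wM i * wM j) fun Q _ v hv => by
      simp only [map_mul, lift_wM v hi, lift_wM v hj, hv.cox.br i hi j hj hij]
    simp only [map_mul] at this
    exact this
  · have := mk_eq (r := ev wM spW ^ 10) (s := 1) fun Q _ v hv => by
      rw [map_pow, lift_ev_wM v (by decide), hv.spider, map_one]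
    rwa [map_pow, mk_ev_wM, map_one] at this
  · have := mk_eq (r := wM 5) (s := ev wM f1a ^ 9) fun Q _ v hv => by
      rw [map_pow, lift_ev_wM v (by decide), lift_wM v (by norm_num), ← hv.f1a]
    rwa [map_pow, mk_ev_wM] at this
  · have := mk_eq (r := wM 5) (s := ev wM f1b ^ 9) fun Q _ v hv => by
      rw [map_pow, lift_ev_wM v (by decide), lift_wM v (by norm_num), ← hv.f1b]
    rwa [map_pow, mk_ev_wM] at this
  · have := mk_eq (r := wM 10) (s := ev wM f2a ^ 9) fun Q _ v hv => by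
      rw [map_pow, lift_ev_wM v (by decide), lift_wM v (by norm_num), ← hv.f2a]
    rwa [map_pow, mk_ev_wM] at this
  · have := mk_eq (r := wM 10) (s := ev wM f2b ^ 9) fun Q _ v hv => by
      rw [map_pow, lift_ev_wM v (by decide), lift_wM v (by norm_num), ← hv.f2b]
    rwa [map_pow, mk_ev_wM] at this
  · have := mk_eq (r := ev wM f3a ^ 9) (s := 1) fun Q _ v hv => by
      rw [map_pow, lift_ev_wM v (by decide), hv.f3a, map_one]
    rwa [map_pow, mk_ev_wM, map_one] at this
  · have := mk_eq (r := ev wM f3b ^ 9) (s := 1) fun Q _ v hv => by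
      rw [map_pow, lift_ev_wM v (by decide), hv.f3b, map_one]
    rwa [map_pow, mk_ev_wM, map_one] at this

theorem xM_univ : Univ.{0} xM := by
  intro Q _ v hv
  have hr : ∀ r ∈ relsM, FreeGroup.lift (fun i : Fin 14 => v i) r = 1 := fun r hr => hr Q v hv
  refine ⟨PresentedGroup.toGroup hr, fun i hi => ?_⟩
  have : xM i = PresentedGroup.of (rels := relsM) ⟨i, hi⟩ := by
    unfold xM wM; rw [dif_pos hi]; rfl
  rw [this, PresentedGroup.toGroup.of]

theorem xM_gen : Subgroup.closure (nodes 14 xM) = ⊤ := by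
  rw [eq_top_iff, ← PresentedGroup.closure_range_of relsM]
  refine (Subgroup.closure_le _).mpr ?_
  rintro _ ⟨i, rfl⟩
  refine Subgroup.subset_closure ⟨i.1, i.2, ?_⟩
  unfold xM wM
  rw [dif_pos i.2]; rfl

/-! ## Twisting by a central involution -/

section twist

variable {G : Type*} [Group G] {f : G} {s : ℕ → G}

theorem twist_cox (hf : f * f = 1) (hfs : ∀ i < 14, f * s i = s i * f) (hs : CoxRel 14 s) :
    CoxRel 14 (fun i => f * s i) := by
  constructor
  · intro i hi
    calc f * s i * (f * s i) = f * (s i * f) * s i := by simp only [mul_assoc]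
      _ = (f * f) * (s i * s i) := by rw [← hfs i hi]; simp only [mul_assoc]
      _ = 1 := by rw [hf, hs.sq i hi, one_mul]
  · intro i hi j hj hij
    calc f * s i * (f * s j) = f * (s i * f) * s j := by simp only [mul_assoc]
      _ = (f * f) * (s i * s j) := by rw [← hfs i hi]; simp only [mul_assoc]
      _ = (f * f) * (s j * s i) := by rw [hs.cm i hi j hj hij]
      _ = f * (f * s j) * s i := by simp only [mul_assoc]
      _ = f * (s j * f) * s i := by rw [hfs j hj]
      _ = f * s j * (f * s i) := by simp only [mul_assoc]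
  · have key : ∀ i < 14, ∀ j < 14, f * s i * (f * s j) * (f * s i) = f * (s i * s j * s i) := by
      intro i hi j hj
      calc f * s i * (f * s j) * (f * s i) = f * (s i * f) * (s j * f) * s i := by
            simp only [mul_assoc]
        _ = f * (f * s i) * (f * s j) * s i := by rw [← hfs i hi, ← hfs j hj]
        _ = (f * f) * (s i * f) * s j * s i := by simp only [mul_assoc]
        _ = f * (s i * s j * s i) := by rw [hf, ← hfs i hi]; simp only [mul_assoc, one_mul]
    intro i hi j hj hij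
    show f * s i * (f * s j) * (f * s i) = f * s j * (f * s i) * (f * s j)
    rw [key i hi j hj, key j hj i hi, hs.br i hi j hj hij]

theorem comm_ev' {w : List ℕ} (hf : ∀ i ∈ w, f * s i = s i * f) :
    f * ev s w = ev s w * f := Setup.comm_ev hf

theorem twist_odd (hf : f * f = 1) (hfs : ∀ i < 14, f * s i = s i * f) {w : List ℕ}
    (hw : ∀ i ∈ w, i < 14) {n m : ℕ} (hn : w.length * n = 2 * m + 1) :
    ev (fun i => f * s i) w ^ n = f * ev s w ^ n := by
  have hc : Commute f (ev s w) := comm_ev' fun i hi => hfs i (hw i hi)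
  rw [Setup.ev_mul_central fun i hi => hfs i (hw i hi), (hc.pow_left _).mul_pow, ← pow_mul, hn,
    pow_succ, pow_mul, pow_two, hf, one_pow, one_mul]

theorem twist_even (hf : f * f = 1) (hfs : ∀ i < 14, f * s i = s i * f) {w : List ℕ}
    (hw : ∀ i ∈ w, i < 14) {n m : ℕ} (hn : w.length * n = 2 * m) :
    ev (fun i => f * s i) w ^ n = ev s w ^ n := by
  have hc : Commute f (ev s w) := comm_ev' fun i hi => hfs i (hw i hi)
  rw [Setup.ev_mul_central fun i hi => hfs i (hw i hi), (hc.pow_left _).mul_pow, ← pow_mul, hn,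
    pow_mul, pow_two, hf, one_pow, one_mul]

end twist

/-- the diagonal family of the Bimonster satisfies the relations of the Monster -/
theorem BiRel.prel {G : Type*} [Group G] {t : ℕ → G} (h : BiRel t) :
    PRel (fun i => t 15 * t i) := by
  have hf : t 15 * t 15 = 1 := h.cox.sq 15 (by norm_num)
  have hadj : ∀ i < 14, adjB 15 i = false := by decide
  have hfs : ∀ i < 14, t 15 * t i = t i * t 15 := fun i hi =>
    h.cox.cm 15 (by norm_num) i (by omega) (hadj i hi)
  refine ⟨twist_cox hf hfs (h.cox.mono (by norm_num)), ?_, ?_, ?_, ?_, ?_, ?_, ?_⟩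
  · rw [twist_even hf hfs (by decide) (m := 45) (by decide), h.spider]
  · rw [twist_odd hf hfs (by decide) (m := 31) (by decide), ← h.f1a]
  · rw [twist_odd hf hfs (by decide) (m := 31) (by decide), ← h.f1b]
  · rw [twist_odd hf hfs (by decide) (m := 31) (by decide), ← h.f2a]
  · rw [twist_odd hf hfs (by decide) (m := 31) (by decide), ← h.f2b]
  · rw [twist_odd hf hfs (by decide) (m := 31) (by decide), ← h.f3a, hf]
  · rw [twist_odd hf hfs (by decide) (m := 31) (by decide), ← h.f3b, hf]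

/-! ## The wreath product -/

section wreath

variable {P : Type*} [Group P]

/-- left multiplication on both copies -/
def wL : P →* Equiv.Perm (Bool × P) where
  toFun p := {
    toFun := fun a => (a.1, p * a.2)
    invFun := fun a => (a.1, p⁻¹ * a.2)
    left_inv := fun a => by simp
    right_inv := fun a => by simp }
  map_one' := by ext a <;> simp
  map_mul' p q := by ext a <;> simp [mul_assoc]

/-- the exchange of the two copies -/
def wS : Equiv.Perm (Bool × P) where
  toFun a := (!a.1, a.2)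
  invFun a := (!a.1, a.2)
  left_inv a := by simp
  right_inv a := by simp

/-- the antidiagonal element -/
def wZ (ζ : P) : Equiv.Perm (Bool × P) where
  toFun a := (a.1, (bif a.1 then ζ⁻¹ else ζ) * a.2)
  invFun a := (a.1, (bif a.1 then ζ⁻¹ else ζ)⁻¹ * a.2)
  left_inv a := by simp
  right_inv a := by simp

theorem wL_apply (p : P) (a : Bool × P) : wL p a = (a.1, p * a.2) := rfl
theorem wS_apply (a : Bool × P) : wS a = (!a.1, a.2) := rfl
theorem wZ_apply (ζ : P) (a : Bool × P) : wZ ζ a = (a.1, (bif a.1 then ζ⁻¹ else ζ) * a.2) := rfl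

theorem wL_inj : Function.Injective (wL (P := P)) := by
  intro p q h
  have := congrArg (fun e => (e (true, 1)).2) h
  simpa [wL_apply] using this

theorem wS_sq : wS * wS = (1 : Equiv.Perm (Bool × P)) := by
  ext a <;> simp [wS_apply, Equiv.Perm.mul_apply]

theorem wS_wL (p : P) : wS * wL p = wL p * wS := by
  ext a <;> simp [wS_apply, wL_apply, Equiv.Perm.mul_apply]

/-- the family in the wreath product -/
def wT (x : ℕ → P) (i : ℕ) : Equiv.Perm (Bool × P) :=
  if i < 14 then wS * wL (x i) else if i = 14 then wS * wZ (ev x zW) else wS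

theorem wT_lt (x : ℕ → P) {i : ℕ} (hi : i < 14) : wT x i = wS * wL (x i) := if_pos hi
theorem wT_14 (x : ℕ → P) : wT x 14 = wS * wZ (ev x zW) := rfl
theorem wT_15 (x : ℕ → P) : wT x 15 = wS := rfl

theorem wT_birel {x : ℕ → P} (hx : PRel x) (hz : ZRel x) : BiRel (wT x) := by
  have hfs : ∀ i < 14, wS * wL (x i) = wL (x i) * wS := fun i _ => wS_wL _
  have hcL : CoxRel 14 (fun i => wL (x i)) := hx.cox.map wL
  have hc := twist_cox wS_sq hfs hcL
  have hT : ∀ w : List ℕ, (∀ i ∈ w, i < 14) → ev (wT x) w = ev (fun i => wS * wL (x i)) w :=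
    fun w hw => ev_congr fun i hi => wT_lt x (hw i hi)
  -- the node 14
  have s14 : wT x 14 * wT x 14 = 1 := by
    rw [wT_14]
    ext a <;> simp [wS_apply, wZ_apply, Equiv.Perm.mul_apply]
    cases a.1 <;> simp
  have c14 : ∀ i < 13, wT x 14 * wT x i = wT x i * wT x 14 := by
    intro i hi
    have h1 := hz.inv i hi
    have h2 := hx.cox.sq i (by omega)
    have h3 : x i * ev x zW = (ev x zW)⁻¹ * x i := by
      calc x i * ev x zW = x i * ev x zW * (x i * x i) := by rw [h2, mul_one]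
        _ = _ := by rw [← h1]; simp only [mul_assoc]
    have h4 : x i * (ev x zW)⁻¹ = ev x zW * x i := by
      calc x i * (ev x zW)⁻¹ = x i * (x i * ev x zW * x i) := by rw [h1]
        _ = (x i * x i) * (ev x zW * x i) := by simp only [mul_assoc]
        _ = _ := by rw [h2, one_mul]
    rw [wT_14, wT_lt x (by omega : i < 14)]
    ext a
    · simp [wS_apply, wZ_apply, wL_apply, Equiv.Perm.mul_apply]
    · simp only [wS_apply, wZ_apply, wL_apply, Equiv.Perm.mul_apply]
      cases a.1 <;> simp only [Bool.not_false, Bool.not_true, cond_true, cond_false, ← mul_assoc]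
      · rw [h3]
      · rw [h4]
  have br_of : ∀ {a b : Equiv.Perm (Bool × P)}, a * a = 1 → b * b = 1 →
      (a * b) ^ 3 = 1 → a * b * a = b * a * b := by
    intro a b ha hb hab
    rw [pow_three'] at hab
    have ha' := Square.inv_of_sq ha
    have hb' := Square.inv_of_sq hb
    have : a * b * a * (b * a * b) = 1 := by rw [← hab]; simp only [mul_assoc]
    have h2 := eq_inv_of_mul_eq_one_left this
    rw [h2, mul_inv_rev, mul_inv_rev, ha', hb', mul_assoc]
  have s15 : wT x 15 * wT x 15 = 1 := by rw [wT_15]; exact wS_sq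
  have s13 : wT x 13 * wT x 13 = 1 := by
    rw [wT_lt x (by norm_num : 13 < 14)]; exact hc.sq 13 (by norm_num)
  have b1415 : wT x 14 * wT x 15 * wT x 14 = wT x 15 * wT x 14 * wT x 15 := by
    apply br_of s14 s15
    have h3 := hz.cube
    rw [pow_three'] at h3
    have h3' : (ev x zW)⁻¹ * (ev x zW)⁻¹ * (ev x zW)⁻¹ = 1 := by
      rw [← mul_inv_rev, ← mul_inv_rev, ← mul_assoc, h3, inv_one]
    rw [wT_14, wT_15, pow_three']
    ext a
    · simp [wS_apply, wZ_apply, Equiv.Perm.mul_apply]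
    · simp only [wS_apply, wZ_apply, Equiv.Perm.mul_apply, Equiv.Perm.one_apply]
      cases a.1 <;> simp only [Bool.not_false, Bool.not_true, cond_true, cond_false, ← mul_assoc]
      · rw [h3', one_mul]
      · rw [h3, one_mul]
  have b1314 : wT x 13 * wT x 14 * wT x 13 = wT x 14 * wT x 13 * wT x 14 := by
    apply br_of s13 s14
    have h3 := hz.ord
    rw [pow_three'] at h3
    have hq := hx.cox.sq 13 (by norm_num)
    have hq' := Square.inv_of_sq hq
    have h3' : x 13 * (ev x zW)⁻¹ * (x 13 * (ev x zW)⁻¹) * (x 13 * (ev x zW)⁻¹) = 1 := by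
      have h4 := congrArg (fun g => x 13 * g⁻¹ * x 13) h3
      simp only [mul_inv_rev, hq', inv_one, mul_one, hq] at h4
      calc x 13 * (ev x zW)⁻¹ * (x 13 * (ev x zW)⁻¹) * (x 13 * (ev x zW)⁻¹)
          = x 13 * (ev x zW)⁻¹ * (x 13 * (ev x zW)⁻¹) * (x 13 * (ev x zW)⁻¹) * 1 := by
            rw [mul_one]
        _ = _ := by rw [← hq]; simp only [mul_assoc]
        _ = 1 := h4
    rw [wT_14, wT_lt x (by norm_num : 13 < 14), pow_three']
    ext a
    · simp [wS_apply, wZ_apply, wL_apply, Equiv.Perm.mul_apply]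
    · simp only [wS_apply, wZ_apply, wL_apply, Equiv.Perm.mul_apply, Equiv.Perm.one_apply]
      cases a.1 <;> simp only [Bool.not_false, Bool.not_true, cond_true, cond_false, ← mul_assoc]
      · rw [show x 13 * ev x zW * x 13 * ev x zW * x 13 * ev x zW = 1 by
          rw [← h3]; simp only [mul_assoc], one_mul]
      · rw [show x 13 * (ev x zW)⁻¹ * x 13 * (ev x zW)⁻¹ * x 13 * (ev x zW)⁻¹ = 1 by
          rw [← h3']; simp only [mul_assoc], one_mul]
  have c15 : ∀ i < 14, wT x 15 * wT x i = wT x i * wT x 15 := by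
    intro i hi
    rw [wT_15, wT_lt x hi, mul_assoc, ← wS_wL]
  refine ⟨⟨?_, ?_, ?_⟩, ?_, ?_, ?_, ?_, ?_, ?_, ?_⟩
  · intro i hi
    by_cases h1 : i < 14
    · rw [wT_lt x h1]; exact hc.sq i h1
    · have : i = 14 ∨ i = 15 := by omega
      rcases this with rfl | rfl
      exacts [s14, s15]
  · intro i hi j hj hij
    have k14 : ∀ i < 14, adjB i 14 = false → i < 13 := by decide
    have k14' : ∀ i < 14, adjB 14 i = false → i < 13 := by decide
    rcases (show i < 14 ∨ i = 14 ∨ i = 15 by omega) with h1 | rfl | rfl <;>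
      rcases (show j < 14 ∨ j = 14 ∨ j = 15 by omega) with h2 | rfl | rfl
    · rw [wT_lt x h1, wT_lt x h2]; exact hc.cm i h1 j h2 hij
    · exact (c14 i (k14 i h1 hij)).symm
    · exact (c15 i h1).symm
    · exact c14 j (k14' j h2 hij)
    · rfl
    · exact absurd hij (by decide)
    · exact c15 j h2
    · exact absurd hij (by decide)
    · rfl
  · intro i hi j hj hij
    have k14 : ∀ i < 14, adjB i 14 = true → i = 13 := by decide
    have k14' : ∀ i < 14, adjB 14 i = true → i = 13 := by decide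
    have k15 : ∀ i < 14, adjB i 15 = false := by decide
    have k15' : ∀ i < 14, adjB 15 i = false := by decide
    rcases (show i < 14 ∨ i = 14 ∨ i = 15 by omega) with h1 | rfl | rfl <;>
      rcases (show j < 14 ∨ j = 14 ∨ j = 15 by omega) with h2 | rfl | rfl
    · rw [wT_lt x h1, wT_lt x h2]; exact hc.br i h1 j h2 hij
    · rw [k14 i h1 hij]; exact b1314
    · rw [k15 i h1] at hij; exact absurd hij (by decide)
    · rw [k14' j h2 hij]; exact b1314.symm
    · rfl
    · exact b1415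
    · rw [k15' j h2] at hij; exact absurd hij (by decide)
    · exact b1415.symm
    · rfl
  · rw [hT _ (by decide), twist_even wS_sq hfs (by decide) (m := 45) (by decide), ← map_ev,
      ← map_pow, hx.spider, map_one]
  · rw [hT _ (by decide), twist_odd wS_sq hfs (by decide) (m := 31) (by decide), ← map_ev,
      ← map_pow, ← hx.f1a, wT_lt x (by norm_num)]
  · rw [hT _ (by decide), twist_odd wS_sq hfs (by decide) (m := 31) (by decide), ← map_ev,
      ← map_pow, ← hx.f1b, wT_lt x (by norm_num)]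
  · rw [hT _ (by decide), twist_odd wS_sq hfs (by decide) (m := 31) (by decide), ← map_ev,
      ← map_pow, ← hx.f2a, wT_lt x (by norm_num)]
  · rw [hT _ (by decide), twist_odd wS_sq hfs (by decide) (m := 31) (by decide), ← map_ev,
      ← map_pow, ← hx.f2b, wT_lt x (by norm_num)]
  · rw [hT _ (by decide), twist_odd wS_sq hfs (by decide) (m := 31) (by decide), ← map_ev,
      ← map_pow, hx.f3a, map_one, mul_one, wT_15]
  · rw [hT _ (by decide), twist_odd wS_sq hfs (by decide) (m := 31) (by decide), ← map_ev,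
      ← map_pow, hx.f3b, map_one, mul_one, wT_15]

end wreath

end Cfsg.Agent.Bimonster
end

private theorem dce_6998b77f39f7 : _root_.True := by
  try have : _root_.True := by simp only [_root_.Cfsg.Agent.Bimonster.Square.cj.eq_1]
  exact _root_.True.intro
end

-- part: Bimonster/Bim
section
prune_inst 0x4000020043100000000000010000000400000000200000001410000040840840100020000ba00030001000820480a800000000019003800002000820040000120040120e00034100001000040e800000000000000000000000000000000000000000000000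
set_option linter.all false
open scoped Cfsg.Agent.FastGrp

/-! # The Bimonster as presented in the prelude, and the final theorem -/

set_option autoImplicit false
set_option linter.unusedVariables false
set_option linter.constructorNameAsVariable false
set_option linter.unusedSectionVars false

namespace Cfsg.Agent.Bimonster

open Tits Cfsg.Spor
open scoped commutatorElement

/-- the letters -/
def biGen : ℕ → Spor.Bimonster.Gen
  | 0 => .a
  | 1 => .b1
  | 2 => .c1
  | 3 => .d1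
  | 4 => .e1
  | 5 => .f1
  | 6 => .b2
  | 7 => .c2
  | 8 => .d2
  | 9 => .e2
  | 10 => .f2
  | 11 => .b3
  | 12 => .c3
  | 13 => .d3
  | 14 => .e3
  | _ => .f3

/-- numbers of the generators -/
def biIdx : Spor.Bimonster.Gen → ℕ
  | .a => 0
  | .b1 => 1
  | .c1 => 2
  | .d1 => 3
  | .e1 => 4
  | .f1 => 5
  | .b2 => 6
  | .c2 => 7
  | .d2 => 8
  | .e2 => 9
  | .f2 => 10
  | .b3 => 11
  | .c3 => 12
  | .d3 => 13
  | .e3 => 14
  | .f3 => 15

theorem biIdx_lt (g : Spor.Bimonster.Gen) : biIdx g < 16 := by cases g <;> decide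

theorem biGen_idx (g : Spor.Bimonster.Gen) : biGen (biIdx g) = g := by cases g <;> rfl

theorem biIdx_gen : ∀ i < 16, biIdx (biGen i) = i := by decide

/-- the nodes of the Bimonster -/
def tB (i : ℕ) : Spor.Bimonster := PresentedGroup.of (biGen i)

theorem bi_label (g k : Spor.Bimonster.Gen) :
    (g = k ∧ coxLabel Spor.Bimonster.edges g k = 1) ∨
      (adjB (biIdx g) (biIdx k) = true ∧ coxLabel Spor.Bimonster.edges g k = 3) ∨
      (adjB (biIdx g) (biIdx k) = false ∧ coxLabel Spor.Bimonster.edges g k = 2) := by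
  cases g <;> cases k <;> decide

theorem bi_nodes (g : Spor.Bimonster.Gen) : g ∈ coxNodes Spor.Bimonster.edges := by
  cases g <;> decide

theorem bi_univ {Q : Type*} [Group Q] {v : ℕ → Q} (h : BiRel v) :
    ∃ θ : Spor.Bimonster →* Q, ∀ i < 16, θ (tB i) = v i := by
  have hr : ∀ r ∈ coxRelators Spor.Bimonster.edges ∪ {r | r ∈ Spor.Bimonster.extra},
      FreeGroup.lift (fun g => v (biIdx g)) r = 1 := by
    intro r hr
    rcases hr with ⟨a, -, b, -, rfl⟩ | hr
    · rw [map_pow, map_mul, FreeGroup.lift_apply_of, FreeGroup.lift_apply_of]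
      have h1 := h.cox.sq _ (biIdx_lt a)
      have h2 := h.cox.sq _ (biIdx_lt b)
      rcases bi_label a b with ⟨rfl, hl⟩ | ⟨ha, hl⟩ | ⟨ha, hl⟩
      · rw [hl, pow_one, h1]
      · have hb := h.cox.br _ (biIdx_lt a) _ (biIdx_lt b) ha
        rw [hl, pow_three']
        calc v (biIdx a) * v (biIdx b) * (v (biIdx a) * v (biIdx b)) * (v (biIdx a) * v (biIdx b))
            = (v (biIdx a) * v (biIdx b) * v (biIdx a)) * v (biIdx b) * v (biIdx a) *
                v (biIdx b) := by group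
          _ = v (biIdx b) * v (biIdx a) * (v (biIdx b) * v (biIdx b)) * v (biIdx a) *
                v (biIdx b) := by rw [hb]; group
          _ = v (biIdx b) * (v (biIdx a) * v (biIdx a)) * v (biIdx b) := by rw [h2]; group
          _ = 1 := by rw [h1, mul_one, h2]
      · have hb := h.cox.cm _ (biIdx_lt a) _ (biIdx_lt b) ha
        rw [hl, pow_two]
        calc v (biIdx a) * v (biIdx b) * (v (biIdx a) * v (biIdx b))
            = v (biIdx a) * (v (biIdx b) * v (biIdx a)) * v (biIdx b) := by group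
          _ = (v (biIdx a) * v (biIdx a)) * (v (biIdx b) * v (biIdx b)) := by rw [← hb]; group
          _ = 1 := by rw [h1, h2, mul_one]
    · have hr' : r ∈ Spor.Bimonster.extra := hr
      simp only [Spor.Bimonster.extra, List.mem_cons, List.not_mem_nil, or_false] at hr'
      rcases hr' with rfl | rfl | rfl | rfl | rfl | rfl | rfl
      · have := h.spider
        rw [map_pow]
        simp only [map_mul, FreeGroup.lift_apply_of, biIdx]
        simpa only [spW, ev_cons, ev_nil, mul_one, mul_assoc] using this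
      · have := h.f1a
        rw [map_mul, map_inv, map_pow, mul_inv_eq_one]
        simp only [map_mul, FreeGroup.lift_apply_of, biIdx]
        simpa only [f1a, ev_cons, ev_nil, mul_one, mul_assoc] using this
      · have := h.f1b
        rw [map_mul, map_inv, map_pow, mul_inv_eq_one]
        simp only [map_mul, FreeGroup.lift_apply_of, biIdx]
        simpa only [f1b, ev_cons, ev_nil, mul_one, mul_assoc] using this
      · have := h.f2a
        rw [map_mul, map_inv, map_pow, mul_inv_eq_one]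
        simp only [map_mul, FreeGroup.lift_apply_of, biIdx]
        simpa only [f2a, ev_cons, ev_nil, mul_one, mul_assoc] using this
      · have := h.f2b
        rw [map_mul, map_inv, map_pow, mul_inv_eq_one]
        simp only [map_mul, FreeGroup.lift_apply_of, biIdx]
        simpa only [f2b, ev_cons, ev_nil, mul_one, mul_assoc] using this
      · have := h.f3a
        rw [map_mul, map_inv, map_pow, mul_inv_eq_one]
        simp only [map_mul, FreeGroup.lift_apply_of, biIdx]
        simpa only [f3a, ev_cons, ev_nil, mul_one, mul_assoc] using this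
      · have := h.f3b
        rw [map_mul, map_inv, map_pow, mul_inv_eq_one]
        simp only [map_mul, FreeGroup.lift_apply_of, biIdx]
        simpa only [f3b, ev_cons, ev_nil, mul_one, mul_assoc] using this
  refine ⟨PresentedGroup.toGroup hr, fun i hi => ?_⟩
  show PresentedGroup.toGroup hr (PresentedGroup.of (biGen i)) = v i
  rw [PresentedGroup.toGroup.of, biIdx_gen i hi]

theorem tB_pow (g k : Spor.Bimonster.Gen) :
    ((PresentedGroup.of g : Spor.Bimonster) * PresentedGroup.of k) ^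
      coxLabel Spor.Bimonster.edges g k = 1 := by
  have : PresentedGroup.mk (coxRelators Spor.Bimonster.edges ∪ {r | r ∈ Spor.Bimonster.extra})
      ((FreeGroup.of g * FreeGroup.of k) ^ coxLabel Spor.Bimonster.edges g k) = 1 :=
    PresentedGroup.one_of_mem (Or.inl ⟨g, bi_nodes g, k, bi_nodes k, rfl⟩)
  rwa [map_pow, map_mul] at this

theorem tB_extra {r : FreeGroup Spor.Bimonster.Gen} (hr : r ∈ Spor.Bimonster.extra) :
    PresentedGroup.mk (coxRelators Spor.Bimonster.edges ∪ {r | r ∈ Spor.Bimonster.extra}) r = 1 :=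
  PresentedGroup.one_of_mem (Or.inr hr)

theorem tB_cox : CoxRel 16 tB := by
  have hsq : ∀ g, (PresentedGroup.of g : Spor.Bimonster) * PresentedGroup.of g = 1 := by
    intro g
    have h1 := tB_pow g g
    have h2 : coxLabel Spor.Bimonster.edges g g = 1 := by unfold coxLabel; rw [if_pos rfl]
    rwa [h2, pow_one] at h1
  refine ⟨fun i _ => hsq _, ?_, ?_⟩
  · intro i hi j hj hij
    have h1 := Square.inv_of_sq (hsq (biGen i))
    have h2 := Square.inv_of_sq (hsq (biGen j))
    have h3 := tB_pow (biGen i) (biGen j)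
    show (PresentedGroup.of (biGen i) : Spor.Bimonster) * PresentedGroup.of (biGen j) =
      PresentedGroup.of (biGen j) * PresentedGroup.of (biGen i)
    rcases bi_label (biGen i) (biGen j) with ⟨he, hl⟩ | ⟨ha, hl⟩ | ⟨ha, hl⟩
    · rw [he]
    · rw [biIdx_gen i hi, biIdx_gen j hj, hij] at ha
      exact absurd ha (by decide)
    · rw [hl, pow_two] at h3
      rw [eq_inv_of_mul_eq_one_left h3, mul_inv_rev, h1, h2]
  · intro i hi j hj hij
    have h1 := Square.inv_of_sq (hsq (biGen i))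
    have h2 := Square.inv_of_sq (hsq (biGen j))
    have h3 := tB_pow (biGen i) (biGen j)
    show (PresentedGroup.of (biGen i) : Spor.Bimonster) * PresentedGroup.of (biGen j) *
      PresentedGroup.of (biGen i) = PresentedGroup.of (biGen j) * PresentedGroup.of (biGen i) *
        PresentedGroup.of (biGen j)
    rcases bi_label (biGen i) (biGen j) with ⟨he, hl⟩ | ⟨ha, hl⟩ | ⟨ha, hl⟩
    · rw [he]
    · rw [hl, pow_three'] at h3
      generalize (PresentedGroup.of (biGen i) : Spor.Bimonster) = p at h1 h2 h3 ⊢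
      generalize (PresentedGroup.of (biGen j) : Spor.Bimonster) = q at h1 h2 h3 ⊢
      have h4 : p * q * p * (q * p * q) = 1 := by rw [← h3]; simp only [mul_assoc]
      rw [eq_inv_of_mul_eq_one_left h4, mul_inv_rev, mul_inv_rev, h1, h2, mul_assoc]
    · rw [biIdx_gen i hi, biIdx_gen j hj, hij] at ha
      exact absurd ha (by decide)

theorem tB_birel : BiRel tB := by
  refine ⟨tB_cox, ?_, ?_, ?_, ?_, ?_, ?_, ?_⟩
  · have := tB_extra (r := (Spor.Bimonster.a * Spor.Bimonster.b1 * Spor.Bimonster.c1 *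
      Spor.Bimonster.a * Spor.Bimonster.b2 * Spor.Bimonster.c2 * Spor.Bimonster.a *
      Spor.Bimonster.b3 * Spor.Bimonster.c3) ^ 10) (by simp [Spor.Bimonster.extra])
    rw [map_pow] at this
    simp only [map_mul, mul_assoc] at this
    simp only [spW, ev_cons, ev_nil, mul_one]
    exact this
  · have := tB_extra (r := Spor.Bimonster.f1 * (((Spor.Bimonster.a * Spor.Bimonster.b1 * Spor.Bimonster.b2 * Spor.Bimonster.b3 * Spor.Bimonster.c1 * Spor.Bimonster.c2 * Spor.Bimonster.d1) ^ 9)⁻¹))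
      (by simp only [Spor.Bimonster.extra, _root_.List.mem_cons, _root_.mul_right_inj, _root_.inv_inj, _root_.List.not_mem_nil, _root_.or_false, _root_.true_or, _root_.or_true])
    rw [map_mul, map_inv, map_pow, mul_inv_eq_one] at this
    simp only [map_mul, mul_assoc] at this
    simp only [f1a, ev_cons, ev_nil, mul_one]
    exact this
  · have := tB_extra (r := Spor.Bimonster.f1 * (((Spor.Bimonster.a * Spor.Bimonster.b1 * Spor.Bimonster.b3 * Spor.Bimonster.b2 * Spor.Bimonster.c1 * Spor.Bimonster.c3 * Spor.Bimonster.d1) ^ 9)⁻¹))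
      (by simp only [Spor.Bimonster.extra, _root_.List.mem_cons, _root_.mul_right_inj, _root_.inv_inj, _root_.List.not_mem_nil, _root_.or_false, _root_.true_or, _root_.or_true])
    rw [map_mul, map_inv, map_pow, mul_inv_eq_one] at this
    simp only [map_mul, mul_assoc] at this
    simp only [f1b, ev_cons, ev_nil, mul_one]
    exact this
  · have := tB_extra (r := Spor.Bimonster.f2 * (((Spor.Bimonster.a * Spor.Bimonster.b2 * Spor.Bimonster.b1 * Spor.Bimonster.b3 * Spor.Bimonster.c2 * Spor.Bimonster.c1 * Spor.Bimonster.d2) ^ 9)⁻¹))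
      (by simp only [Spor.Bimonster.extra, _root_.List.mem_cons, _root_.mul_right_inj, _root_.inv_inj, _root_.List.not_mem_nil, _root_.or_false, _root_.true_or, _root_.or_true])
    rw [map_mul, map_inv, map_pow, mul_inv_eq_one] at this
    simp only [map_mul, mul_assoc] at this
    simp only [f2a, ev_cons, ev_nil, mul_one]
    exact this
  · have := tB_extra (r := Spor.Bimonster.f2 * (((Spor.Bimonster.a * Spor.Bimonster.b2 * Spor.Bimonster.b3 * Spor.Bimonster.b1 * Spor.Bimonster.c2 * Spor.Bimonster.c3 * Spor.Bimonster.d2) ^ 9)⁻¹))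
      (by simp only [Spor.Bimonster.extra, _root_.List.mem_cons, _root_.mul_right_inj, _root_.inv_inj, _root_.List.not_mem_nil, _root_.or_false, _root_.true_or, _root_.or_true])
    rw [map_mul, map_inv, map_pow, mul_inv_eq_one] at this
    simp only [map_mul, mul_assoc] at this
    simp only [f2b, ev_cons, ev_nil, mul_one]
    exact this
  · have := tB_extra (r := Spor.Bimonster.f3 * (((Spor.Bimonster.a * Spor.Bimonster.b3 * Spor.Bimonster.b1 * Spor.Bimonster.b2 * Spor.Bimonster.c3 * Spor.Bimonster.c1 * Spor.Bimonster.d3) ^ 9)⁻¹))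
      (by simp only [Spor.Bimonster.extra, _root_.List.mem_cons, _root_.mul_right_inj, _root_.inv_inj, _root_.List.not_mem_nil, _root_.or_false, _root_.true_or, _root_.or_true])
    rw [map_mul, map_inv, map_pow, mul_inv_eq_one] at this
    simp only [map_mul, mul_assoc] at this
    simp only [f3a, ev_cons, ev_nil, mul_one]
    exact this
  · have := tB_extra (r := Spor.Bimonster.f3 * (((Spor.Bimonster.a * Spor.Bimonster.b3 * Spor.Bimonster.b2 * Spor.Bimonster.b1 * Spor.Bimonster.c3 * Spor.Bimonster.c2 * Spor.Bimonster.d3) ^ 9)⁻¹))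
      (by simp only [Spor.Bimonster.extra, _root_.List.mem_cons, _root_.mul_right_inj, _root_.inv_inj, _root_.List.not_mem_nil, _root_.or_false, _root_.or_true])
    rw [map_mul, map_inv, map_pow, mul_inv_eq_one] at this
    simp only [map_mul, mul_assoc] at this
    simp only [f3b, ev_cons, ev_nil, mul_one]
    exact this

theorem tB_gen : Subgroup.closure (nodes 16 tB) = ⊤ := by
  rw [eq_top_iff, ← PresentedGroup.closure_range_of]
  refine (Subgroup.closure_le _).mpr ?_
  rintro _ ⟨g, rfl⟩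
  exact Subgroup.subset_closure ⟨biIdx g, biIdx_lt g, by unfold tB; rw [biGen_idx]⟩

theorem exists_sgn : ∃ sgn : Spor.Bimonster →* ℤˣ, ∀ i < 16, sgn (tB i) = -1 := by
  refine bi_univ (v := fun _ => (-1 : ℤˣ)) ⟨⟨?_, ?_, ?_⟩, ?_, ?_, ?_, ?_, ?_, ?_, ?_⟩
  · intro i _; decide
  · intro i _ j _ _; rfl
  · intro i _ j _ _; rfl
  all_goals decide

/-- the nodes `a` and `f3` are conjugate -/
theorem exists_conj : ∃ g : Spor.Bimonster, g * tB 0 * g⁻¹ = tB 15 := by
  have key : ∀ {i j : ℕ}, i < 16 → j < 16 → adjB i j = true →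
      (tB i * tB j) * tB i * (tB i * tB j)⁻¹ = tB j := by
    intro i j hi hj hij
    have h1 := tB_cox.br i hi j hj hij
    rw [h1]
    group
  have step : ∀ {i j : ℕ}, i < 16 → j < 16 → adjB i j = true →
      (∃ g : Spor.Bimonster, g * tB 0 * g⁻¹ = tB i) → ∃ g : Spor.Bimonster, g * tB 0 * g⁻¹ = tB j := by
    rintro i j hi hj hij ⟨g, hg⟩
    refine ⟨(tB i * tB j) * g, ?_⟩
    have h1 : (tB i * tB j) * g * tB 0 * ((tB i * tB j) * g)⁻¹ =
        (tB i * tB j) * (g * tB 0 * g⁻¹) * (tB i * tB j)⁻¹ := by group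
    rw [h1, hg]
    exact key hi hj hij
  have h0 : ∃ g : Spor.Bimonster, g * tB 0 * g⁻¹ = tB 0 := ⟨1, by group⟩
  have h11 := step (i := 0) (j := 11) (by norm_num) (by norm_num) (by decide) h0
  have h12 := step (i := 11) (j := 12) (by norm_num) (by norm_num) (by decide) h11
  have h13 := step (i := 12) (j := 13) (by norm_num) (by norm_num) (by decide) h12
  have h14 := step (i := 13) (j := 14) (by norm_num) (by norm_num) (by decide) h13
  exact step (i := 14) (j := 15) (by norm_num) (by norm_num) (by decide) h14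

/-- **The Bimonster step**: if the presented group `PM` is centreless and its element `ζ` satisfies
the relations `ZRel`, then the Monster extracted from the Bimonster is `PM`. -/
theorem monster_equiv_PM (hF : FiFacts) (hz : ZRel xM)
    (hZ : ∀ c : PM, (∀ p, c * p = p * c) → c = 1) : Nonempty (Spor.Monster ≃* PM) := by
  obtain ⟨φ, hφ⟩ := xM_univ Spor.Bimonster _ tB_birel.prel
  obtain ⟨sgn, hsgn⟩ := exists_sgn
  have hS : Setup tB xM φ sgn := ⟨tB_birel, tB_gen, xM_prel, hz, xM_gen, hφ, hsgn⟩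
  obtain ⟨Ψ, hΨ⟩ := bi_univ (wT_birel xM_prel hz)
  -- injectivity
  have hcomp : ∀ p : PM, Ψ (φ p) = wL p := by
    intro p
    have hp : p ∈ Subgroup.closure (nodes 14 xM) := by rw [xM_gen]; trivial
    induction hp using Subgroup.closure_induction with
    | mem y hy =>
      obtain ⟨i, hi, rfl⟩ := hy
      rw [hφ i hi, map_mul, hΨ 15 (by norm_num), hΨ i (by omega), wT_15, wT_lt xM hi, ← mul_assoc,
        wS_sq, one_mul]
    | one => simp only [map_one]
    | mul y z _ _ hy hz => rw [map_mul, map_mul, hy, hz, ← map_mul]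
    | inv y _ hy => rw [map_inv, map_inv, hy, ← map_inv]
  have hinj : Function.Injective φ := by
    intro p q hpq
    apply wL_inj
    rw [← hcomp, ← hcomp, hpq]
  have hmain := hS.centralizer_eq hF hinj xM_univ hZ
  -- conjugation
  obtain ⟨g, hg⟩ := exists_conj
  let S0 : Subgroup Spor.Bimonster := Subgroup.centralizer {tB 0} ⊓ commutator Spor.Bimonster
  have hn : (commutator Spor.Bimonster).Normal := inferInstance
  have hmap : S0.map (MulAut.conj g).toMonoidHom = φ.range := by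
    rw [← hmain]
    ext k
    constructor
    · rintro ⟨s, ⟨hs1, hs2⟩, rfl⟩
      have h1 : tB 0 * s = s * tB 0 := (Subgroup.mem_centralizer_iff.mp hs1) _ rfl
      have h2 : (MulAut.conj g) s ∈ Subgroup.centralizer {tB 15} := by
        rw [Subgroup.mem_centralizer_iff]
        rintro _ rfl
        rw [← hg, MulAut.conj_apply]
        calc g * tB 0 * g⁻¹ * (g * s * g⁻¹) = g * (tB 0 * s) * g⁻¹ := by group
          _ = g * (s * tB 0) * g⁻¹ := by rw [h1]
          _ = _ := by group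
      exact ⟨h2, hn.conj_mem _ hs2 g⟩
    · rintro ⟨hk1, hk2⟩
      have h1 : tB 15 * k = k * tB 15 := (Subgroup.mem_centralizer_iff.mp hk1) _ rfl
      refine ⟨g⁻¹ * k * g, ⟨?_, ?_⟩, ?_⟩
      · have h3 : g⁻¹ * k * g ∈ Subgroup.centralizer {tB 0} := by
          rw [Subgroup.mem_centralizer_iff]
          rintro _ rfl
          have h4 : tB 0 = g⁻¹ * tB 15 * g := by rw [← hg]; group
          rw [h4]
          calc g⁻¹ * tB 15 * g * (g⁻¹ * k * g) = g⁻¹ * (tB 15 * k) * g := by group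
            _ = g⁻¹ * (k * tB 15) * g := by rw [h1]
            _ = _ := by group
        exact h3
      · have := hn.conj_mem _ hk2 g⁻¹
        rwa [inv_inv] at this
      · show g * (g⁻¹ * k * g) * g⁻¹ = k
        group
  have e1 : S0 ≃* S0.map (MulAut.conj g).toMonoidHom :=
    S0.equivMapOfInjective _ (MulAut.conj g).injective
  have e2 : S0.map (MulAut.conj g).toMonoidHom ≃* φ.range := MulEquiv.subgroupCongr hmap
  have e3 : φ.range ≃* PM := (MonoidHom.ofInjective hinj).symm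
  exact ⟨(e1.trans e2).trans e3⟩

/-- the same statement with a model -/
theorem monster_equiv (hF : FiFacts) {M : Type} [Group M] [Finite M] {y : ℕ → M} (hy : PRel y)
    (hz : ZRel y) (hgen : Subgroup.closure (nodes 14 y) = ⊤)
    (hZ : ∀ c : M, (∀ p, c * p = p * c) → c = 1)
    (hfin : Finite PM) (hcard : Nat.card PM ≤ Nat.card M) : Nonempty (Spor.Monster ≃* M) := by
  obtain ⟨σ, hσ⟩ := xM_univ M y hy
  have hsurj : Function.Surjective σ := by
    rw [← MonoidHom.range_eq_top, eq_top_iff, ← hgen]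
    refine (Subgroup.closure_le _).mpr ?_
    rintro _ ⟨i, hi, rfl⟩
    exact ⟨xM i, hσ i hi⟩
  have hbij : Function.Bijective σ :=
    (Nat.bijective_iff_surjective_and_card (f := σ)).mpr ⟨hsurj, le_antisymm hcard
      (Nat.card_le_card_of_surjective σ hsurj)⟩
  let e : PM ≃* M := MulEquiv.ofBijective σ hbij
  have hev : ∀ w : List ℕ, (∀ i ∈ w, i < 14) → σ (ev xM w) = ev y w := by
    intro w hw
    rw [map_ev]
    exact ev_congr fun i hi => hσ i (hw i hi)
  have hz14 : ∀ i ∈ zW, i < 14 := fun i hi => lt_trans (Setup.zW_lt i hi) (by norm_num)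
  have hzM : ZRel xM := by
    refine ⟨?_, ?_, ?_⟩
    · apply hbij.1; rw [map_pow, hev _ hz14, hz.cube, map_one]
    · intro i hi
      apply hbij.1
      rw [map_mul, map_mul, map_inv, hev _ hz14, hσ i (by omega), hz.inv i hi]
    · apply hbij.1; rw [map_pow, map_mul, hev _ hz14, hσ 13 (by norm_num), hz.ord, map_one]
  have hZM : ∀ c : PM, (∀ p, c * p = p * c) → c = 1 := by
    intro c hc
    apply hbij.1
    rw [map_one]
    apply hZ
    intro p
    obtain ⟨p, rfl⟩ := hsurj p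
    rw [← map_mul, ← map_mul, hc]
  obtain ⟨e'⟩ := monster_equiv_PM hF hzM hZM
  exact ⟨e'.trans e⟩

end Cfsg.Agent.Bimonster

private theorem dce_1a5a21578899 : _root_.True := by
  try have : _root_.True := by simp only [_root_.Cfsg.Agent.Bimonster.biIdx.eq_10]
  try have : _root_.True := by simp only [_root_.Cfsg.Agent.Bimonster.biIdx.eq_4]
  try have : _root_.True := by simp only [_root_.Cfsg.Agent.Bimonster.biIdx.eq_8]
  try have : _root_.True := by simp only [_root_.Cfsg.Agent.Bimonster.biIdx.eq_2]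
  try have : _root_.True := by simp only [_root_.Cfsg.Agent.Bimonster.f1b.eq_1]
  try have : _root_.True := by simp only [_root_.Cfsg.Agent.Bimonster.f3b.eq_1]
  try have : _root_.True := by simp only [_root_.Cfsg.Agent.Bimonster.biIdx.eq_12]
  try have : _root_.True := by simp only [_root_.Cfsg.Agent.Bimonster.biIdx.eq_6]
  try have : _root_.True := by simp only [_root_.Cfsg.Agent.Bimonster.biIdx.eq_16]
  try have : _root_.True := by simp only [_root_.Cfsg.Agent.Bimonster.biIdx.eq_13]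
  try have : _root_.True := by simp only [_root_.Cfsg.Agent.Bimonster.f2a.eq_1]
  try have : _root_.True := by simp only [_root_.Cfsg.Agent.Bimonster.biIdx.eq_15]
  try have : _root_.True := by simp only [_root_.Cfsg.Agent.Bimonster.f3a.eq_1]
  try have : _root_.True := by simp only [_root_.Cfsg.Agent.Bimonster.biIdx.eq_1]
  try have : _root_.True := by simp only [_root_.Cfsg.Agent.Bimonster.spW.eq_1]
  try have : _root_.True := by simp only [_root_.Cfsg.Agent.Bimonster.f1a.eq_1]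
  try have : _root_.True := by simp only [_root_.Cfsg.Agent.Bimonster.biIdx.eq_14]
  try have : _root_.True := by simp only [_root_.Cfsg.Agent.Bimonster.biIdx.eq_11]
  try have : _root_.True := by simp only [_root_.Cfsg.Agent.Bimonster.biIdx.eq_3]
  try have : _root_.True := by simp only [_root_.Cfsg.Agent.Bimonster.biIdx.eq_5]
  try have : _root_.True := by simp only [_root_.Cfsg.Spor.Bimonster.extra.eq_1]
  try have : _root_.True := by simp only [_root_.Cfsg.Agent.Bimonster.biIdx.eq_9]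
  try have : _root_.True := by simp only [_root_.Cfsg.Agent.Bimonster.f2b.eq_1]
  try have : _root_.True := by simp only [_root_.Cfsg.Agent.Bimonster.biIdx.eq_7]
  exact _root_.True.intro
end

-- part: Bimonster/Final
section
set_option linter.all false
open scoped Cfsg.Agent.FastGrp

/-! # The final assembly for the presented Monster -/

set_option autoImplicit false

namespace Cfsg.Agent.Bimonster

open Tits Cfsg.Spor

theorem isM_center {M : Type} [Group M] (hM : IsM M) (c : M) (hc : ∀ p, c * p = p * c) :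
    c = 1 := by
  obtain ⟨hs, hcard⟩ := hM
  have : Finite M := Nat.finite_of_card_ne_zero (by rw [hcard]; norm_num)
  rcases (Subgroup.center M).normal_of_characteristic.eq_bot_or_eq_top with h | h
  · have h1 : c ∈ Subgroup.center M := Subgroup.mem_center_iff.mpr fun g => (hc g).symm
    rw [h] at h1
    exact Subgroup.mem_bot.mp h1
  · exfalso
    have hcomm : ∀ a b : M, a * b = b * a := by
      intro a b
      have h1 : b ∈ Subgroup.center M := by rw [h]; trivial
      exact Subgroup.mem_center_iff.mp h1 a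
    let _ : CommGroup M := { (inferInstance : Group M) with mul_comm := hcomm }
    have h2 : (Nat.card M).Prime := IsSimpleGroup.prime_card
    rw [hcard] at h2
    have h3 : 2 ∣ 808017424794512875886459904961710757005754368000000000 := by norm_num
    have h4 := (Nat.prime_dvd_prime_iff_eq Nat.prime_two h2).mp h3
    norm_num at h4

/-- **S1705 from the model**: the group `M` is the model of the Monster, `y` are its elements
satisfying the relations, and the order of the presented group is bounded. -/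
theorem isM_monster (hF : FiFacts) {M : Type} [Group M] (hM : IsM M) {y : ℕ → M} (hy : PRel y)
    (hz : ZRel y) (hgen : Subgroup.closure (nodes 14 y) = ⊤) (hfin : Finite PM)
    (hcard : Nat.card PM ≤ 808017424794512875886459904961710757005754368000000000) :
    IsM Spor.Monster := by
  have : Finite M := Nat.finite_of_card_ne_zero (by rw [hM.2]; norm_num)
  obtain ⟨e⟩ := monster_equiv hF hy hz hgen (isM_center hM) hfin (by rw [hM.2]; exact hcard)
  have := hM.1
  exact ⟨e.isSimpleGroup, by rw [Nat.card_congr e.toEquiv, hM.2]⟩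

end Cfsg.Agent.Bimonster
end

-- part: MonsterP/LeechL3
section
prune_inst 0x41000410025220000000000100200000020000000000000002000010209400000804200002a0004000040108010000000000000000020000020003000000201200004080004240000000000000000000000000000000000000000000000000000000000000
set_option linter.all false
open scoped Cfsg.Agent.FastGrp

/-!
Two minimal vectors `o`, `x` of the Leech lattice with inner product `0` or `±8` have a common
neighbour (neighbour: inner product `±16`), and the set of the common neighbours is connected.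
-/

set_option autoImplicit false

namespace Cfsg.Agent.MonsterP.LeechL3

open Cfsg Cfsg.Agent.MonsterX.KSide Cfsg.Agent.MonsterX.Lat Cfsg.Agent.Leech.Min
  Cfsg.Agent.Leech.Trans Cfsg.Agent.Leech.FrameTriplesOf Cfsg.Agent.Leech.Basic

/-- `w` is a common neighbour of `o` and `x`. -/
def Mu (o x w : leechLattice) : Prop := Adj o w ∧ Adj x w

/-- Adjacency on the common neighbours of `o` and `x`. -/
def MuAdj (o x w w' : leechLattice) : Prop := Mu o x w ∧ Mu o x w' ∧ Adj w w'

theorem adj_symm {v w : leechLattice} (hv : nrm v = 32) (h : Adj v w) : Adj w v :=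
  ⟨hv, by rw [dot_comm]; exact h.2⟩

theorem adj_smul (g : Co0) {v w : leechLattice} : Adj (g • v) (g • w) ↔ Adj v w := by
  unfold Adj
  rw [dot_smul, nrm_smul]

theorem adj_neg_right {v w : leechLattice} : Adj v (-w) ↔ Adj v w := by
  unfold Adj
  rw [dot_neg_right, nrm_neg]
  constructor <;> rintro ⟨h1, h2⟩ <;> exact ⟨h1, by omega⟩

theorem adj_neg_left {v w : leechLattice} : Adj (-v) w ↔ Adj v w := by
  unfold Adj
  rw [dot_neg_left]
  constructor <;> rintro ⟨h1, h2⟩ <;> exact ⟨h1, by omega⟩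

theorem mu_smul (g : Co0) {o x w : leechLattice} : Mu (g • o) (g • x) (g • w) ↔ Mu o x w :=
  and_congr (adj_smul g) (adj_smul g)

theorem mu_neg {o x w : leechLattice} : Mu o x (-w) ↔ Mu o x w :=
  and_congr adj_neg_right adj_neg_right

theorem mu_neg_right {o x w : leechLattice} : Mu o (-x) w ↔ Mu o x w :=
  and_congr Iff.rfl adj_neg_left

theorem muAdj_symm {o x w w' : leechLattice} (h : MuAdj o x w w') : MuAdj o x w' w :=
  ⟨h.2.1, h.1, adj_symm h.1.1.1 h.2.2⟩

theorem conn_symm {o x w w' : leechLattice} (h : Relation.ReflTransGen (MuAdj o x) w w') :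
    Relation.ReflTransGen (MuAdj o x) w' w := by
  induction h with
  | refl => exact Relation.ReflTransGen.refl
  | tail _ hbc ih => exact Relation.ReflTransGen.head (muAdj_symm hbc) ih

theorem conn_smul (g : Co0) {o x w w' : leechLattice}
    (h : Relation.ReflTransGen (MuAdj o x) w w') :
    Relation.ReflTransGen (MuAdj (g • o) (g • x)) (g • w) (g • w') := by
  induction h with
  | refl => exact Relation.ReflTransGen.refl
  | tail _ hbc ih =>
    exact ih.tail ⟨(mu_smul g).2 hbc.1, (mu_smul g).2 hbc.2.1, (adj_smul g).2 hbc.2.2⟩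

/-- The goal for a pair. -/
def Good (o x : leechLattice) : Prop :=
  (∃ w, Mu o x w) ∧ ∀ w w', Mu o x w → Mu o x w' → Relation.ReflTransGen (MuAdj o x) w w'

theorem good_of_smul (g : Co0) {o x : leechLattice} (h : Good (g • o) (g • x)) : Good o x := by
  have h1 : ∀ v : leechLattice, g⁻¹ • g • v = v := fun v => inv_smul_smul g v
  refine ⟨?_, fun w w' hw hw' => ?_⟩
  · obtain ⟨w, hw⟩ := h.1
    refine ⟨g⁻¹ • w, ?_⟩
    have := (mu_smul g⁻¹).2 hw
    rwa [h1, h1] at this
  · have := conn_smul g⁻¹ (h.2 (g • w) (g • w') ((mu_smul g).2 hw) ((mu_smul g).2 hw'))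
    rwa [h1, h1, h1, h1] at this

theorem good_neg {o x : leechLattice} (h : Good o (-x)) : Good o x := by
  have h1 : ∀ w, Mu o (-x) w ↔ Mu o x w := fun w => mu_neg_right
  have h2 : MuAdj o (-x) = MuAdj o x := by
    funext w w'
    unfold MuAdj
    rw [h1, h1]
  unfold Good at h ⊢
  rw [h2] at h
  simpa only [h1] using h

/-! ### Inner product `0` -/

/-- the common neighbours of `(4,4,0,…)` and `(4,-4,0,…)` -/
theorem mu_zero {p q : GolayPt} (hpq : p ≠ q) {o x : leechLattice}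
    (ho : (o : GolayPt → ℤ) = two p q 4 4) (hx : (x : GolayPt → ℤ) = two p q 4 (-4))
    (w : leechLattice) (hw : Mu o x w) :
    ∃ k, k ≠ p ∧ k ≠ q ∧ ∃ m, (m = p ∨ m = q) ∧ ∃ (hmk : m ≠ k) (a b : ℤ)
      (ha : a = 4 ∨ a = -4) (hb : b = 4 ∨ b = -4), w = lv m k a b hmk ha hb := by
  obtain ⟨⟨hn, h1⟩, -, h2⟩ := hw
  have e1 : dot o w = 4 * (w : GolayPt → ℤ) p + 4 * (w : GolayPt → ℤ) q := by
    show dotInt (o : GolayPt → ℤ) w = _
    rw [ho, dotInt_two hpq]
  have e2 : dot x w = 4 * (w : GolayPt → ℤ) p + (-4) * (w : GolayPt → ℤ) q := by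
    show dotInt (x : GolayPt → ℤ) w = _
    rw [hx, dotInt_two hpq]
  rw [e1] at h1
  rw [e2] at h2
  have h4 : Type4 (w : GolayPt → ℤ) := by
    by_cases hp : (w : GolayPt → ℤ) p = 4 ∨ (w : GolayPt → ℤ) p = -4
    · exact type4_of_coord w.2 hn hp
    · have hq : (w : GolayPt → ℤ) q = 4 ∨ (w : GolayPt → ℤ) q = -4 := by omega
      exact type4_of_coord w.2 hn hq
  obtain ⟨k, l, hkl, a, b, ha, hb, e⟩ := eq_two_of_type4 h4
  have hval : ∀ i, i ≠ k → i ≠ l → (w : GolayPt → ℤ) i = 0 := fun i hi hi' => by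
    rw [e, two_other hi hi']
  have hk : (w : GolayPt → ℤ) k = a := by rw [e, two_left]
  have hl : (w : GolayPt → ℤ) l = b := by rw [e, two_right hkl]
  -- exactly one of `p`, `q` is in `{k, l}`
  by_cases hpk : p = k
  · subst hpk
    have hql : q ≠ l := by
      rintro rfl
      omega
    exact ⟨l, hkl.symm, Ne.symm hql, p, Or.inl rfl, hkl, a, b, ha, hb, Subtype.ext e⟩
  · by_cases hpl : p = l
    · subst hpl
      have hqk : q ≠ k := by
        rintro rfl
        omega
      refine ⟨k, hkl, Ne.symm hqk, p, Or.inl rfl, hkl.symm, b, a, hb, ha, Subtype.ext ?_⟩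
      rw [lv_coe, ← two_swap hkl]; exact e
    · have hp0 := hval p hpk hpl
      by_cases hqk : q = k
      · subst hqk
        exact ⟨l, Ne.symm hpl, hkl.symm, q, Or.inr rfl, hkl, a, b, ha, hb, Subtype.ext e⟩
      · by_cases hql : q = l
        · subst hql
          refine ⟨k, Ne.symm hpk, hkl, q, Or.inr rfl, hkl.symm, b, a, hb, ha, Subtype.ext ?_⟩
          rw [lv_coe, ← two_swap hkl]; exact e
        · have hq0 := hval q hqk hql
          omega

theorem mu_zero_of {p q k m : GolayPt} (hpq : p ≠ q) {o x : leechLattice}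
    (ho : (o : GolayPt → ℤ) = two p q 4 4) (hx : (x : GolayPt → ℤ) = two p q 4 (-4))
    (hkp : k ≠ p) (hkq : k ≠ q) (hm : m = p ∨ m = q) (hmk : m ≠ k) {a b : ℤ}
    (ha : a = 4 ∨ a = -4) (hb : b = 4 ∨ b = -4) : Mu o x (lv m k a b hmk ha hb) := by
  refine ⟨⟨nrm_lv _ _ _ _ _ _ _, ?_⟩, nrm_lv _ _ _ _ _ _ _, ?_⟩
  · rw [dot_lv', ho, two_other hkp hkq]
    rcases hm with rfl | rfl
    · rw [two_left]; omega
    · rw [two_right hpq]; omega
  · rw [dot_lv', hx, two_other hkp hkq]
    rcases hm with rfl | rfl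
    · rw [two_left]; omega
    · rw [two_right hpq]; omega

theorem good_zero {p q : GolayPt} (hpq : p ≠ q) {o x : leechLattice}
    (ho : (o : GolayPt → ℤ) = two p q 4 4) (hx : (x : GolayPt → ℤ) = two p q 4 (-4)) :
    Good o x := by
  obtain ⟨r, hr⟩ := exists_notMem {p, q} (lt_of_le_of_lt Finset.card_le_two (by decide))
  simp only [Finset.mem_insert, Finset.mem_singleton, not_or] at hr
  have hpr : p ≠ r := Ne.symm hr.1
  have key : ∀ w, Mu o x w →
      Relation.ReflTransGen (MuAdj o x) w (lv p r 4 4 hpr four_or four_or) := by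
    intro w hw
    obtain ⟨k, hkp, hkq, m, hm, hmk, a, b, ha, hb, rfl⟩ := mu_zero hpq ho hx w hw
    rcases hm with rfl | rfl
    · -- `m = p`
      by_cases hkr : k = r
      · subst hkr
        obtain ⟨s, hs⟩ := exists_notMem {m, q, k} (lt_of_le_of_lt Finset.card_le_three (by decide))
        simp only [Finset.mem_insert, Finset.mem_singleton, not_or] at hs
        have h1 : Mu o x (lv m s 4 4 (Ne.symm hs.1) four_or four_or) :=
          mu_zero_of hpq ho hx hs.1 hs.2.1 (Or.inl rfl) _ _ _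
        exact (Relation.ReflTransGen.single ⟨hw, h1, adj_lv hmk (Ne.symm hs.1) (Ne.symm hs.2.2)
          ha hb four_or four_or⟩).tail
          ⟨h1, mu_zero_of hpq ho hx hkp hkq (Or.inl rfl) _ _ _,
            adj_lv (Ne.symm hs.1) hmk hs.2.2 four_or four_or four_or four_or⟩
      · exact Relation.ReflTransGen.single ⟨hw,
          mu_zero_of hpq ho hx hr.1 hr.2 (Or.inl rfl) _ _ _,
          adj_lv hmk hpr hkr ha hb four_or four_or⟩
    · -- `m = q`
      obtain ⟨s, hs⟩ := exists_notMem {p, m, k, r} (lt_of_le_of_lt Finset.card_le_four (by decide))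
      simp only [Finset.mem_insert, Finset.mem_singleton, not_or] at hs
      -- `(a_m, b_k) ~ (4_p, 4_k) ~ ...`
      have hpk : p ≠ k := Ne.symm hkp
      have h1 : Mu o x (lv p k 4 4 hpk four_or four_or) :=
        mu_zero_of hpq ho hx hkp hkq (Or.inl rfl) _ _ _
      have h2 : Mu o x (lv p s 4 4 (Ne.symm hs.1) four_or four_or) :=
        mu_zero_of hpq ho hx hs.1 hs.2.1 (Or.inl rfl) _ _ _
      have a1 : Adj (lv m k a b hmk ha hb) (lv p k 4 4 hpk four_or four_or) := by
        rw [lv_swap hmk, lv_swap hpk]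
        exact adj_lv hmk.symm hpk.symm hpq.symm hb ha four_or four_or
      have a2 : Adj (lv p k 4 4 hpk four_or four_or) (lv p s 4 4 (Ne.symm hs.1) four_or four_or) :=
        adj_lv hpk (Ne.symm hs.1) (Ne.symm hs.2.2.1) four_or four_or four_or four_or
      have a3 : Adj (lv p s 4 4 (Ne.symm hs.1) four_or four_or) (lv p r 4 4 hpr four_or four_or) :=
        adj_lv (Ne.symm hs.1) hpr hs.2.2.2 four_or four_or four_or four_or
      exact ((Relation.ReflTransGen.single ⟨hw, h1, a1⟩).tail ⟨h1, h2, a2⟩).tail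
        ⟨h2, mu_zero_of hpq ho hx hr.1 hr.2 (Or.inl rfl) _ _ _, a3⟩
  refine ⟨⟨_, mu_zero_of hpq ho hx hr.1 hr.2 (Or.inl rfl) hpr four_or four_or⟩, ?_⟩
  intro w w' hw hw'
  exact (key w hw).trans (conn_symm (key w' hw'))

/-! ### Inner product `-8` -/

theorem vec3_eq_two (a b : ℤ) : vec3 a b 0 = two none (some 0) a b := rfl

/-- `(x, w)` for `x = (1,-3,1,…)` -/
theorem dot_x (w : GolayPt → ℤ) : dotInt (vec3 1 (-3) 1) w = (∑ i, w i) - 4 * w (some 0) := by
  have h1 : ∀ i, vec3 1 (-3) 1 i * w i = w i - 4 * (chi {some 0} i * w i) := by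
    intro i
    by_cases hi : i = some 0
    · subst hi
      rw [vec3_zero, chi_mem (Finset.mem_singleton_self _)]; ring
    · rw [chi_not_mem (by rwa [Finset.mem_singleton])]
      by_cases hn : i = none
      · subst hn; rw [vec3_none]; ring
      · rw [vec3_other _ _ _ hn hi]; ring
  show ∑ i, vec3 1 (-3) 1 i * w i = _
  rw [Finset.sum_congr rfl fun i _ => h1 i, Finset.sum_sub_distrib, ← Finset.mul_sum, sum_chi_mul,
    Finset.sum_singleton]

/-- the sum of a vector of type 3 -/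
theorem sum_type3 {w : GolayPt → ℤ} {m : GolayPt} (hm : w m = 3)
    (h1 : ∀ i, i ≠ m → w i = 1 ∨ w i = -1) : ∑ i, w i = 2 * ((cls w 1).card : ℤ) - 20 := by
  have h : ∀ i, w i = 2 * chi (cls w 1) i - 1 + 4 * chi {m} i := by
    intro i
    by_cases hi : i = m
    · subst hi
      rw [chi_mem (Finset.mem_singleton_self _), chi_not_mem (by
        rw [mem_cls, hm]; unfold Int.ModEq; norm_num), hm]; ring
    · rw [chi_not_mem (A := {m}) (by rwa [Finset.mem_singleton])]
      rcases h1 i hi with e | e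
      · rw [chi_mem (by rw [mem_cls, e]), e]; ring
      · rw [chi_not_mem (by rw [mem_cls, e]; unfold Int.ModEq; norm_num), e]; ring
  rw [Finset.sum_congr rfl fun i _ => h i, Finset.sum_add_distrib, Finset.sum_sub_distrib,
    ← Finset.mul_sum, ← Finset.mul_sum, sum_chi, sum_chi]
  have : Fintype.card GolayPt = 24 := Cfsg.Agent.Leech.Code.card_golayPt
  simp only [Finset.sum_const, Finset.card_univ, this, Finset.card_singleton]
  norm_num
  ring

/-- The hub vectors `4 e_q - 4 e_k`. -/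
theorem hub {o x : leechLattice}
    (ho : (o : GolayPt → ℤ) = vec3 4 4 0) (hx : (x : GolayPt → ℤ) = vec3 1 (-3) 1)
    {k : GolayPt} (hk : k ≠ none) (hk' : some 0 ≠ k) :
    Mu o x (lv (some 0) k 4 (-4) hk' four_or neg_four_or) := by
  refine ⟨⟨nrm_lv _ _ _ _ _ _ _, ?_⟩, nrm_lv _ _ _ _ _ _ _, ?_⟩
  · rw [dot_lv', ho, vec3_zero, vec3_other _ _ _ hk (Ne.symm hk')]
    norm_num
  · rw [dot_lv', hx, vec3_zero, vec3_other _ _ _ hk (Ne.symm hk')]
    norm_num

/-- Every common neighbour is equal or adjacent to a hub vector, up to sign. -/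
theorem near_hub {o x : leechLattice} (hx : (x : GolayPt → ℤ) = vec3 1 (-3) 1)
    (w : leechLattice) (hw : Mu o x w)
    (h4 : (w : GolayPt → ℤ) none + (w : GolayPt → ℤ) (some 0) = 4) :
    ∃ k, k ≠ none ∧ ∃ hk : some 0 ≠ k, w = lv (some 0) k 4 (-4) hk four_or neg_four_or ∨
      dot w (lv (some 0) k 4 (-4) hk four_or neg_four_or) = 16 := by
  obtain ⟨⟨hn, -⟩, -, h2⟩ := hw
  have e2 : dot x w = (∑ i, (w : GolayPt → ℤ) i) - 4 * (w : GolayPt → ℤ) (some 0) := by
    show dotInt (x : GolayPt → ℤ) w = _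
    rw [hx, dot_x]
  rw [e2] at h2
  have hpq : (none : GolayPt) ≠ some 0 := by simp
  rcases (min_iff _).1 ⟨w.2, hn⟩ with h | h | h
  · obtain ⟨k, l, hkl, a, b, ha, hb, e⟩ := eq_two_of_type4 h
    have hsum : ∑ i, (w : GolayPt → ℤ) i = a + b := by
      rw [Finset.sum_eq_add k l hkl (fun i _ hi => by rw [e, two_other hi.1 hi.2])
        (fun h => absurd (Finset.mem_univ _) h) (fun h => absurd (Finset.mem_univ _) h)]
      rw [e, two_left, two_right hkl]
    rw [hsum] at h2
    have hval : ∀ i, (w : GolayPt → ℤ) i = 0 ∨ (w : GolayPt → ℤ) i = 4 ∨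
        (w : GolayPt → ℤ) i = -4 := by
      intro i
      by_cases hik : i = k
      · subst hik; rw [e, two_left]; exact Or.inr ha
      · by_cases hil : i = l
        · subst hil; rw [e, two_right hkl]; exact Or.inr hb
        · left; rw [e, two_other hik hil]
    have hp := hval none
    by_cases hqk : some 0 = k
    · subst hqk
      have hq : (w : GolayPt → ℤ) (some 0) = a := by rw [e, two_left]
      rw [hq] at h2 h4
      have hab : a = 4 ∧ b = -4 := by omega
      obtain ⟨rfl, rfl⟩ := hab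
      have hln : l ≠ none := by
        rintro rfl
        have : (w : GolayPt → ℤ) none = -4 := by rw [e, two_right hkl]
        omega
      exact ⟨l, hln, hkl, Or.inl (Subtype.ext e)⟩
    · by_cases hql : some 0 = l
      · subst hql
        have hq : (w : GolayPt → ℤ) (some 0) = b := by rw [e, two_right hkl]
        rw [hq] at h2 h4
        have hab : b = 4 ∧ a = -4 := by omega
        obtain ⟨rfl, rfl⟩ := hab
        have hkn : k ≠ none := by
          rintro rfl
          have : (w : GolayPt → ℤ) none = -4 := by rw [e, two_left]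
          omega
        refine ⟨k, hkn, hkl.symm, Or.inl (Subtype.ext ?_)⟩
        rw [lv_coe, ← two_swap hkl]; exact e
      · have hq : (w : GolayPt → ℤ) (some 0) = 0 := by rw [e, two_other hqk hql]
        rw [hq] at h2
        omega
  · obtain ⟨A, hA, h2', h0, -⟩ := h
    have hc : A.card = 8 := Cfsg.Agent.Leech.Code.steiner.1 A hA
    have hval : ∀ i, (w : GolayPt → ℤ) i = 0 ∨ (w : GolayPt → ℤ) i = 2 ∨
        (w : GolayPt → ℤ) i = -2 := by
      intro i
      by_cases hi : i ∈ A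
      · exact Or.inr (h2' i hi)
      · exact Or.inl (h0 i hi)
    have hp := hval none
    have hq := hval (some 0)
    have hp2 : (w : GolayPt → ℤ) none = 2 := by omega
    have hq2 : (w : GolayPt → ℤ) (some 0) = 2 := by omega
    -- some other coordinate is `-2`
    obtain ⟨k, hk⟩ : ∃ k, (w : GolayPt → ℤ) k = -2 := by
      by_contra hcon
      push Not at hcon
      have hform : ∀ i, (w : GolayPt → ℤ) i = 2 * chi A i := by
        intro i
        by_cases hi : i ∈ A
        · rw [chi_mem hi]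
          have := h2' i hi
          have := hcon i
          omega
        · rw [chi_not_mem hi, h0 i hi]; rfl
      rw [Finset.sum_congr rfl fun i _ => hform i, ← Finset.mul_sum, sum_chi, hc, hq2] at h2
      norm_num at h2
    refine ⟨k, by rintro rfl; omega, by rintro rfl; omega, Or.inr ?_⟩
    rw [dot_lv', hk, hq2]; norm_num
  · obtain ⟨m, hm, h1, hW⟩ := h
    have hm3 : (w : GolayPt → ℤ) m = 3 ∧ (m = none ∨ m = some 0) := by
      by_cases hmn : m = none
      · subst hmn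
        have := h1 (some 0) (by simp)
        exact ⟨by omega, Or.inl rfl⟩
      · by_cases hmq : m = some 0
        · subst hmq
          have := h1 none (by simp)
          exact ⟨by omega, Or.inr rfl⟩
        · have h5 := h1 none (Ne.symm hmn)
          have h6 := h1 (some 0) (Ne.symm hmq)
          omega
    obtain ⟨hm3, hmm⟩ := hm3
    rw [sum_type3 hm3 h1] at h2
    rcases hmm with rfl | rfl
    · -- `(3, 1, …)`: impossible
      exfalso
      have hq : (w : GolayPt → ℤ) (some 0) = 1 := by omega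
      rw [hq] at h2
      have hc : (cls (w : GolayPt → ℤ) 1).card = 20 ∨ (cls (w : GolayPt → ℤ) 1).card = 4 := by
        omega
      rcases hc with hc | hc
      · have h3 := Cfsg.Agent.Leech.Code.compl_mem hW
        have h5 : ((cls (w : GolayPt → ℤ) 1)ᶜ).card = 4 := by
          rw [Finset.card_compl, hc, Cfsg.Agent.Leech.Code.card_golayPt]
        have := Cfsg.Agent.Leech.Code.eight_le_card h3 (by rw [← Finset.card_pos]; omega)
        omega
      · have := Cfsg.Agent.Leech.Code.eight_le_card hW (by rw [← Finset.card_pos]; omega)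
        omega
    · -- `(1, 3, …)`
      rw [hm3] at h2
      have hp : (w : GolayPt → ℤ) none = 1 := by omega
      have hc : (cls (w : GolayPt → ℤ) 1).card = 24 ∨ (cls (w : GolayPt → ℤ) 1).card = 8 := by
        omega
      have hqn : some 0 ∉ cls (w : GolayPt → ℤ) 1 := by
        rw [mem_cls, hm3]; unfold Int.ModEq; norm_num
      have hc8 : (cls (w : GolayPt → ℤ) 1).card = 8 := by
        refine hc.resolve_left fun h => hqn ?_
        have : cls (w : GolayPt → ℤ) 1 = Finset.univ := by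
          rw [← Finset.card_eq_iff_eq_univ, h, Cfsg.Agent.Leech.Code.card_golayPt]
        rw [this]; exact Finset.mem_univ _
      obtain ⟨k, hk⟩ := exists_notMem (insert (some 0) (insert none (cls (w : GolayPt → ℤ) 1)))
        (by
          have h3 := Finset.card_insert_le (some 0) (insert none (cls (w : GolayPt → ℤ) 1))
          have h5 := Finset.card_insert_le none (cls (w : GolayPt → ℤ) 1)
          omega)
      simp only [Finset.mem_insert, not_or] at hk
      have hk1 : (w : GolayPt → ℤ) k = -1 := by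
        refine (h1 k hk.1).resolve_left fun h => hk.2.2 ?_
        rw [mem_cls, h]
      refine ⟨k, hk.2.1, Ne.symm hk.1, Or.inr ?_⟩
      rw [dot_lv', hk1, hm3]; norm_num

theorem hub_adj {k l : GolayPt} (hkl : k ≠ l) (hk : some 0 ≠ k) (hl : some 0 ≠ l) :
    Adj (lv (some 0) k 4 (-4) hk four_or neg_four_or) (lv (some 0) l 4 (-4) hl four_or neg_four_or) :=
  adj_lv hk hl hkl four_or neg_four_or four_or neg_four_or

theorem good_eight {o x : leechLattice}
    (ho : (o : GolayPt → ℤ) = vec3 4 4 0) (hx : (x : GolayPt → ℤ) = vec3 1 (-3) 1) :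
    Good o x := by
  obtain ⟨r, hr⟩ := exists_notMem {none, some 0} (lt_of_le_of_lt Finset.card_le_two (by decide))
  simp only [Finset.mem_insert, Finset.mem_singleton, not_or] at hr
  have hqr : some 0 ≠ r := Ne.symm hr.2
  have key1 : ∀ k, k ≠ none → ∀ hk : some 0 ≠ k, Relation.ReflTransGen (MuAdj o x)
      (lv (some 0) k 4 (-4) hk four_or neg_four_or)
      (lv (some 0) r 4 (-4) hqr four_or neg_four_or) := by
    intro k hk hk'
    by_cases hkr : k = r
    · subst hkr; exact Relation.ReflTransGen.refl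
    · exact Relation.ReflTransGen.single ⟨hub ho hx hk hk', hub ho hx hr.1 hqr, hub_adj hkr hk' hqr⟩
  -- signs
  have key2 : Relation.ReflTransGen (MuAdj o x)
      (-lv (some 0) r 4 (-4) hqr four_or neg_four_or)
      (lv (some 0) r 4 (-4) hqr four_or neg_four_or) := by
    obtain ⟨s, hs⟩ := exists_notMem {none, some 0, r}
      (lt_of_le_of_lt Finset.card_le_three (by decide))
    simp only [Finset.mem_insert, Finset.mem_singleton, not_or] at hs
    have hqs : some 0 ≠ s := Ne.symm hs.2.1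
    have h1 := hub ho hx hr.1 hqr
    have h2 := hub ho hx hs.1 hqs
    refine (Relation.ReflTransGen.single ⟨mu_neg.2 h1, h2, adj_neg_left.2 ?_⟩).tail
      ⟨h2, h1, ?_⟩
    · exact hub_adj hs.2.2 hqs hqr
    · exact hub_adj (Ne.symm hs.2.2) hqr hqs
  have hneg : ∀ w w', Relation.ReflTransGen (MuAdj o x) w w' →
      Relation.ReflTransGen (MuAdj o x) (-w) (-w') := by
    intro w w' h
    induction h with
    | refl => exact Relation.ReflTransGen.refl
    | tail _ hbc ih =>
      exact ih.tail ⟨mu_neg.2 hbc.1, mu_neg.2 hbc.2.1, adj_neg_left.2 (adj_neg_right.2 hbc.2.2)⟩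
  have key3 : ∀ w, Mu o x w → (w : GolayPt → ℤ) none + (w : GolayPt → ℤ) (some 0) = 4 →
      Relation.ReflTransGen (MuAdj o x) w (lv (some 0) r 4 (-4) hqr four_or neg_four_or) := by
    intro w hw h4
    obtain ⟨k, hk, hk', h | h⟩ := near_hub hx w hw h4
    · rw [h]; exact key1 k hk hk'
    · exact Relation.ReflTransGen.head ⟨hw, hub ho hx hk hk', nrm_lv _ _ _ _ _ _ _, Or.inl h⟩
        (key1 k hk hk')
  have key : ∀ w, Mu o x w →
      Relation.ReflTransGen (MuAdj o x) w (lv (some 0) r 4 (-4) hqr four_or neg_four_or) := by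
    intro w hw
    have e1 : dot o w = 4 * (w : GolayPt → ℤ) none + 4 * (w : GolayPt → ℤ) (some 0) := by
      show dotInt (o : GolayPt → ℤ) w = _
      rw [ho, vec3_eq_two, dotInt_two (by simp)]
    have h1 := hw.1.2
    rw [e1] at h1
    rcases h1 with h1 | h1
    · exact key3 w hw (by omega)
    · have h2 := key3 (-w) (mu_neg.2 hw) (by
        rw [AddSubgroup.coe_neg, Pi.neg_apply, Pi.neg_apply]; omega)
      have h3 := hneg _ _ h2
      rw [neg_neg] at h3
      exact h3.trans key2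
  refine ⟨⟨_, hub ho hx hr.1 hqr⟩, ?_⟩
  intro w w' hw hw'
  exact (key w hw).trans (conn_symm (key w' hw'))

/-! ### The third vector -/

/-- For `dot o x = -8` there is a minimal vector `y` orthogonal to `o` with `dot x y = 16`. -/
theorem exists_third_base {p q : GolayPt} (hpq : p ≠ q) (x : leechLattice) (hx : nrm x = 32)
    (h : dot (lv p q 4 4 hpq four_or four_or) x = -8) :
    ∃ y : leechLattice, nrm y = 32 ∧ dot (lv p q 4 4 hpq four_or four_or) y = 0 ∧ dot x y = 16 := by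
  rw [dot_lv] at h
  -- two further points
  have key : ∀ k l, k ≠ l → (k ≠ p ∧ k ≠ q ∧ l ≠ p ∧ l ≠ q) → ∀ a b : ℤ, (a = 4 ∨ a = -4) →
      (b = 4 ∨ b = -4) → a * (x : GolayPt → ℤ) k + b * (x : GolayPt → ℤ) l = 16 →
      ∃ y : leechLattice, nrm y = 32 ∧ dot (lv p q 4 4 hpq four_or four_or) y = 0 ∧
        dot x y = 16 := by
    intro k l hkl ⟨h1, h2, h3, h4⟩ a b ha hb hab
    refine ⟨lv k l a b hkl ha hb, nrm_lv _ _ _ _ _ _ _, ?_, ?_⟩
    · rw [dot_lv, lv_coe, two_other (Ne.symm h1) (Ne.symm h3),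
        two_other (Ne.symm h2) (Ne.symm h4)]; rfl
    · rw [dot_lv']; exact hab
  rcases (min_iff _).1 ⟨x.2, hx⟩ with h' | h' | h'
  · exfalso
    obtain ⟨k, l, hkl, a, b, ha, hb, e⟩ := eq_two_of_type4 h'
    have hval : ∀ i, (x : GolayPt → ℤ) i = 0 ∨ (x : GolayPt → ℤ) i = 4 ∨
        (x : GolayPt → ℤ) i = -4 := by
      intro i
      by_cases hik : i = k
      · subst hik; rw [e, two_left]; exact Or.inr ha
      · by_cases hil : i = l
        · subst hil; rw [e, two_right hkl]; exact Or.inr hb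
        · left; rw [e, two_other hik hil]
    have h3 := hval p
    have h4 := hval q
    omega
  · obtain ⟨A, hA, h2, h0, -⟩ := h'
    have hc : A.card = 8 := Cfsg.Agent.Leech.Code.steiner.1 A hA
    obtain ⟨k, hk⟩ : ((A.erase p).erase q).Nonempty := by
      rw [← Finset.card_pos]
      have h3 := Finset.pred_card_le_card_erase (s := A) (a := p)
      have h4 := Finset.pred_card_le_card_erase (s := A.erase p) (a := q)
      omega
    obtain ⟨l, hl⟩ : (((A.erase p).erase q).erase k).Nonempty := by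
      rw [← Finset.card_pos]
      have h3 := Finset.pred_card_le_card_erase (s := A) (a := p)
      have h4 := Finset.pred_card_le_card_erase (s := A.erase p) (a := q)
      have h5 := Finset.pred_card_le_card_erase (s := (A.erase p).erase q) (a := k)
      omega
    simp only [Finset.mem_erase] at hk hl
    have hk2 := h2 k hk.2.2
    have hl2 := h2 l hl.2.2.2
    refine key k l (Ne.symm hl.1) ⟨hk.2.1, hk.1, hl.2.2.1, hl.2.1⟩
      (2 * (x : GolayPt → ℤ) k) (2 * (x : GolayPt → ℤ) l) (by omega) (by omega) ?_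
    rcases hk2 with e | e <;> rcases hl2 with e' | e' <;> rw [e, e'] <;> norm_num
  · obtain ⟨m, hm, h1, -⟩ := h'
    by_cases hmp : m = p
    · subst hmp
      have h3 := h1 q hpq.symm
      refine ⟨lv m q (-4) 4 hpq neg_four_or four_or, nrm_lv _ _ _ _ _ _ _, ?_, ?_⟩
      · rw [dot_lv, lv_coe, two_left, two_right hpq]; norm_num
      · rw [dot_lv']; omega
    · by_cases hmq : m = q
      · subst hmq
        have h3 := h1 p hpq
        refine ⟨lv p m 4 (-4) hpq four_or neg_four_or, nrm_lv _ _ _ _ _ _ _, ?_, ?_⟩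
        · rw [dot_lv, lv_coe, two_left, two_right hpq]; norm_num
        · rw [dot_lv']; omega
      · obtain ⟨l, hl⟩ := exists_notMem {p, q, m} (lt_of_le_of_lt Finset.card_le_three (by decide))
        simp only [Finset.mem_insert, Finset.mem_singleton, not_or] at hl
        have hl1 := h1 l hl.2.2
        have ha : ∃ a : ℤ, (a = 4 ∨ a = -4) ∧ a * (x : GolayPt → ℤ) m = 12 := by
          rcases hm with e | e
          · exact ⟨4, Or.inl rfl, by rw [e]; rfl⟩
          · exact ⟨-4, Or.inr rfl, by rw [e]; rfl⟩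
        have hb : ∃ b : ℤ, (b = 4 ∨ b = -4) ∧ b * (x : GolayPt → ℤ) l = 4 := by
          rcases hl1 with e | e
          · exact ⟨4, Or.inl rfl, by rw [e]; rfl⟩
          · exact ⟨-4, Or.inr rfl, by rw [e]; rfl⟩
        obtain ⟨a, ha, hae⟩ := ha
        obtain ⟨b, hb, hbe⟩ := hb
        exact key m l (Ne.symm hl.2.2) ⟨hmp, hmq, hl.1, hl.2.1⟩ a b ha hb (by rw [hae, hbe]; rfl)

theorem exists_third (o x : leechLattice) (ho : nrm o = 32) (hx : nrm x = 32)
    (h : dot o x = -8) : ∃ y : leechLattice, nrm y = 32 ∧ dot o y = 0 ∧ dot x y = 16 := by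
  obtain ⟨p, hp⟩ := exists_notMem ∅ (by simp)
  obtain ⟨q, hq⟩ := exists_notMem {p} (by simp)
  rw [Finset.mem_singleton] at hq
  have hpq : p ≠ q := Ne.symm hq
  obtain ⟨g, hg⟩ := co0_transitive_min o (lv p q 4 4 hpq four_or four_or) ho
    (sqNorm_lv _ _ _ _ _ _ _)
  obtain ⟨y, hy, h1, h2⟩ := exists_third_base hpq (g • x) (by rw [nrm_smul, hx])
    (by rw [← hg, dot_smul, h])
  refine ⟨g⁻¹ • y, by rw [nrm_smul, hy], ?_, ?_⟩
  · rw [← dot_smul g, smul_inv_smul, hg, h1]
  · rw [← dot_smul g, smul_inv_smul, h2]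

/-! ### The theorem -/

/-- **(L3)** Two minimal vectors with inner product `0` or `±8` have a common neighbour, and the
common neighbours form a connected graph. -/
theorem good (o x : leechLattice) (ho : nrm o = 32) (hx : nrm x = 32)
    (h : dot o x = 0 ∨ dot o x = 8 ∨ dot o x = -8) : Good o x := by
  rcases h with h | h | h
  · obtain ⟨g, h1, h2⟩ := Cfsg.Agent.Leech.FrameTriples.orth_pair o x ho hx h
    exact good_of_smul g (good_zero (p := none) (q := some 0) (by simp) h1 h2)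
  · apply good_neg
    have hd : dot o (-x) = -8 := by rw [dot_neg_right, h]
    have hn : nrm (-x) = 32 := by rw [nrm_neg, hx]
    obtain ⟨y, hy, h3, h4⟩ := exists_third o (-x) ho hn hd
    obtain ⟨g, h1, h2, -⟩ := Cfsg.Agent.Leech.FrameTriples.mcl_triple o (-x) y ho hn hy hd h3 h4
    exact good_of_smul g (good_eight h1 h2)
  · obtain ⟨y, hy, h3, h4⟩ := exists_third o x ho hx h
    obtain ⟨g, h1, h2, -⟩ := Cfsg.Agent.Leech.FrameTriples.mcl_triple o x y ho hx hy h h3 h4
    exact good_of_smul g (good_eight h1 h2)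

/-- Existence of a common neighbour. -/
theorem exists_mu (o x : leechLattice) (ho : nrm o = 32) (hx : nrm x = 32)
    (h : dot o x = 0 ∨ dot o x = 8 ∨ dot o x = -8) : ∃ w, Adj o w ∧ Adj x w :=
  (good o x ho hx h).1

/-- Connectedness of the set of the common neighbours. -/
theorem mu_conn (o x : leechLattice) (ho : nrm o = 32) (hx : nrm x = 32)
    (h : dot o x = 0 ∨ dot o x = 8 ∨ dot o x = -8) {w w' : leechLattice}
    (hw : Adj o w) (hw1 : Adj x w) (hw' : Adj o w') (hw1' : Adj x w') :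
    Relation.ReflTransGen (MuAdj o x) w w' :=
  (good o x ho hx h).2 w w' ⟨hw, hw1⟩ ⟨hw', hw1'⟩

end Cfsg.Agent.MonsterP.LeechL3
end
end

-- part: MonsterP/LeechTriple
section
set_option linter.all false
open scoped Cfsg.Agent.FastGrp

/-!
Pairs and triples of minimal vectors of the Leech lattice with inner products `16`: `Co0` is
transitive on the ordered pairs (hence on the lines `b + c + d = 0`) and on the ordered triples
with all three inner products `16`.  The graph "inner product `±16`" restricted to the `1104`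
vectors of shape `(±4, ±4, 0^22)` is connected.
-/

set_option autoImplicit false

namespace Cfsg.Agent.MonsterP.LeechTriple

open Cfsg Cfsg.Agent.MonsterX.KSide Cfsg.Agent.MonsterX.Lat Cfsg.Agent.Leech.Min
  Cfsg.Agent.Leech.Trans Cfsg.Agent.Leech.TransPair Cfsg.Agent.Leech.Code
  Cfsg.Agent.Leech.Co0Elts

/-! ### Pairs -/

/-- `Co0` is transitive on the ordered pairs of minimal vectors with inner product `16`. -/
theorem exists_pair (b c b' c' : leechLattice) (hb : nrm b = 32) (hc : nrm c = 32)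
    (hb' : nrm b' = 32) (hc' : nrm c' = 32) (h : dot b c = 16) (h' : dot b' c' = 16) :
    ∃ g : ↥Co0, g • b = b' ∧ g • c = c' := by
  obtain ⟨g, hg⟩ := co0_transitive_min b b' hb hb'
  obtain ⟨k, hk1, hk2⟩ := co0_transitive_pairs b' (g • (-c)) (-c') hb'
    (by
      have := nrm_smul g (-c)
      rw [nrm_neg, hc] at this
      exact this)
    (by
      have := nrm_neg c'
      rw [hc'] at this
      exact this)
    (by
      have : dot (g • b) (g • (-c)) = -16 := by rw [dot_smul, dot_neg_right, h]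
      rw [hg] at this
      exact this)
    (by
      have : dot b' (-c') = -16 := by rw [dot_neg_right, h']
      exact this)
  refine ⟨k * g, by rw [mul_smul, hg, hk1], ?_⟩
  have : (k * g) • (-c) = -c' := by rw [mul_smul, hk2]
  rw [Cfsg.Agent.LeechMat.Core.co0_smul_neg] at this
  exact neg_injective this

/-- `Co0` is transitive on the ordered pairs of minimal vectors with inner product `-16`. -/
theorem exists_pair_neg (b c b' c' : leechLattice) (hb : nrm b = 32) (hc : nrm c = 32)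
    (hb' : nrm b' = 32) (hc' : nrm c' = 32) (h : dot b c = -16) (h' : dot b' c' = -16) :
    ∃ g : ↥Co0, g • b = b' ∧ g • c = c' := by
  obtain ⟨g, h1, h2⟩ := exists_pair b (-c) b' (-c') hb (by rw [nrm_neg, hc]) hb'
    (by rw [nrm_neg, hc']) (by rw [dot_neg_right, h]; rfl) (by rw [dot_neg_right, h']; rfl)
  rw [Cfsg.Agent.LeechMat.Core.co0_smul_neg] at h2
  exact ⟨g, h1, neg_injective h2⟩

/-! ### Moves fixing two vectors -/

/-- `x` can be moved to `y` by an element of `Co0` fixing `b` and `c`. -/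
def F (b c x y : leechLattice) : Prop := ∃ g : ↥Co0, g • b = b ∧ g • c = c ∧ g • x = y

theorem F.refl (b c x : leechLattice) : F b c x x :=
  ⟨1, one_smul _ _, one_smul _ _, one_smul _ _⟩

theorem F.symm {b c x y : leechLattice} (h : F b c x y) : F b c y x := by
  obtain ⟨g, h1, h2, rfl⟩ := h
  exact ⟨g⁻¹, by rw [inv_smul_eq_iff]; exact h1.symm, by rw [inv_smul_eq_iff]; exact h2.symm,
    inv_smul_smul g x⟩

theorem F.trans {b c x y z : leechLattice} (h : F b c x y) (h' : F b c y z) : F b c x z := by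
  obtain ⟨g, h1, h2, rfl⟩ := h
  obtain ⟨g', h1', h2', rfl⟩ := h'
  exact ⟨g' * g, by rw [mul_smul, h1, h1'], by rw [mul_smul, h2, h2'], mul_smul _ _ _⟩

theorem F.nrm_eq {b c x y : leechLattice} (h : F b c x y) : nrm y = nrm x := by
  obtain ⟨g, -, -, rfl⟩ := h
  exact nrm_smul g x

section

variable {p q r : GolayPt} (hpq : p ≠ q) (hpr : p ≠ r) (hqr : q ≠ r)

include hpq hpr hqr

theorem F_xi {m : GolayPt} (hpm : p ≠ m) (hqm : q ≠ m) (hrm : r ≠ m) (x : leechLattice) :
    ∃ y : leechLattice, F (v0 p q hpq) (v0 p r hpr) x y ∧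
      (∀ i ∈ ({p, q, r, m} : Finset GolayPt), (y : GolayPt → ℤ) i = (x : GolayPt → ℤ) i -
        ((x : GolayPt → ℤ) p + (x : GolayPt → ℤ) q + (x : GolayPt → ℤ) r + (x : GolayPt → ℤ) m) / 2) ∧
      ((∀ i, i ∉ ({p, q, r, m} : Finset GolayPt) → (x : GolayPt → ℤ) i = 0) →
        ∀ i, i ∉ ({p, q, r, m} : Finset GolayPt) → (y : GolayPt → ℤ) i = 0) := by
  obtain ⟨g, hg1, hg2⟩ := exists_xi {p, q, r, m} (card_four hpq hpr hpm hqr hqm hrm)
  have hfix : ∀ v : leechLattice, (∀ i, i ∉ ({p, q, r, m} : Finset GolayPt) →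
      (v : GolayPt → ℤ) i = 0) → ∑ i ∈ ({p, q, r, m} : Finset GolayPt), (v : GolayPt → ℤ) i = 0 →
      g • v = v := by
    intro v hv0 hvs
    apply Subtype.ext
    funext i
    by_cases hi : i ∈ ({p, q, r, m} : Finset GolayPt)
    · rw [hg1 v i hi, hvs]; simp
    · rw [hg2 v hv0 i hi, hv0 i hi]
  refine ⟨g • x, ⟨g, hfix _ (v0_zero hpq) (v0_sum hpq hpr hpm hqr hqm hrm), hfix _ ?_ ?_, rfl⟩,
    ?_, hg2 x⟩
  · intro i hi
    simp only [Finset.mem_insert, Finset.mem_singleton, not_or] at hi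
    exact v0_other hpr hi.1 hi.2.2.1
  · rw [sum_four hpq hpr hpm hqr hqm hrm, v0_left, v0_right, v0_other hpr hpq.symm hqr,
      v0_other hpr hpm.symm hrm.symm]
    rfl
  · intro i hi
    rw [hg1 x i hi, sum_four hpq hpr hpm hqr hqm hrm]

theorem F_flip {m : GolayPt} (hpm : p ≠ m) (hqm : q ≠ m) (hrm : r ≠ m) (x : leechLattice) :
    ∃ y : leechLattice, F (v0 p q hpq) (v0 p r hpr) x y ∧
      (y : GolayPt → ℤ) m = -(x : GolayPt → ℤ) m ∧
      (∀ i ∈ ({p, q, r} : Finset GolayPt), (y : GolayPt → ℤ) i = (x : GolayPt → ℤ) i) ∧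
      ∀ i, (y : GolayPt → ℤ) i = (x : GolayPt → ℤ) i ∨
        (y : GolayPt → ℤ) i = -(x : GolayPt → ℤ) i := by
  obtain ⟨D, hD, hmD, hDs⟩ := exists_word m {p, q, r}
    (Finset.card_le_three.trans (by norm_num)) (by
      simp only [Finset.mem_insert, Finset.mem_singleton, not_or]
      exact ⟨hpm.symm, hqm.symm, hrm.symm⟩)
  have hco : ∀ (v : leechLattice) (i : GolayPt), ((sgn D hD • v : leechLattice) : GolayPt → ℤ) i =
      if i ∈ D then -(v : GolayPt → ℤ) i else (v : GolayPt → ℤ) i := fun _ _ => rfl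
  have hpD := hDs p (by simp)
  have hqD := hDs q (by simp)
  have hrD := hDs r (by simp)
  refine ⟨sgn D hD • x, ⟨sgn D hD, ?_, ?_, rfl⟩, ?_, ?_, ?_⟩
  · apply Subtype.ext
    funext i
    rw [hco]
    split_ifs with hi
    · rw [v0_other hpq (fun h => hpD (h ▸ hi)) (fun h => hqD (h ▸ hi))]; rfl
    · rfl
  · apply Subtype.ext
    funext i
    rw [hco]
    split_ifs with hi
    · rw [v0_other hpr (fun h => hpD (h ▸ hi)) (fun h => hrD (h ▸ hi))]; rfl
    · rfl
  · rw [hco, if_pos hmD]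
  · intro i hi
    rw [hco, if_neg (hDs i hi)]
  · intro i
    rw [hco]
    split_ifs
    · exact Or.inr rfl
    · exact Or.inl rfl

/-! ### Triples -/

/-- A vector of type 4 with the right inner products is moved to `-4 e_q - 4 e_r`. -/
theorem F_four (w : leechLattice) (hw : Type4 (w : GolayPt → ℤ))
    (h1 : (w : GolayPt → ℤ) p - (w : GolayPt → ℤ) q = 4)
    (h2 : (w : GolayPt → ℤ) p - (w : GolayPt → ℤ) r = 4) :
    F (v0 p q hpq) (v0 p r hpr) w (lv q r (-4) (-4) hqr neg_four_or neg_four_or) := by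
  -- the vector `4 e_p + 4 e_m`
  have key : ∀ (m : GolayPt) (hpm : p ≠ m), q ≠ m → r ≠ m →
      F (v0 p q hpq) (v0 p r hpr) (lv p m 4 4 hpm four_or four_or)
        (lv q r (-4) (-4) hqr neg_four_or neg_four_or) := by
    intro m hpm hqm hrm
    obtain ⟨y, hF, hy, hy0⟩ := F_xi hpq hpr hqr hpm hqm hrm (lv p m 4 4 hpm four_or four_or)
    have e : y = lv q r (-4) (-4) hqr neg_four_or neg_four_or := by
      apply Subtype.ext
      funext i
      rw [lv_coe]
      rw [lv_coe, two_left, two_right hpm, two_other hpq.symm hqm, two_other hpr.symm hrm] at hy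
      by_cases hi : i ∈ ({p, q, r, m} : Finset GolayPt)
      · have e1 := hy i hi
        simp only [Finset.mem_insert, Finset.mem_singleton] at hi
        rcases hi with rfl | rfl | rfl | rfl
        · rw [e1, two_left, two_other hpq hpr]; rfl
        · rw [e1, two_left, two_other hpq.symm hqm]; rfl
        · rw [e1, two_right hqr, two_other hpr.symm hrm]; rfl
        · rw [e1, two_right hpm, two_other hqm.symm hrm.symm]; rfl
      · have hi' := hi
        simp only [Finset.mem_insert, Finset.mem_singleton, not_or] at hi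
        rw [hy0 ?_ i hi', two_other hi.2.1 hi.2.2.1]
        intro j hj
        simp only [Finset.mem_insert, Finset.mem_singleton, not_or] at hj
        rw [lv_coe, two_other hj.1 hj.2.2.2]
    rwa [e] at hF
  have key2 : ∀ (m : GolayPt) (hpm : p ≠ m), q ≠ m → r ≠ m → ∀ s : ℤ, ∀ hs : s = 4 ∨ s = -4,
      F (v0 p q hpq) (v0 p r hpr) (lv p m 4 s hpm four_or hs)
        (lv q r (-4) (-4) hqr neg_four_or neg_four_or) := by
    intro m hpm hqm hrm s hs
    rcases hs with rfl | rfl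
    · exact key m hpm hqm hrm
    · obtain ⟨y, hF, hym, hy, hyi⟩ := F_flip hpq hpr hqr hpm hqm hrm
        (lv p m 4 (-4) hpm four_or neg_four_or)
      have e : y = lv p m 4 4 hpm four_or four_or := by
        apply Subtype.ext
        funext i
        rw [lv_coe]
        by_cases hip : i = p
        · subst hip
          rw [hy i (by simp), lv_coe, two_left, two_left]
        · by_cases him : i = m
          · subst him
            rw [hym, lv_coe, two_right hpm, two_right hpm]; rfl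
          · have h3 := hyi i
            rw [lv_coe, two_other hip him] at h3
            rw [two_other hip him]
            omega
      rw [e] at hF
      exact hF.trans (key m hpm hqm hrm)
  obtain ⟨k, l, hkl, a, b, ha, hb, e⟩ := eq_two_of_type4 hw
  have hwe : w = lv k l a b hkl ha hb := Subtype.ext e
  by_cases hp0 : (w : GolayPt → ℤ) p = 4
  · -- `w = 4 e_p ± 4 e_j`
    have hq0 : (w : GolayPt → ℤ) q = 0 := by omega
    have hr0 : (w : GolayPt → ℤ) r = 0 := by omega
    have hpk : p = k ∨ p = l := by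
      by_contra hcon
      push Not at hcon
      rw [e, two_other hcon.1 hcon.2] at hp0
      norm_num at hp0
    rw [e] at hp0 hq0 hr0
    rcases hpk with rfl | rfl
    · rw [two_left] at hp0
      subst hp0
      rw [hwe]
      refine key2 l hkl ?_ ?_ b hb
      · rintro rfl
        rw [two_right hkl] at hq0
        omega
      · rintro rfl
        rw [two_right hkl] at hr0
        omega
    · rw [two_right hkl] at hp0
      subst hp0
      rw [hwe, lv_swap]
      refine key2 k hkl.symm ?_ ?_ a ha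
      · rintro rfl
        rw [two_left] at hq0
        omega
      · rintro rfl
        rw [two_left] at hr0
        omega
  · have hval : ∀ i, (w : GolayPt → ℤ) i = 0 ∨ (w : GolayPt → ℤ) i = 4 ∨
        (w : GolayPt → ℤ) i = -4 := by
      intro i
      by_cases hik : i = k
      · subst hik; rw [e, two_left]; exact Or.inr ha
      · by_cases hil : i = l
        · subst hil; rw [e, two_right hkl]; exact Or.inr hb
        · left; rw [e, two_other hik hil]
    have hp1 : (w : GolayPt → ℤ) p = 0 := by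
      have h3 := hval p
      have h4 := hval q
      omega
    have hq1 : (w : GolayPt → ℤ) q = -4 := by omega
    have hr1 : (w : GolayPt → ℤ) r = -4 := by omega
    have hqk : q = k ∨ q = l := by
      by_contra hcon
      push Not at hcon
      rw [e, two_other hcon.1 hcon.2] at hq1
      norm_num at hq1
    have hrk : r = k ∨ r = l := by
      by_contra hcon
      push Not at hcon
      rw [e, two_other hcon.1 hcon.2] at hr1
      norm_num at hr1
    have e2 : w = lv q r (-4) (-4) hqr neg_four_or neg_four_or := by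
      apply Subtype.ext
      funext i
      rw [lv_coe]
      by_cases hiq : i = q
      · subst hiq; rw [hq1, two_left]
      · by_cases hir : i = r
        · subst hir; rw [hr1, two_right hqr]
        · rw [two_other hiq hir, e]
          rcases hqk with rfl | rfl <;> rcases hrk with rfl | rfl
          · exact absurd rfl hqr
          · exact two_other hiq hir _ _
          · exact two_other hir hiq _ _
          · exact absurd rfl hqr
    rw [e2]
    exact F.refl _ _ _

/-- A point outside three given ones. -/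
theorem exists_fourth : ∃ m, p ≠ m ∧ q ≠ m ∧ r ≠ m := by
  obtain ⟨m, hm⟩ := exists_notMem {p, q, r} (lt_of_le_of_lt Finset.card_le_three (by decide))
  simp only [Finset.mem_insert, Finset.mem_singleton, not_or] at hm
  exact ⟨m, Ne.symm hm.1, Ne.symm hm.2.1, Ne.symm hm.2.2⟩

/-- The even case. -/
theorem F_even (w : leechLattice) (hn : nrm w = 32) {i : GolayPt}
    (hi : (w : GolayPt → ℤ) i % 2 = 0)
    (h1 : (w : GolayPt → ℤ) p - (w : GolayPt → ℤ) q = 4)
    (h2 : (w : GolayPt → ℤ) p - (w : GolayPt → ℤ) r = 4) :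
    F (v0 p q hpq) (v0 p r hpr) w (lv q r (-4) (-4) hqr neg_four_or neg_four_or) := by
  rcases type2_or_type4_of_coord w.2 hn hi with h | h
  · exact F_four hpq hpr hqr w h h1 h2
  obtain ⟨A, hA, hA2, hA0, -⟩ := h
  have h8 : A.card = 8 := hA.2
  have hval : ∀ i, (w : GolayPt → ℤ) i = 0 ∨ (w : GolayPt → ℤ) i = 2 ∨
      (w : GolayPt → ℤ) i = -2 := by
    intro i
    by_cases hi : i ∈ A
    · exact Or.inr (hA2 i hi)
    · exact Or.inl (hA0 i hi)
  have hvp := hval p
  have hvq := hval q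
  have hvr := hval r
  have hp2 : (w : GolayPt → ℤ) p = 2 := by omega
  have hq2 : (w : GolayPt → ℤ) q = -2 := by omega
  have hr2 : (w : GolayPt → ℤ) r = -2 := by omega
  obtain ⟨m, hmA, hpm, hqm, hrm⟩ : ∃ m ∈ A, p ≠ m ∧ q ≠ m ∧ r ≠ m := by
    have h3 : ({p, q, r} : Finset GolayPt).card < A.card :=
      lt_of_le_of_lt Finset.card_le_three (by omega)
    obtain ⟨m, hm, hm'⟩ := Finset.exists_mem_notMem_of_card_lt_card h3
    simp only [Finset.mem_insert, Finset.mem_singleton, not_or] at hm'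
    exact ⟨m, hm, Ne.symm hm'.1, Ne.symm hm'.2.1, Ne.symm hm'.2.2⟩
  obtain ⟨x, hF, hxp, hxq, hxr, hxm⟩ : ∃ x : leechLattice, F (v0 p q hpq) (v0 p r hpr) w x ∧
      (x : GolayPt → ℤ) p = 2 ∧ (x : GolayPt → ℤ) q = -2 ∧ (x : GolayPt → ℤ) r = -2 ∧
      (x : GolayPt → ℤ) m = -2 := by
    rcases hA2 m hmA with hm | hm
    · obtain ⟨y, hF, hym, hy, -⟩ := F_flip hpq hpr hqr hpm hqm hrm w
      exact ⟨y, hF, by rw [hy p (by simp), hp2], by rw [hy q (by simp), hq2],
        by rw [hy r (by simp), hr2], by rw [hym, hm]⟩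
    · exact ⟨w, F.refl _ _ _, hp2, hq2, hr2, hm⟩
  obtain ⟨y, hF', hy, -⟩ := F_xi hpq hpr hqr hpm hqm hrm x
  rw [hxp, hxq, hxr, hxm] at hy
  have hyp := hy p (by simp)
  have hyq := hy q (by simp)
  have hyr := hy r (by simp)
  rw [hxp] at hyp
  rw [hxq] at hyq
  rw [hxr] at hyr
  have hF2 := hF.trans hF'
  have hny : nrm y = 32 := by rw [hF2.nrm_eq, hn]
  exact hF2.trans (F_four hpq hpr hqr y (type4_of_coord y.2 hny (i := p)
    (Or.inl (by rw [hyp]; rfl))) (by rw [hyp, hyq]; rfl) (by rw [hyp, hyr]; rfl))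

theorem F_any (w : leechLattice) (hn : nrm w = 32)
    (h1 : (w : GolayPt → ℤ) p - (w : GolayPt → ℤ) q = 4)
    (h2 : (w : GolayPt → ℤ) p - (w : GolayPt → ℤ) r = 4) :
    F (v0 p q hpq) (v0 p r hpr) w (lv q r (-4) (-4) hqr neg_four_or neg_four_or) := by
  by_cases hi : ∃ i, (w : GolayPt → ℤ) i % 2 = 0
  · obtain ⟨i, hi⟩ := hi
    exact F_even hpq hpr hqr w hn hi h1 h2
  push Not at hi
  have h3 : Type3 (w : GolayPt → ℤ) := by
    rcases (min_iff _).1 ⟨w.2, hn⟩ with h | h | h
    · obtain ⟨k, l, hkl, hk, hl, h0⟩ := h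
      have := hi k
      omega
    · obtain ⟨A, hA, hA2, hA0, -⟩ := h
      have h8 : A.card = 8 := hA.2
      obtain ⟨k, hk⟩ : A.Nonempty := by rw [← Finset.card_pos]; omega
      have := hi k
      have := hA2 k hk
      omega
    · exact h
  obtain ⟨k, hk, hk1, -⟩ := h3
  have hp3 : (w : GolayPt → ℤ) p = 3 ∧ (w : GolayPt → ℤ) q = -1 ∧ (w : GolayPt → ℤ) r = -1 ∧
      k = p := by
    by_cases hkp : k = p
    · subst hkp
      have h4 := hk1 q hpq.symm
      have h5 := hk1 r hpr.symm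
      exact ⟨by omega, by omega, by omega, rfl⟩
    · exfalso
      have h4 := hk1 p (Ne.symm hkp)
      by_cases hkq : k = q
      · have h5 := hk1 r (by rw [hkq]; exact hqr.symm)
        omega
      · have h5 := hk1 q (Ne.symm hkq)
        omega
  obtain ⟨hp, hq, hr, rfl⟩ := hp3
  obtain ⟨m, hpm, hqm, hrm⟩ := exists_fourth hpq hpr hqr
  obtain ⟨x, hF, hxp, hxq, hxr, hxm⟩ : ∃ x : leechLattice, F (v0 k q hpq) (v0 k r hpr) w x ∧
      (x : GolayPt → ℤ) k = 3 ∧ (x : GolayPt → ℤ) q = -1 ∧ (x : GolayPt → ℤ) r = -1 ∧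
      (x : GolayPt → ℤ) m = 1 := by
    rcases hk1 m hpm.symm with hm | hm
    · exact ⟨w, F.refl _ _ _, hp, hq, hr, hm⟩
    · obtain ⟨y, hF, hym, hy, -⟩ := F_flip hpq hpr hqr hpm hqm hrm w
      exact ⟨y, hF, by rw [hy k (by simp), hp], by rw [hy q (by simp), hq],
        by rw [hy r (by simp), hr], by rw [hym, hm]; rfl⟩
  obtain ⟨y, hF', hy, -⟩ := F_xi hpq hpr hqr hpm hqm hrm x
  rw [hxp, hxq, hxr, hxm] at hy
  have hyp := hy k (by simp)
  have hyq := hy q (by simp)
  have hyr := hy r (by simp)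
  rw [hxp] at hyp
  rw [hxq] at hyq
  rw [hxr] at hyr
  have hF2 := hF.trans hF'
  have hny : nrm y = 32 := by rw [hF2.nrm_eq, hn]
  exact hF2.trans (F_even hpq hpr hqr y hny (i := k) (by rw [hyp]; rfl) (by rw [hyp, hyq]; rfl)
    (by rw [hyp, hyr]; rfl))

end

theorem dot_v0' {p q : GolayPt} (hpq : p ≠ q) (x : leechLattice) :
    dot (v0 p q hpq) x = 4 * ((x : GolayPt → ℤ) p - (x : GolayPt → ℤ) q) := dot_v0 hpq _

theorem nrm_v0 {p q : GolayPt} (hpq : p ≠ q) : nrm (v0 p q hpq) = 32 := sqNorm_v0 hpq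

theorem dot_v0_v0 {p q r : GolayPt} (hpq : p ≠ q) (hpr : p ≠ r) (hqr : q ≠ r) :
    dot (v0 p q hpq) (v0 p r hpr) = 16 := by
  rw [dot_v0', v0_left, v0_other hpr hpq.symm hqr]; rfl

/-- `Co0` is transitive on the ordered triples of minimal vectors with inner products `16`. -/
theorem exists_triple (b c d b' c' d' : leechLattice) (hb : nrm b = 32) (hc : nrm c = 32)
    (hd : nrm d = 32) (hb' : nrm b' = 32) (hc' : nrm c' = 32) (hd' : nrm d' = 32)
    (hbc : dot b c = 16) (hbd : dot b d = 16) (hcd : dot c d = 16)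
    (hbc' : dot b' c' = 16) (hbd' : dot b' d' = 16) (hcd' : dot c' d' = 16) :
    ∃ g : ↥Co0, g • b = b' ∧ g • c = c' ∧ g • d = d' := by
  obtain ⟨p, hp⟩ := exists_notMem ∅ (by simp)
  obtain ⟨q, hq⟩ := exists_notMem {p} (by simp)
  obtain ⟨r, hr⟩ := exists_notMem {p, q} (lt_of_le_of_lt Finset.card_le_two (by decide))
  simp only [Finset.mem_insert, Finset.mem_singleton, not_or] at hq hr
  have hpq : p ≠ q := Ne.symm hq
  have hpr : p ≠ r := Ne.symm hr.1
  have hqr : q ≠ r := Ne.symm hr.2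
  have key : ∀ b c d : leechLattice, nrm b = 32 → nrm c = 32 → nrm d = 32 → dot b c = 16 →
      dot b d = 16 → dot c d = 16 → ∃ g : ↥Co0, g • b = v0 p q hpq ∧ g • c = v0 p r hpr ∧
        g • d = lv q r (-4) (-4) hqr neg_four_or neg_four_or := by
    intro b c d hb hc hd hbc hbd hcd
    obtain ⟨g, h1, h2⟩ := exists_pair b c (v0 p q hpq) (v0 p r hpr) hb hc (nrm_v0 _) (nrm_v0 _)
      hbc (dot_v0_v0 hpq hpr hqr)
    have e1 : dot (g • b) (g • d) = 16 := by rw [dot_smul, hbd]
    have e2 : dot (g • c) (g • d) = 16 := by rw [dot_smul, hcd]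
    rw [h1, dot_v0'] at e1
    rw [h2, dot_v0'] at e2
    obtain ⟨k, hk1, hk2, hk3⟩ := F_any hpq hpr hqr (g • d) (by rw [nrm_smul, hd]) (by omega)
      (by omega)
    exact ⟨k * g, by rw [mul_smul, h1, hk1], by rw [mul_smul, h2, hk2], by rw [mul_smul, hk3]⟩
  obtain ⟨g, h1, h2, h3⟩ := key b c d hb hc hd hbc hbd hcd
  obtain ⟨g', h1', h2', h3'⟩ := key b' c' d' hb' hc' hd' hbc' hbd' hcd'
  refine ⟨g'⁻¹ * g, ?_, ?_, ?_⟩
  · rw [mul_smul, h1, ← h1', inv_smul_smul]
  · rw [mul_smul, h2, ← h2', inv_smul_smul]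
  · rw [mul_smul, h3, ← h3', inv_smul_smul]

/-! ### The vectors of shape `(±4, ±4, 0^22)` -/

end Cfsg.Agent.MonsterP.LeechTriple

private theorem dce_bc084121d061 : _root_.True := by
  try have : _root_.True := by simp only [_root_.Cfsg.Agent.Leech.TransPair.v0.congr_simp]
  exact _root_.True.intro
end

section
prune_inst 0xfcfff9edb8bddfffff7e7fffffdffc39b8dfffefdff943ffe9ebff7fff276f8be5fbaf8de4d8fecef6e21c90b87853fb7eeeffe36fdc7ffffd5ff45ffbee4ff7ffbd0d71f7bc3e1ffe4ffff3f17f8a7f000000000020000000000000000041000200000000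

-- part: MonsterP/SChar
section
prune_inst 0x20006024702200000018000002001c2412000102004b8000414008000d8902402045062122301110801a04902000004811100180022800000a000000000100000029000080180c00120000802806400000000000000000000000000000000004000000000
set_option linter.all false
open scoped Cfsg.Agent.FastGrp

/-!
# Transitivity of `K` on adjacent pairs and on triangles of short elements

`K` (the centraliser of the central involution of the extraspecial group) is transitive on the ordered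
pairs of short elements with inner product `±16`, and on the triples of type IIa.
-/

set_option autoImplicit false

namespace Cfsg.Agent.MonsterP.SChar

open Cfsg Cfsg.Agent.LeechMat.Core Cfsg.Agent.MonsterX.KSide Cfsg.Agent.MonsterX.Lat
  Cfsg.Agent.MonsterX.KLift Cfsg.Agent.MonsterX.KSLat

variable {G V P W : Type*} [Group G] [AddCommGroup V] [Module ℚ V]
  [DistribMulAction G V] [SMulCommClass G ℚ V] [Group P] [AddCommGroup W] [Module ℚ W]
  (M : KS G V P W)

/-! ### The characters of the extraspecial group -/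

/-- The commutator of `q` and `x`. -/
noncomputable def chi (_M : KS G V P W) (x q : P) : ZMod 2 := by
  classical exact if q * x * q⁻¹ = x then 0 else 1

theorem chi_eq_zero {x q : P} : chi M x q = 0 ↔ q * x * q⁻¹ = x := by
  unfold chi
  split_ifs with h
  · exact ⟨fun _ => h, fun _ => rfl⟩
  · exact ⟨fun h' => absurd h' (by decide), fun h' => absurd h' h⟩

theorem chi_eq_one {x q : P} : chi M x q = 1 ↔ q * x * q⁻¹ = M.zc * x := by
  unfold chi
  split_ifs with h
  · refine ⟨fun h' => absurd h' (by decide), fun h' => ?_⟩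
    rw [h] at h'
    exact absurd h'.symm (M.zc_ne' x)
  · exact ⟨fun _ => (M.comm_or q x).resolve_left h, fun _ => rfl⟩

theorem chi_cases (x q : P) : chi M x q = 0 ∨ chi M x q = 1 := by
  generalize chi M x q = c
  revert c
  decide

theorem chi_mul_right (x q q' : P) : chi M x (q * q') = chi M x q + chi M x q' := by
  have e : q * q' * x * (q * q')⁻¹ = q * (q' * x * q'⁻¹) * q⁻¹ := by group
  have ez : ∀ t : P, q * (M.zc * t) * q⁻¹ = M.zc * (q * t * q⁻¹) := by
    intro t
    rw [← mul_assoc q, ← M.zc_comm q]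
    group
  rcases chi_cases M x q with h | h <;> rcases chi_cases M x q' with h' | h' <;> rw [h, h']
  · rw [chi_eq_zero] at h h'
    rw [add_zero, chi_eq_zero, e, h', h]
  · rw [chi_eq_zero] at h
    rw [chi_eq_one] at h'
    rw [zero_add, chi_eq_one, e, h', ez, h]
  · rw [chi_eq_one] at h
    rw [chi_eq_zero] at h'
    rw [add_zero, chi_eq_one, e, h', h]
  · rw [chi_eq_one] at h h'
    have : (1 : ZMod 2) + 1 = 0 := by decide
    rw [this, chi_eq_zero, e, h', ez, h, M.zc_zc]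

theorem chi_mul_left (x y q : P) : chi M (x * y) q = chi M x q + chi M y q := by
  have e : q * (x * y) * q⁻¹ = (q * x * q⁻¹) * (q * y * q⁻¹) := by group
  rcases chi_cases M x q with h | h <;> rcases chi_cases M y q with h' | h' <;> rw [h, h']
  · rw [chi_eq_zero] at h h'
    rw [add_zero, chi_eq_zero, e, h', h]
  · rw [chi_eq_zero] at h
    rw [chi_eq_one] at h'
    rw [zero_add, chi_eq_one, e, h', h, ← mul_assoc, ← M.zc_comm, mul_assoc]
  · rw [chi_eq_one] at h
    rw [chi_eq_zero] at h'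
    rw [add_zero, chi_eq_one, e, h', h, mul_assoc]
  · rw [chi_eq_one] at h h'
    have : (1 : ZMod 2) + 1 = 0 := by decide
    rw [this, chi_eq_zero, e, h', h, mul_assoc, ← mul_assoc x, ← M.zc_comm x, mul_assoc, M.zc_zc]

theorem chi_one (x : P) : chi M x 1 = 0 := by
  rw [chi_eq_zero, one_mul, inv_one, mul_one]

/-- Not central. -/
def NC (x : P) : Prop := ∃ q, chi M x q = 1

theorem exists_chi₂ {x y : P} (hx : NC M x) (hy : NC M y) (hxy : NC M (x * y)) (a b : ZMod 2) :
    ∃ q, chi M x q = a ∧ chi M y q = b := by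
  obtain ⟨q₁, h₁⟩ := hx
  obtain ⟨q₂, h₂⟩ := hy
  obtain ⟨q₃, h₃⟩ := hxy
  rw [chi_mul_left] at h₃
  have key : ∀ b₁ b₂ a₃ b₃ a b : ZMod 2, a₃ + b₃ = 1 → ∃ i j k : Bool,
      (cond i 1 0 + cond j b₂ 0 + cond k a₃ 0 = a) ∧ (cond i b₁ 0 + cond j 1 0 + cond k b₃ 0 = b) := by
    decide
  obtain ⟨i, j, k, e1, e2⟩ := key (chi M y q₁) (chi M x q₂) (chi M x q₃) (chi M y q₃) a b h₃
  refine ⟨cond i q₁ 1 * cond j q₂ 1 * cond k q₃ 1, ?_, ?_⟩
  · rw [chi_mul_right, chi_mul_right, ← e1]
    cases i <;> cases j <;> cases k <;> simp [chi_one, h₁]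
  · rw [chi_mul_right, chi_mul_right, ← e2]
    cases i <;> cases j <;> cases k <;> simp [chi_one, h₂]

theorem exists_chi₃ {x y w : P} (hx : NC M x) (hy : NC M y) (hxy : NC M (x * y)) (hw : NC M w)
    (hxw : NC M (x * w)) (hyw : NC M (y * w)) (hxyw : NC M (x * y * w)) (a b c : ZMod 2) :
    ∃ q, chi M x q = a ∧ chi M y q = b ∧ chi M w q = c := by
  obtain ⟨q₁, h₁, h₁'⟩ := exists_chi₂ M hx hy hxy 1 0
  obtain ⟨q₂, h₂, h₂'⟩ := exists_chi₂ M hx hy hxy 0 1
  -- an element with `(0,0,1)`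
  have h3 : ∃ q, chi M x q = 0 ∧ chi M y q = 0 ∧ chi M w q = 1 := by
    have key : ∀ q : P, (chi M x q * chi M w q₁ + chi M y q * chi M w q₂ + chi M w q = 1) →
        ∃ q, chi M x q = 0 ∧ chi M y q = 0 ∧ chi M w q = 1 := by
      intro q hq
      rcases chi_cases M x q with h | h <;> rcases chi_cases M y q with h' | h' <;>
        rw [h, h'] at hq
      · exact ⟨q, h, h', by simpa using hq⟩
      · refine ⟨q₂ * q, ?_, ?_, ?_⟩
        · rw [chi_mul_right, h, h₂, add_zero]
        · rw [chi_mul_right, h', h₂']; decide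
        · rw [chi_mul_right]; simpa using hq
      · refine ⟨q₁ * q, ?_, ?_, ?_⟩
        · rw [chi_mul_right, h, h₁]; decide
        · rw [chi_mul_right, h', h₁', add_zero]
        · rw [chi_mul_right]; simpa using hq
      · refine ⟨q₁ * q₂ * q, ?_, ?_, ?_⟩
        · rw [chi_mul_right, chi_mul_right, h, h₁, h₂]; decide
        · rw [chi_mul_right, chi_mul_right, h', h₁', h₂']; decide
        · rw [chi_mul_right, chi_mul_right]; simpa using hq
    rcases chi_cases M w q₁ with h | h <;> rcases chi_cases M w q₂ with h' | h'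
    · obtain ⟨q, hq⟩ := hw
      exact key q (by rw [h, h', mul_zero, mul_zero, zero_add, zero_add]; exact hq)
    · obtain ⟨q, hq⟩ := hyw
      rw [chi_mul_left] at hq
      exact key q (by rw [h, h', mul_zero, mul_one, zero_add]; exact hq)
    · obtain ⟨q, hq⟩ := hxw
      rw [chi_mul_left] at hq
      exact key q (by rw [h, h', mul_zero, mul_one, add_zero]; exact hq)
    · obtain ⟨q, hq⟩ := hxyw
      rw [chi_mul_left, chi_mul_left] at hq
      exact key q (by rw [h, h', mul_one, mul_one]; exact hq)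
  obtain ⟨q₃, h₃, h₃', h₃''⟩ := h3
  have key : ∀ c₁ c₂ a b c : ZMod 2, ∃ i j k : Bool,
      (cond i 1 0 + cond j 0 0 + cond k 0 0 = a) ∧ (cond i 0 0 + cond j 1 0 + cond k 0 0 = b) ∧
      (cond i c₁ 0 + cond j c₂ 0 + cond k 1 0 = c) := by
    decide
  obtain ⟨i, j, k, e1, e2, e3⟩ := key (chi M w q₁) (chi M w q₂) a b c
  refine ⟨cond i q₁ 1 * cond j q₂ 1 * cond k q₃ 1, ?_, ?_, ?_⟩
  · rw [chi_mul_right, chi_mul_right, ← e1]
    cases i <;> cases j <;> cases k <;> simp [chi_one, h₁, h₂, h₃]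
  · rw [chi_mul_right, chi_mul_right, ← e2]
    cases i <;> cases j <;> cases k <;> simp [chi_one, h₁', h₂', h₃']
  · rw [chi_mul_right, chi_mul_right, ← e3]
    cases i <;> cases j <;> cases k <;> simp [chi_one, h₃'']

/-! ### Short elements -/

/-- Adjacent short elements: inner product `±16`. -/
def Ad (x y : P) : Prop := dot (M.lam x) (M.lam y) = 16 ∨ dot (M.lam x) (M.lam y) = -16

theorem Ad.symm {x y : P} (h : Ad M x y) : Ad M y x := by
  unfold Ad at h ⊢
  rw [dot_comm]
  exact h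

theorem ad_z_left {x y : P} : Ad M (M.zc * x) y ↔ Ad M x y := by
  unfold Ad
  rw [M.lam_z]

theorem ad_z_right {x y : P} : Ad M x (M.zc * y) ↔ Ad M x y := by
  unfold Ad
  rw [M.lam_z]

variable {M} {θ : leechLattice → P}

/-- Multiplication of short elements. -/
theorem mul_mem' (L : Lift M θ) {x y : P} (hx : x ∈ M.Sh) (hy : y ∈ M.Sh) {u : leechLattice}
    (hu : nrm u = 32) (h : u = M.lam x - M.lam y ∨ u = M.lam x + M.lam y) :
    x * y ∈ M.Sh ∧ (M.lam (x * y) = u ∨ M.lam (x * y) = -u) := by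
  obtain ⟨w, hw, huw⟩ := M.lam_surj u hu
  have h1 : Eqz M (θ u) (θ (M.lam w)) := θ_pm L huw
  have h2 : Eqz M (θ (M.lam w)) w := L.lam w hw
  have h3 : Eqz M (θ u) (θ (M.lam x) * θ (M.lam y)) := by
    rcases h with h | h
    · rw [h, sub_eq_add_neg]
      have h4 : Eqz M (θ (M.lam x + -M.lam y)) (θ (M.lam x) * θ (-M.lam y)) := L.add _ _
      exact h4.trans ((Eqz.refl _).mul (θ_neg L _))
    · rw [h]; exact L.add _ _
  have h5 : Eqz M (θ (M.lam x) * θ (M.lam y)) (x * y) := Eqz.mul (L.lam x hx) (L.lam y hy)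
  have h6 : Eqz M (x * y) w := ((h3.trans h5).symm.trans (h1.trans h2))
  have hlw : M.lam w = u ∨ M.lam w = -u := by
    rcases huw with e | e
    · exact Or.inl e.symm
    · right; rw [e, neg_neg]
  rcases h6 with e | e
  · rw [e]; exact ⟨hw, hlw⟩
  · rw [e, M.lam_z]; exact ⟨M.Sh_z w hw, hlw⟩

theorem nrm_pm {x y : P} (hx : x ∈ M.Sh) (hy : y ∈ M.Sh) (h : Ad M x y) :
    (dot (M.lam x) (M.lam y) = 16 ∧ nrm (M.lam x - M.lam y) = 32) ∨
      (dot (M.lam x) (M.lam y) = -16 ∧ nrm (M.lam x + M.lam y) = 32) := by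
  rcases h with h | h
  · left
    refine ⟨h, ?_⟩
    rw [nrm_sub, M.lam_norm x hx, M.lam_norm y hy, h]
    norm_num
  · right
    refine ⟨h, ?_⟩
    rw [nrm_add, M.lam_norm x hx, M.lam_norm y hy, h]
    norm_num

theorem mul_mem (L : Lift M θ) {x y : P} (hx : x ∈ M.Sh) (hy : y ∈ M.Sh) (h : Ad M x y) :
    x * y ∈ M.Sh := by
  rcases nrm_pm hx hy h with ⟨-, h1⟩ | ⟨-, h1⟩
  · exact (mul_mem' L hx hy h1 (Or.inl rfl)).1
  · exact (mul_mem' L hx hy h1 (Or.inr rfl)).1

theorem mul_comm' (L : Lift M θ) {x y : P} (hx : x ∈ M.Sh) (hy : y ∈ M.Sh) (h : Ad M x y) :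
    x * y = y * x := by
  have h1 : (16 : ℤ) ∣ dot (M.lam x) (M.lam y) := by
    rcases h with h | h <;> rw [h] <;> norm_num
  rw [L.comm] at h1
  rcases L.lam x hx with e | e <;> rcases L.lam y hy with e' | e' <;> rw [e, e'] at h1
  · exact h1
  · rw [← mul_assoc, ← M.zc_comm, mul_assoc, mul_assoc] at h1
    exact mul_left_cancel h1
  · rw [mul_assoc, ← mul_assoc y, ← M.zc_comm, mul_assoc] at h1
    exact mul_left_cancel h1
  · have h2 : ∀ a b : P, M.zc * a * (M.zc * b) = a * b := by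
      intro a b
      rw [mul_assoc, ← mul_assoc a, ← M.zc_comm, mul_assoc, M.zc_zc]
    rwa [h2, h2] at h1

theorem dot_mul_right (L : Lift M θ) {x y : P} (hx : x ∈ M.Sh) (hy : y ∈ M.Sh) (h : Ad M x y)
    (v : leechLattice) :
    (dot (M.lam x) (M.lam y) = 16 ∧ (dot v (M.lam (x * y)) = dot v (M.lam x) - dot v (M.lam y) ∨
      dot v (M.lam (x * y)) = -(dot v (M.lam x) - dot v (M.lam y)))) ∨
    (dot (M.lam x) (M.lam y) = -16 ∧ (dot v (M.lam (x * y)) = dot v (M.lam x) + dot v (M.lam y) ∨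
      dot v (M.lam (x * y)) = -(dot v (M.lam x) + dot v (M.lam y)))) := by
  have hadd : ∀ a b : leechLattice, dot v (a + b) = dot v a + dot v b := by
    intro a b
    show dotInt _ _ = dotInt _ _ + dotInt _ _
    unfold dotInt
    rw [← Finset.sum_add_distrib]
    refine Finset.sum_congr rfl fun i _ => ?_
    rw [AddSubgroup.coe_add, Pi.add_apply]
    ring
  have hsub : ∀ a b : leechLattice, dot v (a - b) = dot v a - dot v b := by
    intro a b
    rw [sub_eq_add_neg, hadd, dot_neg_right, sub_eq_add_neg]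
  rcases nrm_pm hx hy h with ⟨h0, h1⟩ | ⟨h0, h1⟩
  · left
    refine ⟨h0, ?_⟩
    rcases (mul_mem' L hx hy h1 (Or.inl rfl)).2 with e | e
    · left; rw [e, hsub]
    · right; rw [e, dot_neg_right, hsub]
  · right
    refine ⟨h0, ?_⟩
    rcases (mul_mem' L hx hy h1 (Or.inr rfl)).2 with e | e
    · left; rw [e, hadd]
    · right; rw [e, dot_neg_right, hadd]

theorem dot_self' {x : P} (hx : x ∈ M.Sh) : dot (M.lam x) (M.lam x) = 32 := by
  rw [KS.dot_self, M.lam_norm x hx]

theorem ad_mul_left (L : Lift M θ) {x y : P} (hx : x ∈ M.Sh) (hy : y ∈ M.Sh) (h : Ad M x y) :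
    Ad M x (x * y) := by
  have h1 := dot_self' hx
  unfold Ad
  rcases dot_mul_right L hx hy h (M.lam x) with ⟨h2, h3 | h3⟩ | ⟨h2, h3 | h3⟩ <;> rw [h3] <;> omega

theorem ad_mul_right (L : Lift M θ) {x y : P} (hx : x ∈ M.Sh) (hy : y ∈ M.Sh) (h : Ad M x y) :
    Ad M y (x * y) := by
  have h1 := dot_self' hy
  have h4 : dot (M.lam y) (M.lam x) = dot (M.lam x) (M.lam y) := dot_comm _ _
  unfold Ad
  rcases dot_mul_right L hx hy h (M.lam y) with ⟨h2, h3 | h3⟩ | ⟨h2, h3 | h3⟩ <;> rw [h3] <;> omega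

theorem nc_of_mem (L : Lift M θ) {x : P} (hx : x ∈ M.Sh) : NC M x := by
  obtain ⟨q, hq⟩ := exists_flip L x hx
  exact ⟨q, (chi_eq_one M).2 hq⟩

/-- An element over a lattice vector which is not twice a vector is not central. -/
theorem nc_of_lift (L : Lift M θ) {x : P} {v : leechLattice} (h : Eqz M x (θ v))
    (hv : ∀ w : leechLattice, v ≠ 2 • w) : NC M x := by
  by_contra hcon
  unfold NC at hcon
  push Not at hcon
  have h1 : ∀ q, x * q = q * x := by
    intro q
    have h2 := (chi_cases M x q).resolve_right (hcon q)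
    rw [chi_eq_zero] at h2
    exact (mul_inv_eq_iff_eq_mul.1 h2).symm
  have h2 : Eqz M (θ v) 1 := by
    refine h.symm.trans ?_
    rcases L.center x h1 with h | h
    · exact Or.inl h
    · right; rw [h, mul_one]
  obtain ⟨w, hw⟩ := L.ker v (by
    rcases h2 with h | h
    · exact Or.inl h
    · right; rwa [mul_one] at h)
  exact hv w hw

theorem exists_conj₂ (L : Lift M θ) {x y x' y' : P} (hx : x ∈ M.Sh) (hy : y ∈ M.Sh) (h : Ad M x y)
    (hx' : Eqz M x' x) (hy' : Eqz M y' y) : ∃ q, q * x * q⁻¹ = x' ∧ q * y * q⁻¹ = y' := by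
  obtain ⟨q, h1, h2⟩ := exists_chi₂ M (nc_of_mem L hx) (nc_of_mem L hy)
    (nc_of_mem L (mul_mem L hx hy h)) (by classical exact if x' = x then 0 else 1)
    (by classical exact if y' = y then 0 else 1)
  refine ⟨q, ?_, ?_⟩
  · by_cases e : x' = x
    · rw [if_pos e] at h1
      rw [e]
      exact (chi_eq_zero M).1 h1
    · rw [if_neg e] at h1
      rw [hx'.resolve_left e]
      exact (chi_eq_one M).1 h1
  · by_cases e : y' = y
    · rw [if_pos e] at h2
      rw [e]
      exact (chi_eq_zero M).1 h2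
    · rw [if_neg e] at h2
      rw [hy'.resolve_left e]
      exact (chi_eq_one M).1 h2

theorem exists_conj₃ {x y w x' y' w' : P} (hx : NC M x) (hy : NC M y) (hxy : NC M (x * y))
    (hw : NC M w) (hxw : NC M (x * w)) (hyw : NC M (y * w)) (hxyw : NC M (x * y * w))
    (hx' : Eqz M x' x) (hy' : Eqz M y' y) (hw' : Eqz M w' w) :
    ∃ q, q * x * q⁻¹ = x' ∧ q * y * q⁻¹ = y' ∧ q * w * q⁻¹ = w' := by
  obtain ⟨q, h1, h2, h3⟩ := exists_chi₃ M hx hy hxy hw hxw hyw hxyw
    (by classical exact if x' = x then 0 else 1) (by classical exact if y' = y then 0 else 1)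
    (by classical exact if w' = w then 0 else 1)
  refine ⟨q, ?_, ?_, ?_⟩
  · by_cases e : x' = x
    · rw [if_pos e] at h1
      rw [e]
      exact (chi_eq_zero M).1 h1
    · rw [if_neg e] at h1
      rw [hx'.resolve_left e]
      exact (chi_eq_one M).1 h1
  · by_cases e : y' = y
    · rw [if_pos e] at h2
      rw [e]
      exact (chi_eq_zero M).1 h2
    · rw [if_neg e] at h2
      rw [hy'.resolve_left e]
      exact (chi_eq_one M).1 h2
  · by_cases e : w' = w
    · rw [if_pos e] at h3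
      rw [e]
      exact (chi_eq_zero M).1 h3
    · rw [if_neg e] at h3
      rw [hw'.resolve_left e]
      exact (chi_eq_one M).1 h3

/-! ### The action of `K` -/

/-- An element of `K` acting on `P` through `α`. -/
def ActsBy (M : KS G V P W) (k : G) (α : P ≃* P) : Prop :=
  k ∈ M.K ∧ ∃ A T, Acts M.Sh M.lam M.u M.X M.Θ M.ρ k A α T

theorem ActsBy.sh {k : G} {α : P ≃* P} (h : ActsBy M k α) {x : P} (hx : x ∈ M.Sh) : α x ∈ M.Sh := by
  obtain ⟨-, A, T, hA⟩ := h
  exact hA.act_sh x hx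

theorem ActsBy.zc {k : G} {α : P ≃* P} (L : Lift M θ) (_h : ActsBy M k α) : α M.zc = M.zc :=
  α_zc L α

theorem ActsBy.smul_a {k : G} {α : P ≃* P} (h : ActsBy M k α) {x : P} (hx : x ∈ M.Sh) :
    k • M.a x = M.a (α x) := by
  obtain ⟨-, A, T, hA⟩ := h
  have hu : M.u (M.lam (α x)) = M.u (A • M.lam x) := by
    rcases hA.act_lam x hx with h | h
    · rw [h]
    · rw [h, M.u_neg]
  rw [KS.a, KS.a, smul_add, smul_comm, hA.act_u, hA.act_X x hx, hu]

/-- correct by an element of the extraspecial group -/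
theorem ActsBy.conj (L : Lift M θ) {k : G} {α : P ≃* P} (h : ActsBy M k α) (q : P) :
    ∃ k' α', ActsBy M k' α' ∧ ∀ x, α' x = q * α x * q⁻¹ := by
  obtain ⟨hk, A, T, hA⟩ := h
  obtain ⟨A₂, α₂, T₂, hA₂⟩ := M.acts (M.ι q * k) (M.K.mul_mem (M.ι_mem q) hk)
  refine ⟨_, α₂, ⟨M.K.mul_mem (M.ι_mem q) hk, A₂, T₂, hA₂⟩, fun x => ?_⟩
  have hinj := M.ι_injective (fun p hp => L.center p (fun y => mul_inv_eq_iff_eq_mul.1 (hp y)))
  have h3 := conj_ι hA₂ x
  rw [mul_assoc, conj_ι hA, ← mul_assoc, ← mul_assoc] at h3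
  have h4 := mul_right_cancel h3
  rw [← map_mul, ← map_mul] at h4
  have h5 := hinj h4
  rw [h5, mul_inv_cancel_right]

/-- an element of `K` mapping lattice vectors as prescribed, up to sign -/
theorem exists_actsBy (M : KS G V P W) (g : Co0) : ∃ k α, ActsBy M k α ∧
    ∀ x ∈ M.Sh, ∀ y ∈ M.Sh, (g • M.lam x = M.lam y ∨ g • M.lam x = -M.lam y) → Eqz M y (α x) := by
  obtain ⟨k, hk, α, T, A', hA, hpm⟩ := exists_acts M g
  refine ⟨k, α, ⟨hk, A', T, hA⟩, fun x hx y hy h => ?_⟩
  apply M.lam_inj (α x) (hA.act_sh x hx) y hy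
  rcases hA.act_lam x hx with e | e <;> rcases hpm (M.lam x) with e' | e' <;>
    rcases h with e'' | e'' <;> rw [e, e', e''] <;> simp

/-- **`K` is transitive on the adjacent pairs.** -/
theorem trans_pair (L : Lift M θ) {x y x' y' : P} (hx : x ∈ M.Sh) (hy : y ∈ M.Sh)
    (hx' : x' ∈ M.Sh) (hy' : y' ∈ M.Sh) (h : Ad M x y) (h' : Ad M x' y') :
    ∃ k α, ActsBy M k α ∧ α x = x' ∧ α y = y' := by
  have key : ∃ g : Co0, g • M.lam x = M.lam x' ∧
      (g • M.lam y = M.lam y' ∨ g • M.lam y = -M.lam y') := by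
    have hn : ∀ {t : P}, t ∈ M.Sh → nrm (-M.lam t) = 32 := by
      intro t ht
      rw [nrm_neg, M.lam_norm t ht]
    rcases h with h | h <;> rcases h' with h' | h'
    · obtain ⟨g, h1, h2⟩ := LeechTriple.exists_pair _ _ _ _ (M.lam_norm x hx) (M.lam_norm y hy)
        (M.lam_norm x' hx') (M.lam_norm y' hy') h h'
      exact ⟨g, h1, Or.inl h2⟩
    · obtain ⟨g, h1, h2⟩ := LeechTriple.exists_pair _ _ _ (-M.lam y') (M.lam_norm x hx)
        (M.lam_norm y hy) (M.lam_norm x' hx') (hn hy') h (by rw [dot_neg_right, h']; rfl)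
      exact ⟨g, h1, Or.inr h2⟩
    · obtain ⟨g, h1, h2⟩ := LeechTriple.exists_pair_neg _ _ _ (-M.lam y') (M.lam_norm x hx)
        (M.lam_norm y hy) (M.lam_norm x' hx') (hn hy') h (by rw [dot_neg_right, h'])
      exact ⟨g, h1, Or.inr h2⟩
    · obtain ⟨g, h1, h2⟩ := LeechTriple.exists_pair_neg _ _ _ _ (M.lam_norm x hx)
        (M.lam_norm y hy) (M.lam_norm x' hx') (M.lam_norm y' hy') h h'
      exact ⟨g, h1, Or.inl h2⟩
  obtain ⟨g, h1, h2⟩ := key
  obtain ⟨k, α, hk, hα⟩ := exists_actsBy M g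
  have ex := hα x hx x' hx' (Or.inl h1)
  have ey := hα y hy y' hy' h2
  have had : Ad M (α x) (α y) := by
    rcases ex.symm with e | e <;> rcases ey.symm with e' | e' <;> rw [e, e']
    · exact h'
    · rwa [ad_z_right]
    · rwa [ad_z_left]
    · rwa [ad_z_left, ad_z_right]
  obtain ⟨q, hq1, hq2⟩ := exists_conj₂ L (hk.sh hx) (hk.sh hy) had ex ey
  obtain ⟨k', α', hk', hα'⟩ := hk.conj L q
  exact ⟨k', α', hk', by rw [hα', hq1], by rw [hα', hq2]⟩

/-- Triples of type IIa. -/
structure IIa (M : KS G V P W) (x y w : P) : Prop where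
  xy : Ad M x y
  xw : Ad M x w
  yw : Ad M y w
  pos : 0 < dot (M.lam x) (M.lam y) * dot (M.lam x) (M.lam w) * dot (M.lam y) (M.lam w)

/-- signs making all inner products of a IIa triple positive -/
theorem IIa.signs {x y w : P} (h : IIa M x y w) : ∃ r s t : leechLattice,
    (r = M.lam x ∨ r = -M.lam x) ∧ (s = M.lam y ∨ s = -M.lam y) ∧ (t = M.lam w ∨ t = -M.lam w) ∧
      dot r s = 16 ∧ dot r t = 16 ∧ dot s t = 16 := by
  obtain ⟨h1, h2, h3, h4⟩ := h
  rcases h1 with h1 | h1 <;> rcases h2 with h2 | h2 <;> rcases h3 with h3 | h3 <;>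
    rw [h1, h2, h3] at h4 <;> norm_num at h4
  · exact ⟨_, _, _, Or.inl rfl, Or.inl rfl, Or.inl rfl, h1, h2, h3⟩
  · refine ⟨_, _, _, Or.inl rfl, Or.inl rfl, Or.inr rfl, h1, ?_, ?_⟩
    · rw [dot_neg_right, h2]; rfl
    · rw [dot_neg_right, h3]; rfl
  · refine ⟨_, _, _, Or.inl rfl, Or.inr rfl, Or.inl rfl, ?_, h2, ?_⟩
    · rw [dot_neg_right, h1]; rfl
    · rw [dot_neg_left, h3]; rfl
  · refine ⟨_, _, _, Or.inr rfl, Or.inl rfl, Or.inl rfl, ?_, ?_, h3⟩
    · rw [dot_neg_left, h1]; rfl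
    · rw [dot_neg_left, h2]; rfl

theorem nrm_ne_two {v : leechLattice} (hv : nrm v = 32 ∨ nrm v = 64 ∨ nrm v = 96) (w : leechLattice) :
    v ≠ 2 • w := by
  rintro rfl
  rw [nrm_two] at hv
  have h5 : (16 : ℤ) ∣ nrm w := Cfsg.Agent.Leech.Basic.sixteen_dvd_sqNorm w.2
  have h6 : nrm w ≠ 16 := by
    intro h
    have h7 := eq_zero_of_nrm (v := w) (by rw [h]; norm_num)
    rw [h7, nrm_zero] at h
    norm_num at h
  obtain ⟨c, hc⟩ := h5
  rw [hc] at hv h6
  omega

theorem dot_add_left (a b v : leechLattice) : dot (a + b) v = dot a v + dot b v := by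
  show dotInt _ _ = dotInt _ _ + dotInt _ _
  unfold dotInt
  rw [← Finset.sum_add_distrib]
  refine Finset.sum_congr rfl fun i _ => ?_
  rw [AddSubgroup.coe_add, Pi.add_apply]
  ring

/-- the elements of a IIa triple are independent modulo the centre -/
theorem IIa.nc (L : Lift M θ) {x y w : P} (hx : x ∈ M.Sh) (hy : y ∈ M.Sh) (hw : w ∈ M.Sh)
    (h : IIa M x y w) : NC M (x * y * w) := by
  obtain ⟨r, s, t, hr, hs, ht, hrs, hrt, hst⟩ := h.signs
  have er : Eqz M x (θ r) := (θ_pm L hr).trans (L.lam x hx) |>.symm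
  have es : Eqz M y (θ s) := (θ_pm L hs).trans (L.lam y hy) |>.symm
  have et : Eqz M w (θ (-t)) := ((θ_neg L t).trans ((θ_pm L ht).trans (L.lam w hw))).symm
  have h1 : Eqz M (x * y * w) (θ (r + s + -t)) := by
    have e1 : Eqz M (θ (r + s)) (θ r * θ s) := L.add r s
    have e2 : Eqz M (θ (r + s + -t)) (θ (r + s) * θ (-t)) := L.add (r + s) (-t)
    exact ((er.mul es).mul et).trans ((e2.trans (e1.mul (Eqz.refl _))).symm)
  have nr : nrm r = 32 := by
    rcases hr with rfl | rfl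
    · exact M.lam_norm x hx
    · rw [nrm_neg, M.lam_norm x hx]
  have ns : nrm s = 32 := by
    rcases hs with rfl | rfl
    · exact M.lam_norm y hy
    · rw [nrm_neg, M.lam_norm y hy]
  have nt : nrm t = 32 := by
    rcases ht with rfl | rfl
    · exact M.lam_norm w hw
    · rw [nrm_neg, M.lam_norm w hw]
  refine nc_of_lift L h1 (nrm_ne_two (Or.inr (Or.inl ?_)))
  rw [nrm_add, nrm_add, nrm_neg, dot_add_left, dot_neg_right, dot_neg_right, nr, ns, nt, hrs, hrt, hst]
  norm_num

/-- **`K` is transitive on the triples of type IIa.** -/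
theorem trans_IIa (L : Lift M θ) {x y w x' y' w' : P} (hx : x ∈ M.Sh) (hy : y ∈ M.Sh)
    (hw : w ∈ M.Sh) (hx' : x' ∈ M.Sh) (hy' : y' ∈ M.Sh) (hw' : w' ∈ M.Sh) (h : IIa M x y w)
    (h' : IIa M x' y' w') : ∃ k α, ActsBy M k α ∧ α x = x' ∧ α y = y' ∧ α w = w' := by
  obtain ⟨r, s, t, hr, hs, ht, hrs, hrt, hst⟩ := h.signs
  obtain ⟨r', s', t', hr', hs', ht', hrs', hrt', hst'⟩ := h'.signs
  have nn : ∀ {v : leechLattice} {x : P}, x ∈ M.Sh → (v = M.lam x ∨ v = -M.lam x) → nrm v = 32 := by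
    rintro v x hx (rfl | rfl)
    · exact M.lam_norm x hx
    · rw [nrm_neg, M.lam_norm x hx]
  obtain ⟨g, hg1, hg2, hg3⟩ := LeechTriple.exists_triple r s t r' s' t' (nn hx hr) (nn hy hs)
    (nn hw ht) (nn hx' hr') (nn hy' hs') (nn hw' ht') hrs hrt hst hrs' hrt' hst'
  obtain ⟨k, α, hk, hα⟩ := exists_actsBy M g
  have cv : ∀ {r r' : leechLattice} {x x' : P}, g • r = r' → (r = M.lam x ∨ r = -M.lam x) →
      (r' = M.lam x' ∨ r' = -M.lam x') → (g • M.lam x = M.lam x' ∨ g • M.lam x = -M.lam x') := by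
    rintro r r' x x' e (rfl | rfl) (rfl | rfl)
    · exact Or.inl e
    · exact Or.inr e
    · right
      rw [co0_smul_neg] at e
      rw [← e, neg_neg]
    · left
      rw [co0_smul_neg] at e
      exact neg_injective e
  have ex := hα x hx x' hx' (cv hg1 hr hr')
  have ey := hα y hy y' hy' (cv hg2 hs hs')
  have ew := hα w hw w' hw' (cv hg3 ht ht')
  have lz : ∀ {x x' : P}, Eqz M x' x → M.lam x = M.lam x' := by
    rintro x x' (rfl | rfl)
    · rfl
    · rw [M.lam_z]
  have h'' : IIa M (α x) (α y) (α w) := by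
    obtain ⟨a1, a2, a3, a4⟩ := h'
    unfold Ad at a1 a2 a3
    refine ⟨?_, ?_, ?_, ?_⟩
    · unfold Ad; rw [lz ex, lz ey]; exact a1
    · unfold Ad; rw [lz ex, lz ew]; exact a2
    · unfold Ad; rw [lz ey, lz ew]; exact a3
    · rw [lz ex, lz ey, lz ew]; exact a4
  have mx := hk.sh hx
  have my := hk.sh hy
  have mw := hk.sh hw
  obtain ⟨q, hq1, hq2, hq3⟩ := exists_conj₃ (nc_of_mem L mx) (nc_of_mem L my)
    (nc_of_mem L (mul_mem L mx my h''.xy)) (nc_of_mem L mw) (nc_of_mem L (mul_mem L mx mw h''.xw))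
    (nc_of_mem L (mul_mem L my mw h''.yw)) (h''.nc L mx my mw) ex ey ew
  obtain ⟨k', α', hk', hα'⟩ := hk.conj L q
  exact ⟨k', α', hk', by rw [hα', hq1], by rw [hα', hq2], by rw [hα', hq3]⟩

end Cfsg.Agent.MonsterP.SChar
end

-- part: MonsterP/LeechNbr
section
set_option linter.all false
open scoped Cfsg.Agent.FastGrp

/-!
Let `o`, `b`, `c` be minimal vectors of the Leech lattice with `(b, c) = ±16` such that neither `b`
nor `c` is `±o` or adjacent to `o` (adjacency: inner product `±16`).  Then `o`, `b`, `c` have a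
common neighbour.
-/

set_option autoImplicit false

namespace Cfsg.Agent.MonsterP.LeechNbr

open Cfsg Cfsg.Agent.MonsterX.KSide Cfsg.Agent.MonsterX.Lat Cfsg.Agent.Leech.Min
  Cfsg.Agent.Leech.Trans Cfsg.Agent.Leech.TransPair Cfsg.Agent.MonsterP.LeechTriple

/-- A neighbour of shape `(4, ±4)`. -/
theorem exists_sign (x y : ℤ) (h : (x = 4 ∨ x = -4) ∧ y = 0 ∨ x = 0 ∧ (y = 4 ∨ y = -4) ∨
    (x = 2 ∨ x = -2) ∧ (y = 2 ∨ y = -2) ∨ (x = 3 ∨ x = -3) ∧ (y = 1 ∨ y = -1) ∨
    (x = 1 ∨ x = -1) ∧ (y = 3 ∨ y = -3)) :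
    ∃ s : ℤ, (s = 4 ∨ s = -4) ∧ (4 * x + s * y = 16 ∨ 4 * x + s * y = -16) := by
  by_cases hs : 4 * x + 4 * y = 16 ∨ 4 * x + 4 * y = -16
  · exact ⟨4, Or.inl rfl, hs⟩
  · refine ⟨-4, Or.inr rfl, ?_⟩
    omega

section

variable {p q r : GolayPt} (hpq : p ≠ q) (hpr : p ≠ r) (hqr : q ≠ r)

include hpq hpr hqr

theorem nbr_pm (d : leechLattice) {m : GolayPt} (hpm : p ≠ m) (hqm : q ≠ m) (hrm : r ≠ m)
    (h : ∃ s : ℤ, (s = 4 ∨ s = -4) ∧ (4 * (d : GolayPt → ℤ) p + s * (d : GolayPt → ℤ) m = 16 ∨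
      4 * (d : GolayPt → ℤ) p + s * (d : GolayPt → ℤ) m = -16)) :
    ∃ e, nrm e = 32 ∧ (dot (v0 p q hpq) e = 16 ∨ dot (v0 p q hpq) e = -16) ∧
      (dot (v0 p r hpr) e = 16 ∨ dot (v0 p r hpr) e = -16) ∧ (dot d e = 16 ∨ dot d e = -16) := by
  obtain ⟨s, hs, h⟩ := h
  refine ⟨lv p m 4 s hpm four_or hs, nrm_lv _ _ _ _ _ _ _, Or.inl ?_, Or.inl ?_, ?_⟩
  · rw [dot_v0', lv_coe, two_left, two_other hpq.symm hqm]; rfl
  · rw [dot_v0', lv_coe, two_left, two_other hpr.symm hrm]; rfl
  · rwa [dot_lv']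

theorem nbr_qr (d : leechLattice)
    (h : ∃ s : ℤ, (s = 4 ∨ s = -4) ∧ (4 * (d : GolayPt → ℤ) q + s * (d : GolayPt → ℤ) r = 16 ∨
      4 * (d : GolayPt → ℤ) q + s * (d : GolayPt → ℤ) r = -16)) :
    ∃ e, nrm e = 32 ∧ (dot (v0 p q hpq) e = 16 ∨ dot (v0 p q hpq) e = -16) ∧
      (dot (v0 p r hpr) e = 16 ∨ dot (v0 p r hpr) e = -16) ∧ (dot d e = 16 ∨ dot d e = -16) := by
  obtain ⟨s, hs, h⟩ := h
  refine ⟨lv q r 4 s hqr four_or hs, nrm_lv _ _ _ _ _ _ _, Or.inr ?_, ?_, ?_⟩
  · rw [dot_v0', lv_coe, two_left, two_other hpq hpr]; rfl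
  · rw [dot_v0', lv_coe, two_right hqr, two_other hpq hpr]
    omega
  · rwa [dot_lv']

/-- The case of odd coordinates. -/
theorem nbr_odd (d : leechLattice) (h3 : Type3 (d : GolayPt → ℤ)) :
    ∃ e, nrm e = 32 ∧ (dot (v0 p q hpq) e = 16 ∨ dot (v0 p q hpq) e = -16) ∧
      (dot (v0 p r hpr) e = 16 ∨ dot (v0 p r hpr) e = -16) ∧ (dot d e = 16 ∨ dot d e = -16) := by
  obtain ⟨k, hk, hk1, -⟩ := h3
  by_cases hkp : k = p
  · subst hkp
    obtain ⟨m, hpm, hqm, hrm⟩ := exists_fourth hpq hpr hqr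
    exact nbr_pm hpq hpr hqr d hpm hqm hrm (exists_sign _ _
      (Or.inr (Or.inr (Or.inr (Or.inl ⟨hk, hk1 m hpm.symm⟩)))))
  by_cases hkq : k = q
  · subst hkq
    exact nbr_qr hpq hpr hqr d (exists_sign _ _
      (Or.inr (Or.inr (Or.inr (Or.inl ⟨hk, hk1 r hqr.symm⟩)))))
  by_cases hkr : k = r
  · subst hkr
    exact nbr_qr hpq hpr hqr d (exists_sign _ _
      (Or.inr (Or.inr (Or.inr (Or.inr ⟨hk1 q hqr, hk⟩)))))
  exact nbr_pm hpq hpr hqr d (Ne.symm hkp) (Ne.symm hkq) (Ne.symm hkr) (exists_sign _ _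
      (Or.inr (Or.inr (Or.inr (Or.inr ⟨hk1 p (Ne.symm hkp), hk⟩)))))

/-- A vector with an odd coordinate. -/
theorem type3_of_odd {d : leechLattice} (hn : nrm d = 32) {i : GolayPt}
    (hi : (d : GolayPt → ℤ) i % 2 = 1) : Type3 (d : GolayPt → ℤ) := by
  rcases (min_iff _).1 ⟨d.2, hn⟩ with h | h | h
  · exfalso
    obtain ⟨k, l, hkl, hk, hl, h0⟩ := h
    by_cases hik : i = k
    · subst hik; omega
    · by_cases hil : i = l
      · subst hil; omega
      · rw [h0 i hik hil] at hi; omega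
  · exfalso
    obtain ⟨A, -, hA2, hA0, -⟩ := h
    by_cases hiA : i ∈ A
    · have := hA2 i hiA; omega
    · rw [hA0 i hiA] at hi; omega
  · exact h

/-- The reduction of the remaining even cases to the odd one. -/
theorem nbr_move (d : leechLattice) (hn : nrm d = 32) {m : GolayPt} (hpm : p ≠ m) (hqm : q ≠ m)
    (hrm : r ≠ m) (hp : (d : GolayPt → ℤ) p = 0)
    (hs : (d : GolayPt → ℤ) p + (d : GolayPt → ℤ) q + (d : GolayPt → ℤ) r +
      (d : GolayPt → ℤ) m = 2 ∨ (d : GolayPt → ℤ) p + (d : GolayPt → ℤ) q +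
      (d : GolayPt → ℤ) r + (d : GolayPt → ℤ) m = -2) :
    ∃ e, nrm e = 32 ∧ (dot (v0 p q hpq) e = 16 ∨ dot (v0 p q hpq) e = -16) ∧
      (dot (v0 p r hpr) e = 16 ∨ dot (v0 p r hpr) e = -16) ∧ (dot d e = 16 ∨ dot d e = -16) := by
  obtain ⟨y, hF, hy, -⟩ := F_xi hpq hpr hqr hpm hqm hrm d
  have hny : nrm y = 32 := by rw [hF.nrm_eq, hn]
  have hyp := hy p (by simp)
  obtain ⟨g, hg1, hg2, hg3⟩ := hF
  obtain ⟨e, he, h1, h2, h3⟩ := nbr_odd hpq hpr hqr y (type3_of_odd hpq hpr hqr hny (i := p)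
    (by omega))
  refine ⟨g⁻¹ • e, by rw [nrm_smul, he], ?_, ?_, ?_⟩
  · rw [← dot_smul g, smul_inv_smul, hg1]; exact h1
  · rw [← dot_smul g, smul_inv_smul, hg2]; exact h2
  · rw [← dot_smul g, smul_inv_smul, hg3]; exact h3

theorem nbr_base (d : leechLattice) (hn : nrm d = 32)
    (h1 : (d : GolayPt → ℤ) p - (d : GolayPt → ℤ) q = 0 ∨
      (d : GolayPt → ℤ) p - (d : GolayPt → ℤ) q = 2 ∨
      (d : GolayPt → ℤ) p - (d : GolayPt → ℤ) q = -2)
    (h2 : (d : GolayPt → ℤ) p - (d : GolayPt → ℤ) r = 0 ∨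
      (d : GolayPt → ℤ) p - (d : GolayPt → ℤ) r = 2 ∨
      (d : GolayPt → ℤ) p - (d : GolayPt → ℤ) r = -2) :
    ∃ e, nrm e = 32 ∧ (dot (v0 p q hpq) e = 16 ∨ dot (v0 p q hpq) e = -16) ∧
      (dot (v0 p r hpr) e = 16 ∨ dot (v0 p r hpr) e = -16) ∧ (dot d e = 16 ∨ dot d e = -16) := by
  rcases (min_iff _).1 ⟨d.2, hn⟩ with h | h | h
  · obtain ⟨k, l, hkl, hk, hl, h0⟩ := h
    have hval : ∀ i, (d : GolayPt → ℤ) i = 0 ∨ (d : GolayPt → ℤ) i = 4 ∨
        (d : GolayPt → ℤ) i = -4 := by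
      intro i
      by_cases hik : i = k
      · subst hik; exact Or.inr hk
      · by_cases hil : i = l
        · subst hil; exact Or.inr hl
        · exact Or.inl (h0 i hik hil)
    have e1 : (d : GolayPt → ℤ) q = (d : GolayPt → ℤ) p := by
      have := hval p
      have := hval q
      omega
    have e2 : (d : GolayPt → ℤ) r = (d : GolayPt → ℤ) p := by
      have := hval p
      have := hval r
      omega
    have hp0 : (d : GolayPt → ℤ) p = 0 := by
      by_contra hne
      have hp : p = k ∨ p = l := by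
        by_contra hcon
        push Not at hcon
        exact hne (h0 p hcon.1 hcon.2)
      have hq : q = k ∨ q = l := by
        by_contra hcon
        push Not at hcon
        exact hne (by rw [← e1]; exact h0 q hcon.1 hcon.2)
      have hr : r = k ∨ r = l := by
        by_contra hcon
        push Not at hcon
        exact hne (by rw [← e2]; exact h0 r hcon.1 hcon.2)
      rcases hp with rfl | rfl <;> rcases hq with rfl | rfl <;> rcases hr with rfl | rfl <;>
        first | exact hpq rfl | exact hpr rfl | exact hqr rfl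
    have hpk : p ≠ k := by rintro rfl; omega
    have hqk : q ≠ k := by rintro rfl; omega
    have hrk : r ≠ k := by rintro rfl; omega
    exact nbr_pm hpq hpr hqr d hpk hqk hrk (exists_sign _ _ (Or.inr (Or.inl ⟨hp0, hk⟩)))
  · obtain ⟨A, hA, hA2, hA0, -⟩ := h
    have h8 : A.card = 8 := hA.2
    have hm : ∃ m ∈ A, p ≠ m ∧ q ≠ m ∧ r ≠ m := by
      have h3 : ({p, q, r} : Finset GolayPt).card < A.card :=
        lt_of_le_of_lt Finset.card_le_three (by omega)
      obtain ⟨m, hm, hm'⟩ := Finset.exists_mem_notMem_of_card_lt_card h3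
      simp only [Finset.mem_insert, Finset.mem_singleton, not_or] at hm'
      exact ⟨m, hm, Ne.symm hm'.1, Ne.symm hm'.2.1, Ne.symm hm'.2.2⟩
    obtain ⟨m, hmA, hpm, hqm, hrm⟩ := hm
    have hm2 := hA2 m hmA
    by_cases hp : p ∈ A
    · exact nbr_pm hpq hpr hqr d hpm hqm hrm (exists_sign _ _
        (Or.inr (Or.inr (Or.inl ⟨hA2 p hp, hm2⟩))))
    have hp0 := hA0 p hp
    by_cases hq : q ∈ A
    · have hq2 := hA2 q hq
      by_cases hr : r ∈ A
      · exact nbr_qr hpq hpr hqr d (exists_sign _ _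
          (Or.inr (Or.inr (Or.inl ⟨hq2, hA2 r hr⟩))))
      · -- a fourth point outside `A`
        have hr0 := hA0 r hr
        obtain ⟨n, hn'⟩ := exists_notMem (A ∪ {p, q, r}) (by
          refine lt_of_le_of_lt (Finset.card_union_le _ _) ?_
          have : ({p, q, r} : Finset GolayPt).card ≤ 3 := Finset.card_le_three
          omega)
        simp only [Finset.mem_union, Finset.mem_insert, Finset.mem_singleton, not_or] at hn'
        have hn0 := hA0 n hn'.1
        exact nbr_move hpq hpr hqr d hn (Ne.symm hn'.2.1) (Ne.symm hn'.2.2.1)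
          (Ne.symm hn'.2.2.2) hp0 (by omega)
    · have hq0 := hA0 q hq
      by_cases hr : r ∈ A
      · have hr2 := hA2 r hr
        obtain ⟨n, hn'⟩ := exists_notMem (A ∪ {p, q, r}) (by
          refine lt_of_le_of_lt (Finset.card_union_le _ _) ?_
          have : ({p, q, r} : Finset GolayPt).card ≤ 3 := Finset.card_le_three
          omega)
        simp only [Finset.mem_union, Finset.mem_insert, Finset.mem_singleton, not_or] at hn'
        have hn0 := hA0 n hn'.1
        exact nbr_move hpq hpr hqr d hn (Ne.symm hn'.2.1) (Ne.symm hn'.2.2.1)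
          (Ne.symm hn'.2.2.2) hp0 (by omega)
      · have hr0 := hA0 r hr
        exact nbr_move hpq hpr hqr d hn hpm hqm hrm hp0 (by omega)
  · exact nbr_odd hpq hpr hqr d h

end

/-- Let `o`, `b`, `c` be minimal vectors with `(b, c) = ±16` and `(o, b), (o, c)` in `{0, ±8}`.
Then `o`, `b`, `c` have a common neighbour. -/
theorem exists_common (o b c : leechLattice) (ho : nrm o = 32) (hb : nrm b = 32)
    (hc : nrm c = 32) (hbc : dot b c = 16 ∨ dot b c = -16)
    (hob : dot o b = 0 ∨ dot o b = 8 ∨ dot o b = -8)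
    (hoc : dot o c = 0 ∨ dot o c = 8 ∨ dot o c = -8) :
    ∃ w, nrm w = 32 ∧ (dot o w = 16 ∨ dot o w = -16) ∧ (dot b w = 16 ∨ dot b w = -16) ∧
      (dot c w = 16 ∨ dot c w = -16) := by
  wlog h16 : dot b c = 16 with H
  · obtain ⟨w, hw, h1, h2, h3⟩ := H o b (-c) ho hb (by rw [nrm_neg, hc])
      (by rw [dot_neg_right]; omega) hob (by rw [dot_neg_right]; omega)
      (by rw [dot_neg_right]; omega)
    rw [dot_neg_left] at h3
    exact ⟨w, hw, h1, h2, by omega⟩
  obtain ⟨p, hp⟩ := exists_notMem ∅ (by simp)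
  obtain ⟨q, hq⟩ := exists_notMem {p} (by simp)
  obtain ⟨r, hr⟩ := exists_notMem {p, q} (lt_of_le_of_lt Finset.card_le_two (by decide))
  simp only [Finset.mem_insert, Finset.mem_singleton, not_or] at hq hr
  have hpq : p ≠ q := Ne.symm hq
  have hpr : p ≠ r := Ne.symm hr.1
  have hqr : q ≠ r := Ne.symm hr.2
  obtain ⟨g, hg1, hg2⟩ := exists_pair b c (v0 p q hpq) (v0 p r hpr) hb hc (nrm_v0 _) (nrm_v0 _)
    h16 (dot_v0_v0 hpq hpr hqr)
  have e1 : dot (g • b) (g • o) = dot o b := by rw [dot_smul, dot_comm]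
  have e2 : dot (g • c) (g • o) = dot o c := by rw [dot_smul, dot_comm]
  rw [hg1, dot_v0'] at e1
  rw [hg2, dot_v0'] at e2
  obtain ⟨e, he, h1, h2, h3⟩ := nbr_base hpq hpr hqr (g • o) (by rw [nrm_smul, ho]) (by omega)
    (by omega)
  refine ⟨g⁻¹ • e, by rw [nrm_smul, he], ?_, ?_, ?_⟩
  · rw [← dot_smul g, smul_inv_smul]; exact h3
  · rw [← dot_smul g, smul_inv_smul, hg1]; exact h1
  · rw [← dot_smul g, smul_inv_smul, hg2]; exact h2

end Cfsg.Agent.MonsterP.LeechNbr
end

-- part: MonsterP/LeechL2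
section
set_option linter.all false
open scoped Cfsg.Agent.FastGrp

/-!
The graph on the minimal vectors `s` of the Leech lattice with inner product `16` with a given
minimal vector `r` (4600 of them), adjacency = inner product `16`, is connected; the same for the
9200 minimal vectors with inner product `±16` with `r`, where `s ~ s'` iff
`(r,s) (r,s') (s,s') = 16 ^ 3`.
-/

set_option autoImplicit false

namespace Cfsg.Agent.MonsterP.LeechL2

open Cfsg Cfsg.Agent.MonsterX.KSide Cfsg.Agent.Leech.Min Cfsg.Agent.Leech.Trans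
open Cfsg.Agent.MonsterX.Lat

/-- Minimal vectors of inner product `16` with `r` and with each other. -/
def N16 (r a b : leechLattice) : Prop :=
  (nrm a = 32 ∧ dot r a = 16) ∧ (nrm b = 32 ∧ dot r b = 16) ∧ dot a b = 16

/-- Minimal vectors of inner product `±16` with `r`, the product of the three inner products being
positive. -/
def N9 (r a b : leechLattice) : Prop :=
  (nrm a = 32 ∧ (dot r a = 16 ∨ dot r a = -16)) ∧ (nrm b = 32 ∧ (dot r b = 16 ∨ dot r b = -16)) ∧
    dot r a * dot r b * dot a b = 4096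

theorem N16.symm {r a b : leechLattice} (h : N16 r a b) : N16 r b a :=
  ⟨h.2.1, h.1, by rw [dot_comm]; exact h.2.2⟩

theorem N9.symm {r a b : leechLattice} (h : N9 r a b) : N9 r b a :=
  ⟨h.2.1, h.1, by rw [dot_comm b a]; have := h.2.2; linarith [mul_comm (dot r a) (dot r b)]⟩

theorem N16.smul {r a b : leechLattice} (g : Co0) (h : N16 r a b) : N16 (g • r) (g • a) (g • b) :=
  ⟨⟨by rw [nrm_smul]; exact h.1.1, by rw [dot_smul]; exact h.1.2⟩,
    ⟨by rw [nrm_smul]; exact h.2.1.1, by rw [dot_smul]; exact h.2.1.2⟩,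
    by rw [dot_smul]; exact h.2.2⟩

theorem N16.nine {r a b : leechLattice} (h : N16 r a b) : N9 r a b :=
  ⟨⟨h.1.1, Or.inl h.1.2⟩, ⟨h.2.1.1, Or.inl h.2.1.2⟩, by rw [h.1.2, h.2.1.2, h.2.2]; norm_num⟩

section base

variable {p q : GolayPt} (hpq : p ≠ q)

theorem base_vertex (x : leechLattice) (hx : nrm x = 32)
    (h : (x : GolayPt → ℤ) p + (x : GolayPt → ℤ) q = 4) :
    nrm x = 32 ∧ dot (lv p q 4 4 hpq four_or four_or) x = 16 :=
  ⟨hx, by rw [dot_lv]; linarith⟩

/-- the vertices `4 e_p ± 4 e_j` -/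
theorem vert_p {j : GolayPt} (hpj : p ≠ j) (hqj : q ≠ j) {a : ℤ} (ha : a = 4 ∨ a = -4) :
    nrm (lv p j 4 a hpj four_or ha) = 32 ∧
      dot (lv p q 4 4 hpq four_or four_or) (lv p j 4 a hpj four_or ha) = 16 :=
  base_vertex hpq _ (nrm_lv _ _ _ _ _ _ _) (by
    rw [lv_coe, two_left, two_other hpq.symm hqj]; rfl)

/-- the vertices `4 e_q ± 4 e_j` -/
theorem vert_q {j : GolayPt} (hpj : p ≠ j) (hqj : q ≠ j) {a : ℤ} (ha : a = 4 ∨ a = -4) :
    nrm (lv q j 4 a hqj four_or ha) = 32 ∧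
      dot (lv p q 4 4 hpq four_or four_or) (lv q j 4 a hqj four_or ha) = 16 :=
  base_vertex hpq _ (nrm_lv _ _ _ _ _ _ _) (by
    rw [lv_coe, two_left, two_other hpq hpj]; rfl)

theorem step_pp {j k : GolayPt} (hpj : p ≠ j) (hqj : q ≠ j) (hpk : p ≠ k) (hqk : q ≠ k)
    (hjk : j ≠ k) {a b : ℤ} (ha : a = 4 ∨ a = -4) (hb : b = 4 ∨ b = -4) :
    N16 (lv p q 4 4 hpq four_or four_or) (lv p j 4 a hpj four_or ha)
      (lv p k 4 b hpk four_or hb) := by
  refine ⟨vert_p hpq hpj hqj ha, vert_p hpq hpk hqk hb, ?_⟩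
  rw [dot_lv, lv_coe, two_left, two_other hpj.symm hjk]; norm_num

theorem step_pq {j : GolayPt} (hpj : p ≠ j) (hqj : q ≠ j) :
    N16 (lv p q 4 4 hpq four_or four_or) (lv p j 4 4 hpj four_or four_or)
      (lv q j 4 4 hqj four_or four_or) := by
  refine ⟨vert_p hpq hpj hqj _, vert_q hpq hpj hqj _, ?_⟩
  rw [dot_lv, lv_coe, two_other hpq hpj, two_right hqj]; norm_num

/-- all vertices `4 e_p ± 4 e_j` are connected -/
theorem conn_pp {j k : GolayPt} (hpj : p ≠ j) (hqj : q ≠ j) (hpk : p ≠ k) (hqk : q ≠ k)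
    {a b : ℤ} (ha : a = 4 ∨ a = -4) (hb : b = 4 ∨ b = -4) :
    Relation.ReflTransGen (N16 (lv p q 4 4 hpq four_or four_or)) (lv p j 4 a hpj four_or ha)
      (lv p k 4 b hpk four_or hb) := by
  obtain ⟨m, hm⟩ := exists_notMem {p, q, j, k} (lt_of_le_of_lt Finset.card_le_four (by decide))
  simp only [Finset.mem_insert, Finset.mem_singleton, not_or] at hm
  exact (Relation.ReflTransGen.single
    (step_pp hpq hpj hqj (Ne.symm hm.1) (Ne.symm hm.2.1) (Ne.symm hm.2.2.1) ha four_or)).tail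
    (step_pp hpq (Ne.symm hm.1) (Ne.symm hm.2.1) hpk hqk hm.2.2.2 four_or hb)

end base

theorem lv_comm {p q : GolayPt} (hpq : p ≠ q) :
    lv p q 4 4 hpq four_or four_or = lv q p 4 4 hpq.symm four_or four_or :=
  lv_swap hpq four_or four_or

/-- every vertex is connected to a vertex `4 e_p ± 4 e_j` -/
theorem conn_to_p {p q : GolayPt} (hpq : p ≠ q) (s : leechLattice) (hs : nrm s = 32)
    (h : (s : GolayPt → ℤ) p + (s : GolayPt → ℤ) q = 4) :
    ∃ j, ∃ (hpj : p ≠ j) (_ : q ≠ j), ∃ a, ∃ ha : a = 4 ∨ a = -4,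
      Relation.ReflTransGen (N16 (lv p q 4 4 hpq four_or four_or)) s
        (lv p j 4 a hpj four_or ha) := by
  -- the two symmetric finishing moves
  have fin_p : ∀ j, p ≠ j → q ≠ j → ∀ a : ℤ, (a = 4 ∨ a = -4) →
      4 * (s : GolayPt → ℤ) p + a * (s : GolayPt → ℤ) j = 16 →
      ∃ j, ∃ (hpj : p ≠ j) (_ : q ≠ j), ∃ a, ∃ ha : a = 4 ∨ a = -4,
        Relation.ReflTransGen (N16 (lv p q 4 4 hpq four_or four_or)) s
          (lv p j 4 a hpj four_or ha) := by
    intro j hpj hqj a ha e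
    refine ⟨j, hpj, hqj, a, ha, Relation.ReflTransGen.single
      ⟨base_vertex hpq s hs h, vert_p hpq hpj hqj ha, ?_⟩⟩
    rw [dot_lv']; exact e
  have fin_q : ∀ j, p ≠ j → q ≠ j → ∀ a : ℤ, (a = 4 ∨ a = -4) →
      4 * (s : GolayPt → ℤ) q + a * (s : GolayPt → ℤ) j = 16 →
      ∃ j, ∃ (hpj : p ≠ j) (_ : q ≠ j), ∃ a, ∃ ha : a = 4 ∨ a = -4,
        Relation.ReflTransGen (N16 (lv p q 4 4 hpq four_or four_or)) s
          (lv p j 4 a hpj four_or ha) := by
    intro j hpj hqj a ha e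
    have h1 : N16 (lv p q 4 4 hpq four_or four_or) s (lv q j 4 a hqj four_or ha) :=
      ⟨base_vertex hpq s hs h, vert_q hpq hpj hqj ha, by rw [dot_lv']; exact e⟩
    obtain ⟨m, hm⟩ := exists_notMem {p, q, j}
      (lt_of_le_of_lt Finset.card_le_three (by decide))
    simp only [Finset.mem_insert, Finset.mem_singleton, not_or] at hm
    have hpm : p ≠ m := Ne.symm hm.1
    have hqm : q ≠ m := Ne.symm hm.2.1
    have h2 : N16 (lv p q 4 4 hpq four_or four_or) (lv q j 4 a hqj four_or ha)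
        (lv q m 4 4 hqm four_or four_or) := by
      rw [lv_comm hpq]
      exact step_pp hpq.symm hqj hpj hqm hpm (Ne.symm hm.2.2) ha four_or
    exact ⟨m, hpm, hqm, 4, four_or,
      ((Relation.ReflTransGen.single h1).tail h2).tail (step_pq hpq hpm hqm).symm⟩
  rcases (min_iff _).1 ⟨s.2, hs⟩ with h4 | h2 | h3
  · -- type 4
    obtain ⟨k, l, hkl, a, b, ha, hb, e⟩ := eq_two_of_type4 h4
    have hval : ∀ i, (s : GolayPt → ℤ) i = 0 ∨ (s : GolayPt → ℤ) i = 4 ∨
        (s : GolayPt → ℤ) i = -4 := by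
      intro i
      by_cases hik : i = k
      · subst hik; rw [e, two_left]; exact Or.inr ha
      · by_cases hil : i = l
        · subst hil; rw [e, two_right hkl]; exact Or.inr hb
        · left; rw [e, two_other hik hil]
    obtain ⟨m, hm⟩ := exists_notMem {p, q, k, l}
      (lt_of_le_of_lt Finset.card_le_four (by decide))
    simp only [Finset.mem_insert, Finset.mem_singleton, not_or] at hm
    have hm0 : (s : GolayPt → ℤ) m = 0 := by rw [e, two_other hm.2.2.1 hm.2.2.2]
    have hp := hval p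
    have hq := hval q
    rcases (by omega : (s : GolayPt → ℤ) p = 4 ∨ (s : GolayPt → ℤ) q = 4) with h' | h'
    · exact fin_p m (Ne.symm hm.1) (Ne.symm hm.2.1) 4 four_or (by rw [h', hm0]; norm_num)
    · exact fin_q m (Ne.symm hm.1) (Ne.symm hm.2.1) 4 four_or (by rw [h', hm0]; norm_num)
  · -- type 2
    obtain ⟨A, hA, h2, h0, -⟩ := h2
    have hc : A.card = 8 := Cfsg.Agent.Leech.Code.steiner.1 A hA
    have hval : ∀ i, (s : GolayPt → ℤ) i = 0 ∨ (s : GolayPt → ℤ) i = 2 ∨
        (s : GolayPt → ℤ) i = -2 := by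
      intro i
      by_cases hi : i ∈ A
      · exact Or.inr (h2 i hi)
      · exact Or.inl (h0 i hi)
    have hp := hval p
    have hq := hval q
    have hp2 : (s : GolayPt → ℤ) p = 2 := by omega
    obtain ⟨m, hmA, hm⟩ : ∃ m ∈ A, m ∉ ({p, q} : Finset GolayPt) := by
      have : ¬ A ⊆ {p, q} := fun hsub => by
        have := Finset.card_le_card hsub
        have := Finset.card_le_two (a := p) (b := q)
        omega
      exact Finset.not_subset.1 this
    simp only [Finset.mem_insert, Finset.mem_singleton, not_or] at hm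
    rcases h2 m hmA with e | e
    · exact fin_p m (Ne.symm hm.1) (Ne.symm hm.2) 4 four_or (by rw [hp2, e]; norm_num)
    · exact fin_p m (Ne.symm hm.1) (Ne.symm hm.2) (-4) neg_four_or (by rw [hp2, e]; norm_num)
  · -- type 3
    obtain ⟨k, hk, hk1, -⟩ := h3
    obtain ⟨m, hm⟩ := exists_notMem {p, q, k} (lt_of_le_of_lt Finset.card_le_three (by decide))
    simp only [Finset.mem_insert, Finset.mem_singleton, not_or] at hm
    have hm1 := hk1 m hm.2.2
    have hkpq : k = p ∨ k = q := by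
      by_contra hcon
      push Not at hcon
      have h3 := hk1 p (Ne.symm hcon.1)
      have h4 := hk1 q (Ne.symm hcon.2)
      omega
    rcases hkpq with rfl | rfl
    · have h3 : (s : GolayPt → ℤ) k = 3 := by
        have := hk1 q hpq.symm
        omega
      rcases hm1 with e | e
      · exact fin_p m (Ne.symm hm.1) (Ne.symm hm.2.1) 4 four_or (by rw [h3, e]; norm_num)
      · exact fin_p m (Ne.symm hm.1) (Ne.symm hm.2.1) (-4) neg_four_or (by rw [h3, e]; norm_num)
    · have h3 : (s : GolayPt → ℤ) k = 3 := by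
        have := hk1 p hpq
        omega
      rcases hm1 with e | e
      · exact fin_q m (Ne.symm hm.1) (Ne.symm hm.2.1) 4 four_or (by rw [h3, e]; norm_num)
      · exact fin_q m (Ne.symm hm.1) (Ne.symm hm.2.1) (-4) neg_four_or (by rw [h3, e]; norm_num)

theorem reflTransGen_symm {r a b : leechLattice} (h : Relation.ReflTransGen (N16 r) a b) :
    Relation.ReflTransGen (N16 r) b a := by
  induction h with
  | refl => exact Relation.ReflTransGen.refl
  | tail _ h ih => exact Relation.ReflTransGen.head h.symm ih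

theorem conn_base {p q : GolayPt} (hpq : p ≠ q) (s s' : leechLattice) (hs : nrm s = 32)
    (h : (s : GolayPt → ℤ) p + (s : GolayPt → ℤ) q = 4) (hs' : nrm s' = 32)
    (h' : (s' : GolayPt → ℤ) p + (s' : GolayPt → ℤ) q = 4) :
    Relation.ReflTransGen (N16 (lv p q 4 4 hpq four_or four_or)) s s' := by
  obtain ⟨j, hpj, hqj, a, ha, h1⟩ := conn_to_p hpq s hs h
  obtain ⟨k, hpk, hqk, b, hb, h2⟩ := conn_to_p hpq s' hs' h'
  exact (h1.trans (conn_pp hpq hpj hqj hpk hqk ha hb)).trans (reflTransGen_symm h2)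

/-- `(L2)`: the graph on the 4600 minimal vectors of inner product `16` with `r`. -/
theorem conn (r s s' : leechLattice) (hr : nrm r = 32) (hs : nrm s = 32) (h : dot r s = 16)
    (hs' : nrm s' = 32) (h' : dot r s' = 16) : Relation.ReflTransGen (N16 r) s s' := by
  obtain ⟨p, hp⟩ := exists_notMem ∅ (by simp)
  obtain ⟨q, hq⟩ := exists_notMem {p} (by simp)
  rw [Finset.mem_singleton] at hq
  have hpq : p ≠ q := Ne.symm hq
  obtain ⟨g, hg⟩ := co0_transitive_min r (lv p q 4 4 hpq four_or four_or) hr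
    (sqNorm_lv _ _ _ _ _ _ _)
  have key : ∀ x, dot r x = 16 →
      ((g • x : leechLattice) : GolayPt → ℤ) p + ((g • x : leechLattice) : GolayPt → ℤ) q = 4 := by
    intro x hx
    have h1 : dot (g • r) (g • x) = 16 := by rw [dot_smul, hx]
    rw [hg, dot_lv] at h1
    linarith
  have h1 := conn_base hpq (g • s) (g • s') (by rw [nrm_smul, hs]) (key s h)
    (by rw [nrm_smul, hs']) (key s' h')
  rw [← hg] at h1
  have h2 : ∀ a b, Relation.ReflTransGen (N16 (g • r)) a b →
      Relation.ReflTransGen (N16 r) (g⁻¹ • a) (g⁻¹ • b) := by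
    intro a b hab
    induction hab with
    | refl => exact Relation.ReflTransGen.refl
    | tail _ hbc ih =>
      have h3 := hbc.smul g⁻¹
      rw [inv_smul_smul] at h3
      exact ih.tail h3
  have h3 := h2 _ _ h1
  rwa [inv_smul_smul, inv_smul_smul] at h3

/-- every vertex has a neighbour -/
theorem exists_nbr (r s : leechLattice) (hr : nrm r = 32) (hs : nrm s = 32) (h : dot r s = 16) :
    ∃ t, N16 r s t := by
  obtain ⟨p, hp⟩ := exists_notMem ∅ (by simp)
  obtain ⟨q, hq⟩ := exists_notMem {p} (by simp)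
  rw [Finset.mem_singleton] at hq
  have hpq : p ≠ q := Ne.symm hq
  obtain ⟨g, hg⟩ := co0_transitive_min r (lv p q 4 4 hpq four_or four_or) hr
    (sqNorm_lv _ _ _ _ _ _ _)
  obtain ⟨j, hj⟩ := exists_notMem {p, q} (lt_of_le_of_lt Finset.card_le_two (by decide))
  simp only [Finset.mem_insert, Finset.mem_singleton, not_or] at hj
  have hpj : p ≠ j := Ne.symm hj.1
  have hqj : q ≠ j := Ne.symm hj.2
  -- two different vertices
  have hv : ∀ a : ℤ, ∀ ha : a = 4 ∨ a = -4, nrm (g⁻¹ • lv p j 4 a hpj four_or ha) = 32 ∧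
      dot r (g⁻¹ • lv p j 4 a hpj four_or ha) = 16 := by
    intro a ha
    refine ⟨by rw [nrm_smul]; exact nrm_lv _ _ _ _ _ _ _, ?_⟩
    rw [← dot_smul g, hg, smul_inv_smul]
    exact (vert_p hpq hpj hqj ha).2
  have hne : ∃ t, (nrm t = 32 ∧ dot r t = 16) ∧ s ≠ t := by
    by_cases h1 : s = g⁻¹ • lv p j 4 4 hpj four_or four_or
    · refine ⟨_, hv (-4) neg_four_or, fun h2 => ?_⟩
      rw [h1] at h2
      have h3 := smul_left_cancel _ h2
      have h4 : ((lv p j 4 4 hpj four_or four_or : leechLattice) : GolayPt → ℤ) j =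
          ((lv p j 4 (-4) hpj four_or neg_four_or : leechLattice) : GolayPt → ℤ) j := by rw [h3]
      rw [lv_coe, lv_coe, two_right hpj, two_right hpj] at h4
      norm_num at h4
    · exact ⟨_, hv 4 four_or, h1⟩
  obtain ⟨t, ht, hst⟩ := hne
  rcases (conn r s t hr hs h ht.1 ht.2).cases_head with h1 | ⟨u, hu, -⟩
  · exact absurd h1 hst
  · exact ⟨u, hu⟩

/-- `(L2)`, form with signs: the graph on the 9200 minimal vectors of inner product `±16` with
`r`, with `s ~ s'` iff `(r,s) (r,s') (s,s') = 16 ^ 3`. -/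
theorem conn_nine (r s s' : leechLattice) (hr : nrm r = 32) (hs : nrm s = 32)
    (h : dot r s = 16 ∨ dot r s = -16) (hs' : nrm s' = 32)
    (h' : dot r s' = 16 ∨ dot r s' = -16) : Relation.ReflTransGen (N9 r) s s' := by
  have hpos : ∀ x, nrm x = 32 → (dot r x = 16 ∨ dot r x = -16) →
      ∃ y, (nrm y = 32 ∧ dot r y = 16) ∧ Relation.ReflTransGen (N9 r) x y ∧
        Relation.ReflTransGen (N9 r) y x := by
    intro x hx hrx
    rcases hrx with e | e
    · exact ⟨x, ⟨hx, e⟩, Relation.ReflTransGen.refl, Relation.ReflTransGen.refl⟩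
    · have hy : nrm (-x) = 32 ∧ dot r (-x) = 16 := ⟨by rw [nrm_neg, hx], by
        rw [dot_neg_right, e]; norm_num⟩
      obtain ⟨t, ht⟩ := exists_nbr r (-x) hr hy.1 hy.2
      have h1 : N9 r x t := by
        refine ⟨⟨hx, Or.inr e⟩, ⟨ht.2.1.1, Or.inl ht.2.1.2⟩, ?_⟩
        have h2 : dot x t = -16 := by
          have := ht.2.2
          rw [dot_neg_left] at this
          linarith
        rw [e, ht.2.1.2, h2]; norm_num
      exact ⟨-x, hy, (Relation.ReflTransGen.single h1).tail ht.symm.nine,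
        (Relation.ReflTransGen.single ht.nine).tail h1.symm⟩
  obtain ⟨y, hy, h1, -⟩ := hpos s hs h
  obtain ⟨y', hy', -, h2⟩ := hpos s' hs' h'
  have h4 : ∀ a b, Relation.ReflTransGen (N16 r) a b → Relation.ReflTransGen (N9 r) a b := by
    intro a b hab
    induction hab with
    | refl => exact Relation.ReflTransGen.refl
    | tail _ hbc ih => exact ih.tail hbc.nine
  exact (h1.trans (h4 _ _ (conn r y y' hr hy.1 hy.2 hy'.1 hy'.2))).trans h2

end Cfsg.Agent.MonsterP.LeechL2
end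

-- part: MonsterP/CovP
section
prune_inst 0x6024400000000000000000003c4442000102002b8001410008000488070100000720b000131011082624003a0008110000c9021000000a00020041190080002a20c00000000003000080e807580c00000000000000000000000000000004000000000
set_option linter.all false
open scoped Cfsg.Agent.FastGrp

/-- decoders of the packed data (elaboration time only) -/
private noncomputable def pk61d (b S i : Nat) : Nat := Nat.mod (Nat.shiftRight S (Nat.mul b i)) (Nat.shiftLeft (nat_lit 1) b)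
private noncomputable def pk61f {α : Type} (t : Nat) (f : Nat → α) : α := Nat.rec (f Nat.zero) (fun k _ => f (Nat.succ k)) t
private noncomputable def pk61l {α : Type} (f : Nat → α) (s e : Nat) (tl : List α) : List α :=
  pk61f e fun e => Nat.rec tl (fun k ih => List.cons (pk61f (Nat.sub e (Nat.succ k)) f) ih) (Nat.sub e s)
private noncomputable def lq269e7e5b21_0 := @_root_.List.nil.{0}
private noncomputable def lq269e7e5b21_1 := @_root_.List.cons.{0}

-- part: MonsterP/TwoB
section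
/-!
# The subgroups `2 · B` of a group with the Monster relations

Let `v` satisfy `Bimonster.PRel` (the relations on the 14 nodes of `Y553`: `a = 0`, arms `1 .. 5`, `6 .. 10`,
`11 .. 13`), and suppose that the presented Baby Monster `Spor.BabyMonster` is finite of order at most `N`.
Then

* `A v = ⟨0..4, 6..8, 11..13⟩` (type `Y433`) is finite of order at most `2 N`; it contains the involution
  `v 10 = f2`, which centralises it, and `A v ⧸ ⟨v 10⟩` is a quotient of `Spor.BabyMonster`;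
* the same for the mirror image `B v = ⟨0..3, 6..9, 11..13⟩` and `v 5 = f1`.
-/

set_option autoImplicit false
set_option maxRecDepth 100000
set_option linter.constructorNameAsVariable false

namespace Cfsg.Agent.MonsterP.TwoB

open Cfsg.Spor
open Cfsg.Agent.Bimonster Cfsg.Agent.Bimonster.Tits
open Cfsg.Agent.BM.Psi (Rel pow_rot)
open Cfsg.Agent.Lib.PermNetOrbit (cox_lift_eq_one)

/-! ### The relations of the presented Baby Monster from a Coxeter-type list -/

section General

variable {G : Type*} [Group G]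

theorem lab_cases (a b : BabyMonster.Gen) :
    (a = b ∧ coxLabel BabyMonster.edges a b = 1) ∨
    coxLabel BabyMonster.edges a b = 2 ∨ coxLabel BabyMonster.edges a b = 3 := by
  cases a <;> cases b <;> decide

/-- The relations of the presented Baby Monster. -/
theorem rel_intro {x : BabyMonster.Gen → G} (sq : ∀ a, x a * x a = 1)
    (cm : ∀ a b, coxLabel BabyMonster.edges a b = 2 → x a * x b = x b * x a)
    (br : ∀ a b, coxLabel BabyMonster.edges a b = 3 → x a * x b * x a = x b * x a * x b)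
    (spider : (x .t5 * x .t4 * x .t3 * x .t5 * x .t6 * x .t7 * x .t5 * x .t9 * x .t10) ^ 10 = 1)
    (e7a : (x .t5 * x .t4 * x .t3 * x .t6 * x .t7 * x .t8 * x .t9) ^ 9 = 1)
    (e7b : (x .t5 * x .t4 * x .t3 * x .t6 * x .t9 * x .t10 * x .t11) ^ 9 = 1) : Rel x := by
  refine cox_lift_eq_one _ _ _ (fun a _ b _ => ?_) ?_
  · rcases lab_cases a b with ⟨rfl, h⟩ | h | h
    · rw [h, pow_one, sq]
    · rw [h, pow_two]
      calc x a * x b * (x a * x b) = x a * x b * (x b * x a) := by rw [cm a b h]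
        _ = x a * (x b * x b) * x a := by simp only [mul_assoc]
        _ = 1 := by rw [sq, mul_one, sq]
    · rw [h]
      calc (x a * x b) ^ 3 = (x a * x b * x a) * (x b * x a * x b) := by
            simp only [pow_succ, pow_zero, one_mul, mul_assoc]
        _ = (x b * x a * x b) * (x b * x a * x b) := by rw [br a b h]
        _ = x b * x a * (x b * x b) * x a * x b := by simp only [mul_assoc]
        _ = x b * (x a * x a) * x b := by rw [sq b, mul_one]; simp only [mul_assoc]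
        _ = 1 := by rw [sq, mul_one, sq]
  · intro r hr
    simp only [BabyMonster.extra, List.mem_cons, List.not_mem_nil, or_false] at hr
    rcases hr with rfl | rfl | rfl
    · simpa only [map_pow, map_mul, FreeGroup.lift_apply_of] using spider
    · simpa only [map_pow, map_mul, FreeGroup.lift_apply_of] using e7a
    · simpa only [map_pow, map_mul, FreeGroup.lift_apply_of] using e7b

/-- The homomorphism from the presented Baby Monster. -/
def lift {x : BabyMonster.Gen → G} (h : Rel x) : Spor.BabyMonster →* G :=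
  PresentedGroup.toGroup (f := x) h

theorem lift_of {x : BabyMonster.Gen → G} (h : Rel x) (t : BabyMonster.Gen) :
    lift h (PresentedGroup.of t) = x t :=
  PresentedGroup.toGroup.of h

theorem lift_surjective {x : BabyMonster.Gen → G} (h : Rel x)
    (hgen : Subgroup.closure (Set.range x) = ⊤) : Function.Surjective (lift h) := by
  rw [← MonoidHom.range_eq_top, eq_top_iff, ← hgen, Subgroup.closure_le]
  rintro _ ⟨t, rfl⟩
  exact ⟨_, lift_of h t⟩

/-- A group of which the quotient by a central element `c` of order at most two is a quotient of the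
presented Baby Monster. -/
theorem two_cover {A : Type*} [Group A] {x : BabyMonster.Gen → A}
    (hgen : Subgroup.closure (Set.range x) = ⊤) {c : A} [hN : (Subgroup.zpowers c).Normal]
    (hc2 : c * c = 1) (h : Rel (fun t => (QuotientGroup.mk (s := Subgroup.zpowers c) (x t))))
    {N : ℕ} (hfin : Finite Spor.BabyMonster) (hcard : Nat.card Spor.BabyMonster ≤ N) :
    Finite A ∧ Nat.card A ≤ 2 * N ∧ Function.Surjective (lift h) := by
  classical
  have hsurj : Function.Surjective (lift h) := by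
    apply lift_surjective
    have e : Set.range (fun t => (QuotientGroup.mk (s := Subgroup.zpowers c) (x t))) =
        (QuotientGroup.mk' (Subgroup.zpowers c)) '' Set.range x := by
      rw [← Set.range_comp]; rfl
    rw [e, ← MonoidHom.map_closure, hgen, ← MonoidHom.range_eq_map, MonoidHom.range_eq_top]
    exact QuotientGroup.mk'_surjective _
  have hfq : Finite (A ⧸ Subgroup.zpowers c) := Finite.of_surjective _ hsurj
  have hcq : Nat.card (A ⧸ Subgroup.zpowers c) ≤ N :=
    (Nat.card_le_card_of_surjective _ hsurj).trans hcard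
  have hz : Nat.card (Subgroup.zpowers c) ≤ 2 := by
    rw [Nat.card_zpowers]
    exact Nat.le_of_dvd (by norm_num) (orderOf_dvd_of_pow_eq_one (by rw [pow_two, hc2]))
  have hzf : Finite (Subgroup.zpowers c) := by
    apply Nat.finite_of_card_ne_zero
    rw [Nat.card_zpowers]
    exact (isOfFinOrder_iff_pow_eq_one.2 ⟨2, by norm_num, by rw [pow_two, hc2]⟩).orderOf_pos.ne'
  have hA : Nat.card A = Nat.card (A ⧸ Subgroup.zpowers c) * Nat.card (Subgroup.zpowers c) :=
    Subgroup.card_eq_card_quotient_mul_card_subgroup _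
  have hqpos : 0 < Nat.card (A ⧸ Subgroup.zpowers c) := Nat.card_pos
  have hzpos : 0 < Nat.card (Subgroup.zpowers c) := Nat.card_pos
  refine ⟨Nat.finite_of_card_ne_zero ?_, ?_, hsurj⟩
  · rw [hA]; exact (Nat.mul_pos hqpos hzpos).ne'
  · rw [hA, mul_comm 2 N]; exact Nat.mul_le_mul hcq hz

end General

/-! ### The two node assignments -/

/-- `t5 | t4 t3 t2 t1 | t6 t7 t8 | t9 t10 t11 = 0 | 1 2 3 4 | 6 7 8 | 11 12 13` -/
def mA : BabyMonster.Gen → ℕ
  | .t5 => 0
  | .t4 => 1
  | .t3 => 2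
  | .t2 => 3
  | .t1 => 4
  | .t6 => 6
  | .t7 => 7
  | .t8 => 8
  | .t9 => 11
  | .t10 => 12
  | .t11 => 13

/-- `t5 | t4 t3 t2 t1 | t6 t7 t8 | t9 t10 t11 = 0 | 6 7 8 9 | 11 12 13 | 1 2 3` -/
def mB : BabyMonster.Gen → ℕ
  | .t5 => 0
  | .t4 => 6
  | .t3 => 7
  | .t2 => 8
  | .t1 => 9
  | .t6 => 11
  | .t7 => 12
  | .t8 => 13
  | .t9 => 1
  | .t10 => 2
  | .t11 => 3

theorem mA_lt (a : BabyMonster.Gen) : mA a < 14 := by cases a <;> decide
theorem mB_lt (a : BabyMonster.Gen) : mB a < 14 := by cases a <;> decide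

theorem mA_two (a b : BabyMonster.Gen) (h : coxLabel BabyMonster.edges a b = 2) :
    adjB (mA a) (mA b) = false := by
  revert h; cases a <;> cases b <;> decide
theorem mA_three (a b : BabyMonster.Gen) (h : coxLabel BabyMonster.edges a b = 3) :
    adjB (mA a) (mA b) = true := by
  revert h; cases a <;> cases b <;> decide
theorem mB_two (a b : BabyMonster.Gen) (h : coxLabel BabyMonster.edges a b = 2) :
    adjB (mB a) (mB b) = false := by
  revert h; cases a <;> cases b <;> decide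
theorem mB_three (a b : BabyMonster.Gen) (h : coxLabel BabyMonster.edges a b = 3) :
    adjB (mB a) (mB b) = true := by
  revert h; cases a <;> cases b <;> decide

section PRel

variable {E : Type*} [Group E] {v : ℕ → E}

theorem eqA1 (h : PRel v) : ev v [0, 1, 2, 6, 7, 8, 11] = ev v Bimonster.f2a :=
  eq_of_run_reverse h.cox.valid (fun i hi => h.cox.sq i (by revert i; decide))
    (ms := [19, 15, 19, 16, 12, 16, 12, 10, 6, 7, 3, 3, 0]) (n := 7) (by decide +kernel)

theorem eqA2 (h : PRel v) : ev v [0, 1, 2, 6, 11, 12, 13] = ev v Bimonster.f3a :=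
  eq_of_run_reverse h.cox.valid (fun i hi => h.cox.sq i (by revert i; decide))
    (ms := [18, 19, 15, 13, 10, 6, 10, 6, 7, 3, 3, 0]) (n := 7) (by decide +kernel)

theorem eqB1 (h : PRel v) : ev v [0, 6, 7, 11, 12, 13, 1] = ev v Bimonster.f3b :=
  eq_of_run_reverse h.cox.valid (fun i hi => h.cox.sq i (by revert i; decide))
    (ms := [19, 15, 19, 16, 12, 16, 12, 10, 6, 7, 3, 3, 0]) (n := 7) (by decide +kernel)

theorem eqB2 (h : PRel v) : ev v [0, 6, 7, 11, 1, 2, 3] = ev v Bimonster.f1a :=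
  eq_of_run_reverse h.cox.valid (fun i hi => h.cox.sq i (by revert i; decide))
    (ms := [18, 19, 15, 13, 10, 6, 10, 6, 7, 3, 3, 0]) (n := 7) (by decide +kernel)

theorem e7A1 (h : PRel v) : (v 0 * v 1 * v 2 * v 6 * v 7 * v 8 * v 11) ^ 9 = v 10 := by
  have := h.f2a
  rw [← eqA1 h] at this
  simpa only [ev_cons, ev_nil, mul_one, mul_assoc] using this.symm

theorem e7A2 (h : PRel v) : (v 0 * v 1 * v 2 * v 6 * v 11 * v 12 * v 13) ^ 9 = 1 := by
  have := h.f3a
  rw [← eqA2 h] at this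
  simpa only [ev_cons, ev_nil, mul_one, mul_assoc] using this

theorem e7B1 (h : PRel v) : (v 0 * v 6 * v 7 * v 11 * v 12 * v 13 * v 1) ^ 9 = 1 := by
  have := h.f3b
  rw [← eqB1 h] at this
  simpa only [ev_cons, ev_nil, mul_one, mul_assoc] using this

theorem e7B2 (h : PRel v) : (v 0 * v 6 * v 7 * v 11 * v 1 * v 2 * v 3) ^ 9 = v 5 := by
  have := h.f1a
  rw [← eqB2 h] at this
  simpa only [ev_cons, ev_nil, mul_one, mul_assoc] using this.symm

theorem spA (h : PRel v) : (v 0 * v 1 * v 2 * v 0 * v 6 * v 7 * v 0 * v 11 * v 12) ^ 10 = 1 := by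
  have := h.spider
  simpa only [spW, ev_cons, ev_nil, mul_one, mul_assoc] using this

theorem spB (h : PRel v) : (v 0 * v 6 * v 7 * v 0 * v 11 * v 12 * v 0 * v 1 * v 2) ^ 10 = 1 := by
  have h2 : ((v 0 * v 1 * v 2) * (v 0 * v 6 * v 7 * v 0 * v 11 * v 12)) ^ 10 = 1 := by
    simpa only [mul_assoc] using spA h
  simpa only [mul_assoc] using pow_rot h2

end PRel

section Sub

variable {E : Type*} [Group E]

/-- The subgroup generated by the nodes `m a`. -/
def sub (m : BabyMonster.Gen → ℕ) (v : ℕ → E) : Subgroup E :=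
  Subgroup.closure (Set.range fun a => v (m a))

/-- The generators as elements of the subgroup. -/
def gx (m : BabyMonster.Gen → ℕ) (v : ℕ → E) (a : BabyMonster.Gen) : sub m v :=
  ⟨v (m a), Subgroup.subset_closure ⟨a, rfl⟩⟩

theorem gx_coe (m : BabyMonster.Gen → ℕ) (v : ℕ → E) (a : BabyMonster.Gen) :
    ((gx m v a : sub m v) : E) = v (m a) := rfl

theorem gx_closure (m : BabyMonster.Gen → ℕ) (v : ℕ → E) :
    Subgroup.closure (Set.range (gx m v)) = ⊤ := by
  have h := Subgroup.closure_closure_coe_preimage (k := Set.range fun a => v (m a))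
  refine Eq.trans ?_ h
  congr 1
  ext ⟨y, hy⟩
  constructor
  · rintro ⟨a, ha⟩
    exact ⟨a, congrArg Subtype.val ha⟩
  · rintro ⟨a, ha⟩
    exact ⟨a, Subtype.ext ha⟩

end Sub

/-! ### The main statements -/

section Main

variable {E : Type*} [Group E] {v : ℕ → E}

/-- `⟨0..4, 6..8, 11..13⟩` -/
abbrev A (v : ℕ → E) : Subgroup E := sub mA v

/-- `⟨0..3, 6..9, 11..13⟩` -/
abbrev B (v : ℕ → E) : Subgroup E := sub mB v

theorem mem_A (a : BabyMonster.Gen) : v (mA a) ∈ A v := Subgroup.subset_closure ⟨a, rfl⟩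
theorem mem_B (a : BabyMonster.Gen) : v (mB a) ∈ B v := Subgroup.subset_closure ⟨a, rfl⟩

theorem mem_A_ten (h : PRel v) : v 10 ∈ A v := by
  rw [← e7A1 h]
  exact pow_mem (mul_mem (mul_mem (mul_mem (mul_mem (mul_mem (mul_mem
    (mem_A .t5) (mem_A .t4)) (mem_A .t3)) (mem_A .t6)) (mem_A .t7)) (mem_A .t8)) (mem_A .t9)) 9

theorem mem_B_five (h : PRel v) : v 5 ∈ B v := by
  rw [← e7B2 h]
  exact pow_mem (mul_mem (mul_mem (mul_mem (mul_mem (mul_mem (mul_mem
    (mem_B .t5) (mem_B .t4)) (mem_B .t3)) (mem_B .t6)) (mem_B .t9)) (mem_B .t10)) (mem_B .t11)) 9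

theorem A_comm_ten (h : PRel v) : ∀ g ∈ A v, v 10 * g = g * v 10 := by
  intro g hg
  have : A v ≤ Subgroup.centralizer {v 10} := by
    refine (Subgroup.closure_le _).2 ?_
    rintro _ ⟨a, rfl⟩
    refine Subgroup.mem_centralizer_singleton_iff.2 ?_
    exact (h.cox.cm _ (mA_lt a) 10 (by norm_num) (by cases a <;> decide))
  exact (Subgroup.mem_centralizer_singleton_iff.1 (this hg)).symm

theorem B_comm_five (h : PRel v) : ∀ g ∈ B v, v 5 * g = g * v 5 := by
  intro g hg
  have : B v ≤ Subgroup.centralizer {v 5} := by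
    refine (Subgroup.closure_le _).2 ?_
    rintro _ ⟨a, rfl⟩
    refine Subgroup.mem_centralizer_singleton_iff.2 ?_
    exact (h.cox.cm _ (mB_lt a) 5 (by norm_num) (by cases a <;> decide))
  exact (Subgroup.mem_centralizer_singleton_iff.1 (this hg)).symm

/-- The central involution `f2` of `A v`. -/
def cA (h : PRel v) : A v := ⟨v 10, mem_A_ten h⟩

/-- The central involution `f1` of `B v`. -/
def cB (h : PRel v) : B v := ⟨v 5, mem_B_five h⟩

theorem normal_of_central {A : Type*} [Group A] {c : A} (hc : ∀ g : A, c * g = g * c) :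
    (Subgroup.zpowers c).Normal := by
  constructor
  intro n hn g
  have hcm : c ∈ Subgroup.center A := Subgroup.mem_center_iff.2 fun g => (hc g).symm
  have hn' : n ∈ Subgroup.center A := (Subgroup.zpowers_le.2 hcm) hn
  have e : g * n * g⁻¹ = n := by
    rw [Subgroup.mem_center_iff.1 hn' g, mul_inv_cancel_right]
  rw [e]
  exact hn

instance normA (h : PRel v) : (Subgroup.zpowers (cA h)).Normal :=
  normal_of_central fun g => Subtype.ext (A_comm_ten h g g.2)

instance normB (h : PRel v) : (Subgroup.zpowers (cB h)).Normal :=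
  normal_of_central fun g => Subtype.ext (B_comm_five h g g.2)

/-- The images of the generators in `A v ⧸ ⟨f2⟩`. -/
def qA (h : PRel v) (a : BabyMonster.Gen) : A v ⧸ Subgroup.zpowers (cA h) :=
  QuotientGroup.mk (gx mA v a)

/-- The images of the generators in `B v ⧸ ⟨f1⟩`. -/
def qB (h : PRel v) (a : BabyMonster.Gen) : B v ⧸ Subgroup.zpowers (cB h) :=
  QuotientGroup.mk (gx mB v a)

theorem mk_eq_one_of {A : Type*} [Group A] {c : A} [(Subgroup.zpowers c).Normal] {g : A}
    (h : g = 1 ∨ g = c) : (QuotientGroup.mk g : A ⧸ Subgroup.zpowers c) = 1 := by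
  rw [QuotientGroup.eq_one_iff]
  rcases h with rfl | rfl
  · exact one_mem _
  · exact Subgroup.mem_zpowers _

theorem relA (h : PRel v) : Rel (qA h) := by
  refine rel_intro (fun a => ?_) (fun a b hl => ?_) (fun a b hl => ?_) ?_ ?_ ?_
  · show QuotientGroup.mk (gx mA v a * gx mA v a) = _
    exact mk_eq_one_of (Or.inl (Subtype.ext (h.cox.sq _ (mA_lt a))))
  · show QuotientGroup.mk (gx mA v a * gx mA v b) = QuotientGroup.mk (gx mA v b * gx mA v a)
    exact congrArg _ (Subtype.ext (h.cox.cm _ (mA_lt a) _ (mA_lt b) (mA_two a b hl)))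
  · show QuotientGroup.mk (gx mA v a * gx mA v b * gx mA v a) =
      QuotientGroup.mk (gx mA v b * gx mA v a * gx mA v b)
    exact congrArg _ (Subtype.ext (h.cox.br _ (mA_lt a) _ (mA_lt b) (mA_three a b hl)))
  · show QuotientGroup.mk ((gx mA v .t5 * gx mA v .t4 * gx mA v .t3 * gx mA v .t5 * gx mA v .t6 *
      gx mA v .t7 * gx mA v .t5 * gx mA v .t9 * gx mA v .t10) ^ 10) = _
    exact mk_eq_one_of (Or.inl (Subtype.ext (spA h)))
  · show QuotientGroup.mk ((gx mA v .t5 * gx mA v .t4 * gx mA v .t3 * gx mA v .t6 * gx mA v .t7 *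
      gx mA v .t8 * gx mA v .t9) ^ 9) = _
    exact mk_eq_one_of (Or.inr (Subtype.ext (e7A1 h)))
  · show QuotientGroup.mk ((gx mA v .t5 * gx mA v .t4 * gx mA v .t3 * gx mA v .t6 * gx mA v .t9 *
      gx mA v .t10 * gx mA v .t11) ^ 9) = _
    exact mk_eq_one_of (Or.inl (Subtype.ext (e7A2 h)))

theorem relB (h : PRel v) : Rel (qB h) := by
  refine rel_intro (fun a => ?_) (fun a b hl => ?_) (fun a b hl => ?_) ?_ ?_ ?_
  · show QuotientGroup.mk (gx mB v a * gx mB v a) = _
    exact mk_eq_one_of (Or.inl (Subtype.ext (h.cox.sq _ (mB_lt a))))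
  · show QuotientGroup.mk (gx mB v a * gx mB v b) = QuotientGroup.mk (gx mB v b * gx mB v a)
    exact congrArg _ (Subtype.ext (h.cox.cm _ (mB_lt a) _ (mB_lt b) (mB_two a b hl)))
  · show QuotientGroup.mk (gx mB v a * gx mB v b * gx mB v a) =
      QuotientGroup.mk (gx mB v b * gx mB v a * gx mB v b)
    exact congrArg _ (Subtype.ext (h.cox.br _ (mB_lt a) _ (mB_lt b) (mB_three a b hl)))
  · show QuotientGroup.mk ((gx mB v .t5 * gx mB v .t4 * gx mB v .t3 * gx mB v .t5 * gx mB v .t6 *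
      gx mB v .t7 * gx mB v .t5 * gx mB v .t9 * gx mB v .t10) ^ 10) = _
    exact mk_eq_one_of (Or.inl (Subtype.ext (spB h)))
  · show QuotientGroup.mk ((gx mB v .t5 * gx mB v .t4 * gx mB v .t3 * gx mB v .t6 * gx mB v .t7 *
      gx mB v .t8 * gx mB v .t9) ^ 9) = _
    exact mk_eq_one_of (Or.inl (Subtype.ext (e7B1 h)))
  · show QuotientGroup.mk ((gx mB v .t5 * gx mB v .t4 * gx mB v .t3 * gx mB v .t6 * gx mB v .t9 *
      gx mB v .t10 * gx mB v .t11) ^ 9) = _
    exact mk_eq_one_of (Or.inr (Subtype.ext (e7B2 h)))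

/-- `Spor.BabyMonster →* A v ⧸ ⟨f2⟩` -/
def homA (h : PRel v) : Spor.BabyMonster →* A v ⧸ Subgroup.zpowers (cA h) := lift (relA h)

theorem homA_of (h : PRel v) (a : BabyMonster.Gen) :
    homA h (PresentedGroup.of a) = QuotientGroup.mk (gx mA v a) := lift_of _ a

theorem cA_sq (h : PRel v) : cA h * cA h = 1 := Subtype.ext (h.cox.sq 10 (by norm_num))
theorem cB_sq (h : PRel v) : cB h * cB h = 1 := Subtype.ext (h.cox.sq 5 (by norm_num))

theorem homA_surjective (h : PRel v) : Function.Surjective (homA h) := by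
  apply lift_surjective
  have e : Set.range (qA h) =
      (QuotientGroup.mk' (Subgroup.zpowers (cA h))) '' Set.range (gx mA v) := by
    rw [← Set.range_comp]; rfl
  rw [e, ← MonoidHom.map_closure, gx_closure, ← MonoidHom.range_eq_map, MonoidHom.range_eq_top]
  exact QuotientGroup.mk'_surjective _

/-- `A v` is finite of order at most `2 N`. -/
theorem card_A (h : PRel v) {N : ℕ} (hfin : Finite Spor.BabyMonster)
    (hcard : Nat.card Spor.BabyMonster ≤ N) : Finite (A v) ∧ Nat.card (A v) ≤ 2 * N :=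
  have := two_cover (gx_closure mA v) (cA_sq h) (relA h) hfin hcard
  ⟨this.1, this.2.1⟩

/-- `B v` is finite of order at most `2 N`. -/
theorem card_B (h : PRel v) {N : ℕ} (hfin : Finite Spor.BabyMonster)
    (hcard : Nat.card Spor.BabyMonster ≤ N) : Finite (B v) ∧ Nat.card (B v) ≤ 2 * N :=
  have := two_cover (gx_closure mB v) (cB_sq h) (relB h) hfin hcard
  ⟨this.1, this.2.1⟩

end Main

end Cfsg.Agent.MonsterP.TwoB
end

-- part: MonsterP/NhatData
section
/-! # The element swapping the arms 1 and 2 in the group `P` (generated certificates) -/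

set_option autoImplicit false
set_option maxRecDepth 100000

namespace Cfsg.Agent.MonsterP.NhatData

open Cfsg.Agent.Bimonster Cfsg.Agent.Bimonster.Tits

/-- `(4 7)(5 8)(6 9)` -/
def nuW : List ℕ := [0, 1, 2, 6, 0, 1, 7, 6, 0]
/-- a word in the letters `4 3 2 1 0 6 7` -/
def nvW : List ℕ := [0, 1, 2, 3, 4, 6, 0, 1, 2, 3, 7, 6, 0, 1, 2]
/-- a word in the path letters other than `0` -/
def nsW : List ℕ := (beta% (fun (vq0 : type_of% @lq269e7e5b21_0) (vq1 : type_of% @lq269e7e5b21_1) => (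
    (vq1 5 (vq1 4 (vq1 3 (vq1 4 (vq1 5 (vq1 2 (vq1 3 (vq1 4 (vq1 1 (vq1 2 (vq1 3 (vq1 4 (vq1 5 (vq1 6 (vq1 7 (vq1 6 (vq1 8 (vq1 7 (vq1 6 (vq1 9 (vq1 8 (vq1 7 (vq1 6 (vq1 10 (vq1 9 (vq1 8 (vq1 7 (vq1 6 vq0)))))))))))))))))))))))))))) :
    List ℕ))
    (delta% @lq269e7e5b21_0 :) (delta% @lq269e7e5b21_1 :))
/-- certificate -/
noncomputable def nAC : List ℕ :=
  let y0 : List ℕ := (by
  refine (?fq9001 : (pk61l (fun i0 => (pk61d (nat_lit 7) 
    (nat_lit 0xc302121c60a1e349102a60b13206cb9e3864b214888f9c329d2a23e70c94204d52644b55a84a88fb05ca51a866d992e72f1fbd74dd92c50955b185161c07ae9bb45ea519f3488fa84a8972b509644697267519f324c47cea1d4af5684c8f05ecf996aedbb182f63c37add6a1324c6833eae6c9a766acf930deb7629cd8f0df3868c5bbd751204c931294f99277ebcf8ae56a587567c9cb875f1db9fbf3db9eed192fdbb156967c9b7567fdebb71dbab2e1bd67879) i0)) (nat_lit 0) (nat_lit 208) List.nil : List ℕ)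
    = ?xq9001 → (List ℕ)) ?hq9001; (case hq9001 => (set_option maxRecDepth 1000000 in set_option simprocs false in conv => lhs; reduce; dsimp only)); intro _; exact ?xq9001 : List ℕ)
  let y1 : List ℕ := (by
  refine (?fq9002 : (fun tl : List ℕ => pk61l (fun i0 => (pk61d (nat_lit 8) 
    (nat_lit 0x768184827f7c79746e6a655f5b56524d4946413d38344c47434055524d4946435c58555b64616d6a67645f595e73706d6a67646187858a88837d7976736e7c828d908e8b93918e8b8885807a74706b65615c5855524f4c4743403d384643403d64615c5855524d494c6a6764615c58535b58716d6a67647976716d6a707f7c797696928e89837f918e999794918e8b8885827f7c79746e68625c5855504c47413d3a352f2925221f1c17130e0804010d1613102825221d17131c2e2b28231f1c1734312e2b28231d22403b3734312c28254643403b3734312c284f4c494643403b3734312c3a3734315b56504c4743403b373455615c5855504c4743403b376764615c56524f4c4743403b4643405b739c9fa2a09b95918e8b869aa5a39e98928e8b888582979d9aa8aba9a6a39e9a958f8b86827d797673706b67625e5b56524d4944403d3834312e2925201c1914100b0704011310433e3a37342f2b2825201a1613191f4c4944403d3a35312e2b2825221d171c55524f4c498582949d9a97aeb1afaca7a3a09b97928e9a97b4b2ada9a6a3a09d9ab7b5b2afaaa4a09d9a97928c86827f7c797673706b67625c56504c4946433e3a37342f2b26201a1613100d0a07041f1a1625221f1a2e2b2825221f3d3a3734312e2b2825224f4c4944403d38322e3743403d3a55524f4a46413d3a373249)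 i0)) (nat_lit 0) (nat_lit 500) tl)
    = ?xq9002 → (List ℕ)) ?hq9002; (case hq9002 => (set_option maxRecDepth 1000000 in set_option simprocs false in conv => lhs; reduce; dsimp only)); intro _; exact ?xq9002 y0 : List ℕ)
  let y2 : List ℕ := (by
  refine (?fq9003 : (fun tl : List ℕ => pk61l (fun i0 => (pk61d (nat_lit 8) 
    (nat_lit 0x465b58615e5b56504c4946413d38403d4f556a6764615e5b58534d4741464c49524f4c8b918ea9bab8b5b2ada7a19d9a97928e89837d7773706d6a67625e5b5855504c4944403b37342f2b26221f1c17110d0a070401100d16131025221d191613100b070a2e2b2825221d1916111c19164f4c4944403b352f2b2825221f1c2e2b2834312e3a373443403d3a615e5b5855524f4c494643403d38322c26221f1a16130e0a050d0a19140e1325221f1a16132b2825221f1a312e2b3734317673706d687c827f7a76736e6a65615e5955504c4944403d3834312e5855504a4643403d4f6b6764615e5b5855528885827f7a74706d68625c5855524f4c4743403d38343137344643403d3a37615c5855524d494c6764615c58535b58736e6a67647976736e6a918e8b8885827f7c7976736e68625c5855504c47413d3a403d4643404f4c495b56504c55615c5855506764615c56525b6d6a6764615ea09d98928e8b8885807c77736e6a65615e5b56504c5574706d6a7f7c7997a6a39e9a97928e8b86807c7976716d6a65615c58555064615c565b706d6a6764615e7f7c7785aca9a6a39e9894918e8b88837d79746e6864616d686473706d68829dbdb9b5b2afacc0bebbb8b5b0aca9a6a19b9794918e8b86807c77736e6a65615e5955524d4946433e3a37342f2b2825206b6764615e59534f4c49)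 i0)) (nat_lit 0) (nat_lit 500) tl)
    = ?xq9003 → (List ℕ)) ?hq9003; (case hq9003 => (set_option maxRecDepth 1000000 in set_option simprocs false in conv => lhs; reduce; dsimp only)); intro _; exact ?xq9003 y1 : List ℕ)
  let y3 : List ℕ := (by
  refine (?fq9004 : (fun tl : List ℕ => pk61l (fun i0 => (pk61d (nat_lit 8) 
    (nat_lit 0x46435874707d7976737ca2a09d9a97a5a3a09da8a6a3aba9aeb1ada7a19b95918e8b8885827f7c797673706d6a6764615e5b5855524f4a4643403d3a3734312c2825221f2b282522494643403d3a3734312e2b2825949aa09d98928e8b8885827f7c797673706d6a918e8b97a6a3a09d9a95918e8985827f7c88aca9a6a3a09d9a95a5a3a09da8a6a3abaeaaa6a19b97928e8b86827f7a7673706d6864615e5b58555079919894918e8b97a09db1afaaa6a3a09ba9a6b4b2afacb7b5b2babdb9b5b0aaa6a3a09d9a97928e8b86918e8ba9a6a3a09d98afacc0beb9b5b2afb8bab8b5b2afaab4b0aca7a39e9a958f8b88837f7c7773706d6864615e5b56524d494643403d3a35312e34314c534f4c494643403d3a3752827f7c8e89858894918e9b97928e8b88837f7c7773706d6864615c585b827f7c7773706d68625e6167647673706d6a67918e89a4a09d9a9792a3ada9a6a39e9a9dacb4b2afaaa4a09d98948f8b86807c7976736e6a67625e5b56524d4946433e3a373d3a55526d6a67625c56524f4c494643555b615e858c8885807c7974706d6a65615c5855504c47434f4c73706b6764615c56524f555b7f7c7976716d6a6764615e59535895918e8b94a39e9a97948f8b86827d85828e8b88859da9b1afaca7a3a09b958f8985827f7a7673706b67625c56524f4c4946413d3a403d5b)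 i0)) (nat_lit 0) (nat_lit 500) tl)
    = ?xq9004 → (List ℕ)) ?hq9004; (case hq9004 => (set_option maxRecDepth 1000000 in set_option simprocs false in conv => lhs; reduce; dsimp only)); intro _; exact ?xq9004 y2 : List ℕ)
  (by
  refine (?fq9005 : (fun tl : List ℕ => pk61l (fun i0 => (pk61d (nat_lit 8) 
    (nat_lit 0x5652615e5b566a6764615e5b797673706d6a678885807c79746e6a737f8e8b86827f7a76736e8594918c8885827f7a74798b9a9794a6b4b2afaca9a6aba9a4a09d9894918e8b86827d7773706b67645f5b58534d494643403d3a35312c28252234312c28252b284c524f4a46495e59556a6764615e597c77716d6864615e5b585552676470767385827f7c79979491a39e9a9794918c86827d7976716d6864615e5b56525567706d7c7976837f7c797673827f9d9a84827f7c7773706b65615c5855504c4944403b37343a43404f4a44403d3a374340495b56625e5b5855524f615e6a767372706d6a67646967625e5b56524f4c4944403b37322e2b28312e3a373431434055524f615c5855524f4a44403b3734312e2b3a3743403d3a5b58484643403d45413f3b37342f2b26221f1c17110d0a0702162e2b42403b35312e2b26221d1916110d0804100d231f1c19161310343a4543403d38322c2825201a14100d0a07191f1c2b26221f312e2b26223734312e2b264846413b3734312c28231f1c17130e0a1613404b4743403b37322e2b28231d1916130e1c223a374e4c47413b3734312e2b2825201a1410191f1c404643514f4c47433e3834312e29231f1a1613283d54524d4944403d38342f2b28231f1a1635312e2b2857534f4c49443e3a37322c2825221f1a2b312e3d383443403d38)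 i0)) (nat_lit 0) (nat_lit 500) tl)
    = ?xq9005 → (List ℕ)) ?hq9005; (case hq9005 => (set_option maxRecDepth 1000000 in set_option simprocs false in conv => lhs; reduce; dsimp only)); intro _; exact ?xq9005 y3 : List ℕ)

/-- left side -/
def nAL : List ℕ := (nuW.reverse ++ [11] ++ nuW).reverse ++ [11] ++ (nuW.reverse ++ [11] ++ nuW)
/-- right side -/
def nAR : List ℕ := [4, 3, 4] ++ rep 9 f1a ++ nvW.reverse ++ [11] ++ nvW ++ rep 9 f1a ++ [4, 3, 4]

private theorem _root_.Cfsg.Agent.KO190af8a.e1.{ku, kv} {α : Type kv} {M : List α → Sort ku} (φ : ∀ l, M l) {z : M List.nil} {s : ∀ a l, M l → M (List.cons a l)} (h0 : φ List.nil = z) (hs : ∀ a l, φ (List.cons a l) = s a l (φ l)) (l : List α) : φ l = @List.rec α M z s l := List.rec h0 (fun a l ih => (hs a l).trans (congrArg (s a l) ih)) l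
private noncomputable def _root_.Cfsg.Agent.KO190af8a.k6 : ((x0 : @Nat) → ((x1 : @Nat) → @Decidable (@Eq.{1} @Nat @x0 @x1))) := @(fun (x0 : @Nat) (x1 : @Nat) => @Bool.rec.{1} @(fun (x2 : @Bool) => ((@Eq.{1} @Bool (@Nat.beq @x0 @x1) @x2) → @Decidable (@Eq.{1} @Nat @x0 @x1))) @(fun (x2 : @Eq.{1} @Bool (@Nat.beq @x0 @x1) @Bool.false) => @Decidable.isFalse (@Eq.{1} @Nat @x0 @x1) (@Nat.ne_of_beq_eq_false @x0 @x1 @x2)) @(fun (x2 : @Eq.{1} @Bool (@Nat.beq @x0 @x1) @Bool.true) => @Decidable.isTrue (@Eq.{1} @Nat @x0 @x1) (@Nat.eq_of_beq_eq_true @x0 @x1 @x2)) (@Nat.beq @x0 @x1) (@Eq.refl.{1} @Bool (@Nat.beq @x0 @x1)))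
private theorem _root_.Cfsg.Agent.KO190af8a.e6 : @Nat.decEq = @_root_.Cfsg.Agent.KO190af8a.k6 := by delta _root_.Cfsg.Agent.KO190af8a.k6; rfl'
private noncomputable def _root_.Cfsg.Agent.KO190af8a.k7 : (by first | exact type_of% @Cfsg.Agent.Bimonster.par | exact Unit : Sort _) := by first | (refine @Subtype.val _ (fun g => @Cfsg.Agent.Bimonster.par = @g) (@Subtype.mk _ _ (@(fun (x0 : @Nat) => @Nat.mod (@Nat.shiftRight @Cfsg.Agent.Bimonster.parN (@Nat.mul (nat_lit 5) @x0)) (nat_lit 32))) ?_); (try delta Cfsg.Agent.Bimonster.par); (try generalize @Cfsg.Agent.Bimonster.parN = g0); rfl') | exact @Cfsg.Agent.Bimonster.par | exact ()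
private theorem _root_.Cfsg.Agent.KO190af8a.e7 : (by first | exact @Cfsg.Agent.Bimonster.par = @_root_.Cfsg.Agent.KO190af8a.k7 | exact True : Prop) := by first | (delta _root_.Cfsg.Agent.KO190af8a.k7; exact @Subtype.property _ (fun g => @Cfsg.Agent.Bimonster.par = @g) _) | rfl | trivial
private noncomputable def _root_.Cfsg.Agent.KO190af8a.k8 : (by first | exact type_of% @Cfsg.Agent.Bimonster.adjB | exact Unit : Sort _) := by first | (refine @Subtype.val _ (fun g => @Cfsg.Agent.Bimonster.adjB = @g) (@Subtype.mk _ _ (@(fun (x0 : @Nat) (x1 : @Nat) => @Bool.rec.{1} @(fun (x2 : @Bool) => @Bool) (@Nat.beq (@Cfsg.Agent.KO190af8a.k7 @x1) @x0) @Bool.true (@Nat.beq (@Cfsg.Agent.KO190af8a.k7 @x0) @x1))) ?_); rewrite [← Cfsg.Agent.KO190af8a.e7]; (try delta Cfsg.Agent.Bimonster.adjB); (try generalize @Cfsg.Agent.Bimonster.par = g0); rfl') | exact @Cfsg.Agent.Bimonster.adjB | exact ()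
private theorem _root_.Cfsg.Agent.KO190af8a.e8 : (by first | exact @Cfsg.Agent.Bimonster.adjB = @_root_.Cfsg.Agent.KO190af8a.k8 | exact True : Prop) := by first | (delta _root_.Cfsg.Agent.KO190af8a.k8; exact @Subtype.property _ (fun g => @Cfsg.Agent.Bimonster.adjB = @g) _) | rfl | trivial
private noncomputable def _root_.Cfsg.Agent.KO190af8a.k15.{ku0} : ((x0 : Sort (ku0+1)) → ((@List.{ku0} @x0) → ((@List.{ku0} @x0) → @List.{ku0} @x0))) := @(fun (x0 : Sort (ku0+1)) (x1 : @List.{ku0} @x0) (x2 : @List.{ku0} @x0) => @List.rec.{(ku0+1), ku0} @x0 @(fun (x3 : @List.{ku0} @x0) => ((@List.{ku0} @x0) → @List.{ku0} @x0)) @(fun (x3 : @List.{ku0} @x0) => x3) @(fun (x3 : x0) (x4 : @List.{ku0} @x0) (x5 : ((@List.{ku0} @x0) → @List.{ku0} @x0)) (x6 : @List.{ku0} @x0) => @x5 (@List.cons.{ku0} @x0 @x3 @x6)) @x1 @x2)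
private theorem _root_.Cfsg.Agent.KO190af8a.e15.{ku0} : @List.reverseAux.{ku0} = @_root_.Cfsg.Agent.KO190af8a.k15.{ku0} := by delta _root_.Cfsg.Agent.KO190af8a.k15; funext a0 a1 a2; refine (congrFun (_root_.Cfsg.Agent.KO190af8a.e1 (fun a1 a2 => @List.reverseAux.{ku0} a0 a1 a2) ?_ (fun c0 c1 => ?_) a1) a2 :) <;> (rfl')
private noncomputable def _root_.Cfsg.Agent.KO190af8a.k16.{ku0} : ((x0 : Sort (ku0+1)) → ((@List.{ku0} @x0) → @List.{ku0} @x0)) := @(fun (x0 : Sort (ku0+1)) (x1 : @List.{ku0} @x0) => @Cfsg.Agent.KO190af8a.k15.{ku0} @x0 @x1 (@List.nil.{ku0} @x0))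
private theorem _root_.Cfsg.Agent.KO190af8a.e16.{ku0} : @List.reverse.{ku0} = @_root_.Cfsg.Agent.KO190af8a.k16.{ku0} := by delta _root_.Cfsg.Agent.KO190af8a.k16; rewrite [← Cfsg.Agent.KO190af8a.e15.{ku0}]; rfl'
private noncomputable def _root_.Cfsg.Agent.KO190af8a.oEq.{ku} (α : Sort ku) (a b : Nat) (f t : α) : α := @Decidable.rec (a = b) (fun _ => α) (fun _ => f) (fun _ => t) (Nat.decEq a b)
private noncomputable def _root_.Cfsg.Agent.KO190af8a.k17.{ku} (α : Sort ku) (a b : Nat) (f t : α) : α := @Bool.rec (fun _ => α) f t (Nat.beq a b)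
private theorem _root_.Cfsg.Agent.KO190af8a.e17.{ku} : @_root_.Cfsg.Agent.KO190af8a.oEq.{ku} = @_root_.Cfsg.Agent.KO190af8a.k17.{ku} := funext fun α => funext fun a => funext fun b => funext fun f => funext fun t => by delta _root_.Cfsg.Agent.KO190af8a.oEq _root_.Cfsg.Agent.KO190af8a.k17; cases h : Nat.beq a b <;> cases Nat.decEq a b <;> rename_i g <;> first | rfl | exact absurd g (Nat.ne_of_beq_eq_false h) | exact absurd (Nat.eq_of_beq_eq_true h) g
private theorem _root_.Cfsg.Agent.KO190af8a.e18.{ku} {M : Nat → Sort ku} (φ : ∀ n, M n) {z : M Nat.zero} {s : ∀ n, M n → M (Nat.succ n)} (h0 : φ Nat.zero = z) (hs : ∀ n, φ (Nat.succ n) = s n (φ n)) (n : Nat) : φ n = @Nat.rec M z s n := Nat.rec h0 (fun n ih => (hs n).trans (congrArg (s n) ih)) n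
private noncomputable def _root_.Cfsg.Agent.KO190af8a.oB.{ku} (α : Sort ku) (c : Bool) (f t : α) : α := @Decidable.rec (c = true) (fun _ => α) (fun _ => f) (fun _ => t) (instDecidableEqBool c true)
private noncomputable def _root_.Cfsg.Agent.KO190af8a.k19.{ku} (α : Sort ku) (c : Bool) (f t : α) : α := @Bool.rec (fun _ => α) f t c
private theorem _root_.Cfsg.Agent.KO190af8a.e19.{ku} : @_root_.Cfsg.Agent.KO190af8a.oB.{ku} = @_root_.Cfsg.Agent.KO190af8a.k19.{ku} := funext fun α => funext fun c => funext fun f => funext fun t => by cases c <;> rfl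
private noncomputable def _root_.Cfsg.Agent.KO190af8a.k20 : (by first | exact type_of% @Cfsg.Agent.Bimonster.Tits.head | exact Unit : Sort _) := by first | (refine @Subtype.val _ (fun g => @Cfsg.Agent.Bimonster.Tits.head = @g) (@Subtype.mk _ _ (@(fun (x0 : @Cfsg.Agent.Bimonster.Tits.Rules) (x1 : @Nat) (x2 : @List.{0} @Nat) => @Decidable.rec.{1} (@Eq.{1} @Nat @x1 (@OfNat.ofNat.{0} @Nat (nat_lit 0) (@instOfNatNat (nat_lit 0)))) @(fun (x3 : @Decidable (@Eq.{1} @Nat @x1 (@OfNat.ofNat.{0} @Nat (nat_lit 0) (@instOfNatNat (nat_lit 0))))) => @Option.{0} (@List.{0} @Nat)) @(fun (x3 : @Not (@Eq.{1} @Nat @x1 (@OfNat.ofNat.{0} @Nat (nat_lit 0) (@instOfNatNat (nat_lit 0))))) => @Decidable.rec.{1} (@Eq.{1} @Nat @x1 (@OfNat.ofNat.{0} @Nat (nat_lit 1) (@instOfNatNat (nat_lit 1)))) @(fun (x4 : @Decidable (@Eq.{1} @Nat @x1 (@OfNat.ofNat.{0} @Nat (nat_lit 1) (@instOfNatNat (nat_lit 1))))) => @Option.{0} (@List.{0} @Nat)) @(fun (x4 : @Not (@Eq.{1} @Nat @x1 (@OfNat.ofNat.{0}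 @Nat (nat_lit 1) (@instOfNatNat (nat_lit 1))))) => @Decidable.rec.{1} (@Eq.{1} @Nat @x1 (@OfNat.ofNat.{0} @Nat (nat_lit 2) (@instOfNatNat (nat_lit 2)))) @(fun (x5 : @Decidable (@Eq.{1} @Nat @x1 (@OfNat.ofNat.{0} @Nat (nat_lit 2) (@instOfNatNat (nat_lit 2))))) => @Option.{0} (@List.{0} @Nat)) @(fun (x5 : @Not (@Eq.{1} @Nat @x1 (@OfNat.ofNat.{0} @Nat (nat_lit 2) (@instOfNatNat (nat_lit 2))))) => @Option.none.{0} (@List.{0} @Nat)) @(fun (x5 : @Eq.{1} @Nat @x1 (@OfNat.ofNat.{0} @Nat (nat_lit 2) (@instOfNatNat (nat_lit 2)))) => @Eq.rec.{1, 1} @Nat (nat_lit 2) @(fun (x6 : @Nat) (x7 : @Eq.{1} @Nat (@OfNat.ofNat.{0} @Nat (nat_lit 2) (@instOfNatNat (nat_lit 2))) @x6) => @Option.{0} (@List.{0} @Nat)) (@List.rec.{1, 0} @Nat @(fun (x6 : @List.{0} @Nat) => (((@Nat.hasNotBit (nat_lit 2) (@List.ctorIdx.{0} @Nat @x6)) → @Option.{0} (@List.{0} @Nat)) → @Option.{0} (@List.{0} @Nat))) @(fun (x6 : ((@Nat.hasNotBit (nat_lit 2) (@List.ctorIdx.{0} @Nat (@List.nil.{0} @Nat)))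 → @Option.{0} (@List.{0} @Nat))) => @x6 (@Nat.ne_of_beq_eq_false (@Nat.land (@OfNat.ofNat.{0} @Nat (nat_lit 1) (@instOfNatNat (nat_lit 1))) (@Nat.shiftRight (nat_lit 2) (nat_lit 0))) (@OfNat.ofNat.{0} @Nat (nat_lit 1) (@instOfNatNat (nat_lit 1))) (@Eq.refl.{1} @Bool @Bool.false))) @(fun (x6 : @Nat) (x7 : @List.{0} @Nat) (x8 : (((@Nat.hasNotBit (nat_lit 2) (@List.ctorIdx.{0} @Nat @x7)) → @Option.{0} (@List.{0} @Nat)) → @Option.{0} (@List.{0} @Nat))) (x9 : ((@Nat.hasNotBit (nat_lit 2) (@List.ctorIdx.{0} @Nat (@List.cons.{0} @Nat @x6 @x7))) → @Option.{0} (@List.{0} @Nat))) => @List.rec.{1, 0} @Nat @(fun (x10 : @List.{0} @Nat) => (((@Nat.hasNotBit (nat_lit 2) (@List.ctorIdx.{0} @Nat @x10)) → @Option.{0} (@List.{0} @Nat)) → @Option.{0} (@List.{0} @Nat))) @(fun (x10 : ((@Nat.hasNotBit (nat_lit 2) (@List.ctorIdx.{0} @Nat (@List.nil.{0} @Nat))) → @Option.{0} (@List.{0} @Nat))) => @x10 (@Nat.ne_of_beq_eq_false (@Nat.land (@OfNat.ofNat.{0} @Nat (nat_lit 1) (@instOfNatNat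 (nat_lit 1))) (@Nat.shiftRight (nat_lit 2) (nat_lit 0))) (@OfNat.ofNat.{0} @Nat (nat_lit 1) (@instOfNatNat (nat_lit 1))) (@Eq.refl.{1} @Bool @Bool.false))) @(fun (x10 : @Nat) (x11 : @List.{0} @Nat) (x12 : (((@Nat.hasNotBit (nat_lit 2) (@List.ctorIdx.{0} @Nat @x11)) → @Option.{0} (@List.{0} @Nat)) → @Option.{0} (@List.{0} @Nat))) (x13 : ((@Nat.hasNotBit (nat_lit 2) (@List.ctorIdx.{0} @Nat (@List.cons.{0} @Nat @x10 @x11))) → @Option.{0} (@List.{0} @Nat))) => @List.rec.{1, 0} @Nat @(fun (x14 : @List.{0} @Nat) => (((@Nat.hasNotBit (nat_lit 2) (@List.ctorIdx.{0} @Nat @x14)) → @Option.{0} (@List.{0} @Nat)) → @Option.{0} (@List.{0} @Nat))) @(fun (x14 : ((@Nat.hasNotBit (nat_lit 2) (@List.ctorIdx.{0} @Nat (@List.nil.{0} @Nat))) → @Option.{0} (@List.{0} @Nat))) => @x14 (@Nat.ne_of_beq_eq_false (@Nat.land (@OfNat.ofNat.{0} @Nat (nat_lit 1) (@instOfNatNat (nat_lit 1))) (@Nat.shiftRight (nat_lit 2) (nat_lit 0))) (@OfNat.ofNat.{0} @Nat (nat_lit 1) (@instOfNatNat (nat_lit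 1))) (@Eq.refl.{1} @Bool @Bool.false))) @(fun (x14 : @Nat) (x15 : @List.{0} @Nat) (x16 : (((@Nat.hasNotBit (nat_lit 2) (@List.ctorIdx.{0} @Nat @x15)) → @Option.{0} (@List.{0} @Nat)) → @Option.{0} (@List.{0} @Nat))) (x17 : ((@Nat.hasNotBit (nat_lit 2) (@List.ctorIdx.{0} @Nat (@List.cons.{0} @Nat @x14 @x15))) → @Option.{0} (@List.{0} @Nat))) => @Cfsg.Agent.KO190af8a.k19.{1} (@Option.{0} (@List.{0} @Nat)) (@Bool.rec.{1} @(fun (x18 : @Bool) => @Bool) @Bool.false (@Cfsg.Agent.Bimonster.Tits.Rules.br @x0 @x6 @x10) (@Nat.beq @x6 @x14)) (@Option.none.{0} (@List.{0} @Nat)) (@Option.some.{0} (@List.{0} @Nat) (@List.cons.{0} @Nat @x10 (@List.cons.{0} @Nat @x6 (@List.cons.{0} @Nat @x10 @x15))))) @x11 @(fun (x14 : @Nat.hasNotBit (nat_lit 2) (@List.ctorIdx.{0} @Nat @x11)) => @Option.none.{0} (@List.{0} @Nat))) @x7 @(fun (x10 : @Nat.hasNotBit (nat_lit 2) (@List.ctorIdx.{0} @Nat @x7)) => @Option.none.{0} (@List.{0} @Nat))) @x2 @(fun (x6 : @Nat.hasNotBit (nat_lit 2) (@List.ctorIdx.{0}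 @Nat @x2)) => @Option.none.{0} (@List.{0} @Nat))) @x1 (@Eq.symm.{1} @Nat @x1 (@OfNat.ofNat.{0} @Nat (nat_lit 2) (@instOfNatNat (nat_lit 2))) @x5)) (@Cfsg.Agent.KO190af8a.k6 @x1 (nat_lit 2))) @(fun (x4 : @Eq.{1} @Nat @x1 (@OfNat.ofNat.{0} @Nat (nat_lit 1) (@instOfNatNat (nat_lit 1)))) => @Eq.rec.{1, 1} @Nat (nat_lit 1) @(fun (x5 : @Nat) (x6 : @Eq.{1} @Nat (@OfNat.ofNat.{0} @Nat (nat_lit 1) (@instOfNatNat (nat_lit 1))) @x5) => @Option.{0} (@List.{0} @Nat)) (@List.rec.{1, 0} @Nat @(fun (x5 : @List.{0} @Nat) => (((@Nat.hasNotBit (nat_lit 2) (@List.ctorIdx.{0} @Nat @x5)) → @Option.{0} (@List.{0} @Nat)) → @Option.{0} (@List.{0} @Nat))) @(fun (x5 : ((@Nat.hasNotBit (nat_lit 2) (@List.ctorIdx.{0} @Nat (@List.nil.{0} @Nat))) → @Option.{0} (@List.{0} @Nat))) => @x5 (@Nat.ne_of_beq_eq_false (@Nat.land (@OfNat.ofNat.{0} @Nat (nat_lit 1) (@instOfNatNat (nat_lit 1))) (@Nat.shiftRight (nat_lit 2) (nat_lit 0))) (@OfNat.ofNat.{0} @Nat (nat_lit 1) (@instOfNatNat (nat_lit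 1))) (@Eq.refl.{1} @Bool @Bool.false))) @(fun (x5 : @Nat) (x6 : @List.{0} @Nat) (x7 : (((@Nat.hasNotBit (nat_lit 2) (@List.ctorIdx.{0} @Nat @x6)) → @Option.{0} (@List.{0} @Nat)) → @Option.{0} (@List.{0} @Nat))) (x8 : ((@Nat.hasNotBit (nat_lit 2) (@List.ctorIdx.{0} @Nat (@List.cons.{0} @Nat @x5 @x6))) → @Option.{0} (@List.{0} @Nat))) => @List.rec.{1, 0} @Nat @(fun (x9 : @List.{0} @Nat) => (((@Nat.hasNotBit (nat_lit 2) (@List.ctorIdx.{0} @Nat @x9)) → @Option.{0} (@List.{0} @Nat)) → @Option.{0} (@List.{0} @Nat))) @(fun (x9 : ((@Nat.hasNotBit (nat_lit 2) (@List.ctorIdx.{0} @Nat (@List.nil.{0} @Nat))) → @Option.{0} (@List.{0} @Nat))) => @x9 (@Nat.ne_of_beq_eq_false (@Nat.land (@OfNat.ofNat.{0} @Nat (nat_lit 1) (@instOfNatNat (nat_lit 1))) (@Nat.shiftRight (nat_lit 2) (nat_lit 0))) (@OfNat.ofNat.{0} @Nat (nat_lit 1) (@instOfNatNat (nat_lit 1))) (@Eq.refl.{1} @Bool @Bool.false))) @(fun (x9 : @Nat) (x10 : @List.{0} @Nat) (x11 : (((@Nat.hasNotBit (nat_lit 2) (@List.ctorIdx.{0}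 @Nat @x10)) → @Option.{0} (@List.{0} @Nat)) → @Option.{0} (@List.{0} @Nat))) (x12 : ((@Nat.hasNotBit (nat_lit 2) (@List.ctorIdx.{0} @Nat (@List.cons.{0} @Nat @x9 @x10))) → @Option.{0} (@List.{0} @Nat))) => @Cfsg.Agent.KO190af8a.k19.{1} (@Option.{0} (@List.{0} @Nat)) (@Cfsg.Agent.Bimonster.Tits.Rules.cm @x0 @x5 @x9) (@Option.none.{0} (@List.{0} @Nat)) (@Option.some.{0} (@List.{0} @Nat) (@List.cons.{0} @Nat @x9 (@List.cons.{0} @Nat @x5 @x10)))) @x6 @(fun (x9 : @Nat.hasNotBit (nat_lit 2) (@List.ctorIdx.{0} @Nat @x6)) => @Option.none.{0} (@List.{0} @Nat))) @x2 @(fun (x5 : @Nat.hasNotBit (nat_lit 2) (@List.ctorIdx.{0} @Nat @x2)) => @Option.none.{0} (@List.{0} @Nat))) @x1 (@Eq.symm.{1} @Nat @x1 (@OfNat.ofNat.{0} @Nat (nat_lit 1) (@instOfNatNat (nat_lit 1))) @x4)) (@Cfsg.Agent.KO190af8a.k6 @x1 (nat_lit 1))) @(fun (x3 : @Eq.{1} @Nat @x1 (@OfNat.ofNat.{0} @Nat (nat_lit 0) (@instOfNatNat (nat_lit 0)))) => @Eq.rec.{1, 1} @Nat (nat_lit 0) @(fun (x4 : @Nat) (x5 :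 @Eq.{1} @Nat (@OfNat.ofNat.{0} @Nat (nat_lit 0) (@instOfNatNat (nat_lit 0))) @x4) => @Option.{0} (@List.{0} @Nat)) (@List.rec.{1, 0} @Nat @(fun (x4 : @List.{0} @Nat) => (((@Nat.hasNotBit (nat_lit 2) (@List.ctorIdx.{0} @Nat @x4)) → @Option.{0} (@List.{0} @Nat)) → @Option.{0} (@List.{0} @Nat))) @(fun (x4 : ((@Nat.hasNotBit (nat_lit 2) (@List.ctorIdx.{0} @Nat (@List.nil.{0} @Nat))) → @Option.{0} (@List.{0} @Nat))) => @x4 (@Nat.ne_of_beq_eq_false (@Nat.land (@OfNat.ofNat.{0} @Nat (nat_lit 1) (@instOfNatNat (nat_lit 1))) (@Nat.shiftRight (nat_lit 2) (nat_lit 0))) (@OfNat.ofNat.{0} @Nat (nat_lit 1) (@instOfNatNat (nat_lit 1))) (@Eq.refl.{1} @Bool @Bool.false))) @(fun (x4 : @Nat) (x5 : @List.{0} @Nat) (x6 : (((@Nat.hasNotBit (nat_lit 2) (@List.ctorIdx.{0} @Nat @x5)) → @Option.{0} (@List.{0} @Nat)) → @Option.{0} (@List.{0} @Nat))) (x7 : ((@Nat.hasNotBit (nat_lit 2) (@List.ctorIdx.{0} @Nat (@List.cons.{0} @Nat @x4 @x5))) → @Option.{0} (@List.{0} @Nat))) => @List.rec.{1,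 0} @Nat @(fun (x8 : @List.{0} @Nat) => (((@Nat.hasNotBit (nat_lit 2) (@List.ctorIdx.{0} @Nat @x8)) → @Option.{0} (@List.{0} @Nat)) → @Option.{0} (@List.{0} @Nat))) @(fun (x8 : ((@Nat.hasNotBit (nat_lit 2) (@List.ctorIdx.{0} @Nat (@List.nil.{0} @Nat))) → @Option.{0} (@List.{0} @Nat))) => @x8 (@Nat.ne_of_beq_eq_false (@Nat.land (@OfNat.ofNat.{0} @Nat (nat_lit 1) (@instOfNatNat (nat_lit 1))) (@Nat.shiftRight (nat_lit 2) (nat_lit 0))) (@OfNat.ofNat.{0} @Nat (nat_lit 1) (@instOfNatNat (nat_lit 1))) (@Eq.refl.{1} @Bool @Bool.false))) @(fun (x8 : @Nat) (x9 : @List.{0} @Nat) (x10 : (((@Nat.hasNotBit (nat_lit 2) (@List.ctorIdx.{0} @Nat @x9)) → @Option.{0} (@List.{0} @Nat)) → @Option.{0} (@List.{0} @Nat))) (x11 : ((@Nat.hasNotBit (nat_lit 2) (@List.ctorIdx.{0} @Nat (@List.cons.{0} @Nat @x8 @x9))) → @Option.{0} (@List.{0} @Nat))) => @Cfsg.Agent.KO190af8a.k19.{1} (@Option.{0} (@List.{0} @Nat)) (@Bool.rec.{1} @(fun (x12 : @Bool) => @Bool) @Bool.false (@Cfsg.Agent.Bimonster.Tits.Rules.sq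 @x0 @x4) (@Nat.beq @x4 @x8)) (@Option.none.{0} (@List.{0} @Nat)) (@Option.some.{0} (@List.{0} @Nat) @x9)) @x5 @(fun (x8 : @Nat.hasNotBit (nat_lit 2) (@List.ctorIdx.{0} @Nat @x5)) => @Option.none.{0} (@List.{0} @Nat))) @x2 @(fun (x4 : @Nat.hasNotBit (nat_lit 2) (@List.ctorIdx.{0} @Nat @x2)) => @Option.none.{0} (@List.{0} @Nat))) @x1 (@Eq.symm.{1} @Nat @x1 (@OfNat.ofNat.{0} @Nat (nat_lit 0) (@instOfNatNat (nat_lit 0))) @x3)) (@Cfsg.Agent.KO190af8a.k6 @x1 (nat_lit 0)))) ?_); rewrite [← Cfsg.Agent.KO190af8a.e19.{1}, ← Cfsg.Agent.KO190af8a.e6]; rfl') | exact @Cfsg.Agent.Bimonster.Tits.head | exact ()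
private theorem _root_.Cfsg.Agent.KO190af8a.e20 : (by first | exact @Cfsg.Agent.Bimonster.Tits.head = @_root_.Cfsg.Agent.KO190af8a.k20 | exact True : Prop) := by first | (delta _root_.Cfsg.Agent.KO190af8a.k20; exact @Subtype.property _ (fun g => @Cfsg.Agent.Bimonster.Tits.head = @g) _) | rfl | trivial
private noncomputable def _root_.Cfsg.Agent.KO190af8a.k22 : (by first | exact type_of% @Cfsg.Agent.Bimonster.Tits.step | exact Unit : Sort _) := by first | (refine @Subtype.val _ (fun g => @Cfsg.Agent.Bimonster.Tits.step = @g) (@Subtype.mk _ _ (@(fun (x0 : @Cfsg.Agent.Bimonster.Tits.Rules) (x1 : @Nat) (x2 : @Nat) (x3 : @List.{0} @Nat) => @Nat.rec.{1} @(fun (x4 : @Nat) => ((@List.{0} @Nat) → @Option.{0} (@List.{0} @Nat))) @(fun (x4 : @List.{0} @Nat) => @Cfsg.Agent.KO190af8a.k20 @x0 @x1 @x4) @(fun (x4 : @Nat) (x5 : ((@List.{0} @Nat) → @Option.{0} (@List.{0} @Nat))) (x6 : @List.{0} @Nat) => @List.rec.{1, 0} @Nat @(fun (x7 : @List.{0} @Nat) => @Option.{0} (@List.{0}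 @Nat)) (@Option.none.{0} (@List.{0} @Nat)) @(fun (x7 : @Nat) (x8 : @List.{0} @Nat) (x9 : @Option.{0} (@List.{0} @Nat)) => @Option.rec.{1, 0} (@List.{0} @Nat) @(fun (x10 : @Option.{0} (@List.{0} @Nat)) => @Option.{0} (@List.{0} @Nat)) (@Option.none.{0} (@List.{0} @Nat)) @(fun (x10 : @List.{0} @Nat) => @Option.some.{0} (@List.{0} @Nat) (@List.cons.{0} @Nat @x7 @x10)) (@x5 @x8)) @x6) @x2 @x3)) ?_); rewrite [← Cfsg.Agent.KO190af8a.e20]; funext a0 a1 a2 a3; refine (congrFun (_root_.Cfsg.Agent.KO190af8a.e18 (fun a2 a3 => @Cfsg.Agent.Bimonster.Tits.step a0 a1 a2 a3) ?_ (fun c0 => ?_) a2) a3 :) <;> [(funext b0; ((try delta Cfsg.Agent.Bimonster.Tits.step Cfsg.Agent.Bimonster.Tits.step._f); (try generalize @Cfsg.Agent.Bimonster.Tits.head = g0); rfl')); (funext b0; (cases b0 with | @nil  => ((try delta Cfsg.Agent.Bimonster.Tits.step Cfsg.Agent.Bimonster.Tits.step._f); (try generalize @Cfsg.Agent.Bimonster.Tits.head = g0); rfl') | @cons b0_0 b0_1 => ((try delta Cfsg.Agent.Bimonster.Tits.step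 Cfsg.Agent.Bimonster.Tits.step._f); (try generalize @Cfsg.Agent.Bimonster.Tits.head = g0); rfl')))]) | exact @Cfsg.Agent.Bimonster.Tits.step | exact ()
private theorem _root_.Cfsg.Agent.KO190af8a.e22 : (by first | exact @Cfsg.Agent.Bimonster.Tits.step = @_root_.Cfsg.Agent.KO190af8a.k22 | exact True : Prop) := by first | (delta _root_.Cfsg.Agent.KO190af8a.k22; exact @Subtype.property _ (fun g => @Cfsg.Agent.Bimonster.Tits.step = @g) _) | rfl | trivial
private noncomputable def _root_.Cfsg.Agent.KO190af8a.k23 : (by first | exact type_of% @Cfsg.Agent.Bimonster.Tits.run | exact Unit : Sort _) := by first | (refine @Subtype.val _ (fun g => @Cfsg.Agent.Bimonster.Tits.run = @g) (@Subtype.mk _ _ (@(fun (x0 : @Cfsg.Agent.Bimonster.Tits.Rules) (x1 : @List.{0} @Nat) (x2 : @Nat) (x3 : @List.{0} @Nat) => @List.rec.{1, 0} @Nat @(fun (x4 : @List.{0} @Nat) => (@Nat → ((@List.{0} @Nat) → @Option.{0} (@Prod.{0, 0} @Nat (@List.{0} @Nat))))) @(fun (x4 : @Nat) (x5 : @List.{0}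 @Nat) => @Option.some.{0} (@Prod.{0, 0} @Nat (@List.{0} @Nat)) (@Prod.mk.{0, 0} @Nat (@List.{0} @Nat) @x4 @x5)) @(fun (x4 : @Nat) (x5 : @List.{0} @Nat) (x6 : (@Nat → ((@List.{0} @Nat) → @Option.{0} (@Prod.{0, 0} @Nat (@List.{0} @Nat))))) (x7 : @Nat) (x8 : @List.{0} @Nat) => @Option.rec.{1, 0} (@List.{0} @Nat) @(fun (x9 : @Option.{0} (@List.{0} @Nat)) => @Option.{0} (@Prod.{0, 0} @Nat (@List.{0} @Nat))) (@Option.none.{0} (@Prod.{0, 0} @Nat (@List.{0} @Nat))) @(fun (x9 : @List.{0} @Nat) => @x6 (@Cfsg.Agent.KO190af8a.k17.{1} @Nat (@Nat.mod @x4 (nat_lit 3)) (nat_lit 0) @x7 (@Nat.add @x7 (nat_lit 1))) @x9) (@Cfsg.Agent.KO190af8a.k22 @x0 (@Nat.mod @x4 (nat_lit 3)) (@Nat.div @x4 (nat_lit 3)) @x8)) @x1 @x2 @x3)) ?_); rewrite [← Cfsg.Agent.KO190af8a.e17.{1}, ← Cfsg.Agent.KO190af8a.e22]; funext a0 a1 a2 a3; refine (congrFun (congrFun (_root_.Cfsg.Agent.KO190af8a.e1 (fun a1 a2 a3 => @Cfsg.Agent.Bimonster.Tits.run a0 a1 a2 a3) ?_ (fun c0 c1 => ?_) a1) a2) a3 :) <;>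 ((try delta Cfsg.Agent.Bimonster.Tits.run Cfsg.Agent.Bimonster.Tits.run._f); (try generalize @Cfsg.Agent.Bimonster.Tits.step = g0); rfl')) | exact @Cfsg.Agent.Bimonster.Tits.run | exact ()
private theorem _root_.Cfsg.Agent.KO190af8a.e23 : (by first | exact @Cfsg.Agent.Bimonster.Tits.run = @_root_.Cfsg.Agent.KO190af8a.k23 | exact True : Prop) := by first | (delta _root_.Cfsg.Agent.KO190af8a.k23; exact @Subtype.property _ (fun g => @Cfsg.Agent.Bimonster.Tits.run = @g) _) | rfl | trivial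
private noncomputable def _root_.Cfsg.Agent.KO190af8a.k24 : (by first | exact type_of% @Cfsg.Agent.Bimonster.rules | exact Unit : Sort _) := by first | (refine @Subtype.val _ (fun g => @Cfsg.Agent.Bimonster.rules = @g) (@Subtype.mk _ _ (@(fun (x0 : @Nat) => @Cfsg.Agent.Bimonster.Tits.Rules.mk @(fun (x1 : @Nat) => @Nat.ble (@Nat.succ @x1) @x0) @(fun (x1 : @Nat) (x2 : @Nat) => @Bool.rec.{1} @(fun (x3 : @Bool) => @Bool) @Bool.false (@Bool.rec.{1} @(fun (x3 : @Bool) => @Bool) @Bool.true @Bool.false (@Cfsg.Agent.KO190af8a.k8 @x1 @x2)) (@Bool.rec.{1} @(fun (x3 : @Bool) => @Bool) @Bool.false (@Nat.ble (@Nat.succ @x2) @x0) (@Nat.ble (@Nat.succ @x1) @x0))) @(fun (x1 : @Nat) (x2 : @Nat) => @Bool.rec.{1} @(fun (x3 : @Bool) => @Bool) @Bool.false (@Cfsg.Agent.KO190af8a.k8 @x1 @x2) (@Bool.rec.{1} @(fun (x3 : @Bool) => @Bool) @Bool.false (@Nat.ble (@Nat.succ @x2) @x0) (@Nat.ble (@Nat.succ @x1) @x0))))) ?_); rewrite [← Cfsg.Agent.KO190af8a.e8]; (try delta Cfsg.Agent.Bimonster.rules);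 (try generalize @Cfsg.Agent.Bimonster.adjB = g0); rfl') | exact @Cfsg.Agent.Bimonster.rules | exact ()
private theorem _root_.Cfsg.Agent.KO190af8a.e24 : (by first | exact @Cfsg.Agent.Bimonster.rules = @_root_.Cfsg.Agent.KO190af8a.k24 | exact True : Prop) := by first | (delta _root_.Cfsg.Agent.KO190af8a.k24; exact @Subtype.property _ (fun g => @Cfsg.Agent.Bimonster.rules = @g) _) | rfl | trivial
private noncomputable def _root_.Cfsg.Agent.KO190af8a.k25 : (by first | exact type_of% @Cfsg.Agent.Bimonster.nilB | exact Unit : Sort _) := by first | (refine @Subtype.val _ (fun g => @Cfsg.Agent.Bimonster.nilB = @g) (@Subtype.mk _ _ (@(fun (x0 : @Nat) (x1 : @List.{0} @Nat) (x2 : @List.{0} @Nat) => @Option.rec.{1, 0} (@Prod.{0, 0} @Nat (@List.{0} @Nat)) @(fun (x3 : @Option.{0} (@Prod.{0, 0} @Nat (@List.{0} @Nat))) => (((@Nat.hasNotBit (nat_lit 2) (@Option.ctorIdx.{0} (@Prod.{0, 0} @Nat (@List.{0} @Nat)) @x3)) → @Bool) → @Bool)) @(fun (x3 : ((@Nat.hasNotBit (nat_lit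 2) (@Option.ctorIdx.{0} (@Prod.{0, 0} @Nat (@List.{0} @Nat)) (@Option.none.{0} (@Prod.{0, 0} @Nat (@List.{0} @Nat))))) → @Bool)) => @x3 (@Nat.ne_of_beq_eq_false (@Nat.land (@OfNat.ofNat.{0} @Nat (nat_lit 1) (@instOfNatNat (nat_lit 1))) (@Nat.shiftRight (nat_lit 2) (nat_lit 0))) (@OfNat.ofNat.{0} @Nat (nat_lit 1) (@instOfNatNat (nat_lit 1))) (@Eq.refl.{1} @Bool @Bool.false))) @(fun (x3 : @Prod.{0, 0} @Nat (@List.{0} @Nat)) (x4 : ((@Nat.hasNotBit (nat_lit 2) (@Option.ctorIdx.{0} (@Prod.{0, 0} @Nat (@List.{0} @Nat)) (@Option.some.{0} (@Prod.{0, 0} @Nat (@List.{0} @Nat)) @x3))) → @Bool)) => @Prod.rec.{1, 0, 0} @Nat (@List.{0} @Nat) @(fun (x5 : @Prod.{0, 0} @Nat (@List.{0} @Nat)) => @Bool) @(fun (x5 : @Nat) (x6 : @List.{0} @Nat) => @List.rec.{1, 0} @Nat @(fun (x7 : @List.{0} @Nat) => (((@Nat.hasNotBit (nat_lit 1) (@List.ctorIdx.{0} @Nat @x7)) → @Bool) → @Bool)) @(fun (x7 : ((@Nat.hasNotBit (nat_lit 1) (@List.ctorIdx.{0} @Nat (@List.nil.{0} @Nat))) → @Bool))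 => @Bool.true) @(fun (x7 : @Nat) (x8 : @List.{0} @Nat) (x9 : (((@Nat.hasNotBit (nat_lit 1) (@List.ctorIdx.{0} @Nat @x8)) → @Bool) → @Bool)) (x10 : ((@Nat.hasNotBit (nat_lit 1) (@List.ctorIdx.{0} @Nat (@List.cons.{0} @Nat @x7 @x8))) → @Bool)) => @x10 (@Nat.ne_of_beq_eq_false (@Nat.land (@OfNat.ofNat.{0} @Nat (nat_lit 1) (@instOfNatNat (nat_lit 1))) (@Nat.shiftRight (nat_lit 1) (nat_lit 1))) (@OfNat.ofNat.{0} @Nat (nat_lit 1) (@instOfNatNat (nat_lit 1))) (@Eq.refl.{1} @Bool @Bool.false))) @x6 @(fun (x7 : @Nat.hasNotBit (nat_lit 1) (@List.ctorIdx.{0} @Nat @x6)) => @Bool.false)) @x3) (@Cfsg.Agent.KO190af8a.k23 (@Cfsg.Agent.KO190af8a.k24 @x0) @x1 (nat_lit 0) @x2) @(fun (x3 : @Nat.hasNotBit (nat_lit 2) (@Option.ctorIdx.{0} (@Prod.{0, 0} @Nat (@List.{0} @Nat)) (@Cfsg.Agent.KO190af8a.k23 (@Cfsg.Agent.KO190af8a.k24 @x0) @x1 (@OfNat.ofNat.{0} @Nat (nat_lit 0) (@instOfNatNat (nat_lit 0))) @x2))) => @Bool.false))) ?_); rewrite [← Cfsg.Agent.KO190af8a.e23, ← Cfsg.Agent.KO190af8a.e24];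 (try delta Cfsg.Agent.Bimonster.nilB); (try generalize @Cfsg.Agent.Bimonster.Tits.run = g0); (try generalize @Cfsg.Agent.Bimonster.rules = g1); rfl') | exact @Cfsg.Agent.Bimonster.nilB | exact ()
private theorem _root_.Cfsg.Agent.KO190af8a.e25 : (by first | exact @Cfsg.Agent.Bimonster.nilB = @_root_.Cfsg.Agent.KO190af8a.k25 | exact True : Prop) := by first | (delta _root_.Cfsg.Agent.KO190af8a.k25; exact @Subtype.property _ (fun g => @Cfsg.Agent.Bimonster.nilB = @g) _) | rfl | trivial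

theorem nA_ok : nilB 14 nAC (nAL ++ nAR.reverse) = true := by (first | (delta Cfsg.Agent.MonsterP.NhatData.nAL; rewrite [Cfsg.Agent.KO190af8a.e25, Cfsg.Agent.KO190af8a.e16.{0}]; decide +kernel) | decide +kernel)

/-- the longest element of the `S12` on the path -/
noncomputable def nhW : List ℕ :=
  (by
  refine (?fq9006 : ((pk61l (fun i1 => (pk61d (nat_lit 4) 
    (nat_lit 0x123460123760125434989a7601287601987606789a67896786765432143254345) i1)) (nat_lit 0) (nat_lit 66) List.nil) : List ℕ)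
    = ?xq9006 → (List ℕ)) ?hq9006; (case hq9006 => (set_option maxRecDepth 1000000 in set_option simprocs false in conv => lhs; reduce; dsimp only)); intro _; exact ?xq9006 : List ℕ)
/-- certificate -/
noncomputable def nhSqC : List ℕ :=
  let y0 : List ℕ := (by
  refine (?fq9007 : (pk61l (fun i0 => (pk61d (nat_lit 8) 
    (nat_lit 0x306090c0f1215181b1e1c191613211f1c1924221f27252a2d2b2825221f1c19161310303336322c26201a14100d0a070401191f1c25221f2b282522312e2b2825393734312e2b2825221f1c191613100d0a07043c3f424543404846434b49464e4c49514f4c545257555a585d5b605e6366696c6f726e6a6764615c5855524f4a4643403d3834312e2b26221f1c1914100d0a07040175736e6a6764615c5855524f4a4643403d3834312e2b26221f1c1914100d0a07047876736e6a6764615c5855524f4a4643403d3834312e2b26221f1c1914100d0a077b7976736e6a6764615c5855524f4a4643403d3834312e2b26221f1c1914100d0a7e7c7976736e6a6764615c5855524f4a4643403d3834312e2b26221f1c1914100d25221f1c193734312e2b2825221f1c494643403d3a3734312e2b2825221f5b5855524f4c494643403d3a3734312e2b2825226d6a6764615e5b5855524f4c494643403d3a3734312e2b2825817d7976736e6a67645f5b5855504c4946413d3a37322e2b2884827d7976736e6a67645f5b)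 i0)) (nat_lit 0) (nat_lit 395) List.nil : List ℕ)
    = ?xq9007 → (List ℕ)) ?hq9007; (case hq9007 => (set_option maxRecDepth 1000000 in set_option simprocs false in conv => lhs; reduce; dsimp only)); intro _; exact ?xq9007 : List ℕ)
  let y1 : List ℕ := (by
  refine (?fq9008 : (fun tl : List ℕ => pk61l (fun i0 => (pk61d (nat_lit 8) 
    (nat_lit 0x5855504c4946413d3a37322e2b8785827d7976736e6a67645f5b5855504c4946413d3a37322e8a8885827d7976736e6a67645f5b5855504c4946413d3a3732403d3a374f4c494643403d3a5e5b5855524f4c494643403d6d6a6764615e5b5855524f4c494643407c797673706d6a6764615e5b5855524f4c4946438d8985827d7976716d6a65615e5955524d494643403d3a3734312e2925221f1c191613100d0a2825221f1c191613100d908e8985827d7976716d6a65615e5955524d494643403d3a37342f2b2825221f1c1916132e2b2825221f1c191693918e8985827d7976716d6a65615e5955524d494643403d3a35312e2b2825221f1c34312e2b2825221f4c494643403b5855524f4c4946413d64615e5b5855524f4c474340706d6a6764615e5b5855524d4946437c797673706d6a6764615e5b58534f4c49468885827f7c797673706d6a6764615e5955524f4c4996928e8985807c77736e6a65619997928e8985807c77736e6a656d6a7673706d7f7c797673708885827f7c797673918e8b8885827f7c79769c98928c86807a7673706d6a67625e5b5855524f4c494643403d3a3734312e2b282522615e5b5855524f4c494643403d3a3734312e2b28257f85828b8885918e8b889794918e8b9f9d9a97948f8b8885827d797673706b6764615e5b58534f4c4946413d3a37342f2b)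 i0)) (nat_lit 0) (nat_lit 500) tl)
    = ?xq9008 → (List ℕ)) ?hq9008; (case hq9008 => (set_option maxRecDepth 1000000 in set_option simprocs false in conv => lhs; reduce; dsimp only)); intro _; exact ?xq9008 y0 : List ℕ)
  (by
  refine (?fq9009 : (fun tl : List ℕ => pk61l (fun i0 => (pk61d (nat_lit 8) 
    (nat_lit 0x403d3a3734524f4c494643403d3a37a2a09d9a95918e8b88837f7c7976716d6a6764615e5955524f4a4643403b3734312e293a37494643403d5855524f4c494643a5a3a09b9794918e8985827f7c7773706d6a67645f5b58534f4c4743403d3a37344643403d524f4c49465e5b5855524fa8a6a19d9a97948f8b8885827d797673706d6a65615c58534f4c494643403d3a3732524f4c4946435b5855524f64615e5baba7a3a09d9a95918e8b88837f7c797673706b655f5b5855524f4c494643403d3a5e5b5855524f4c4964615e5b586a67aeaca9a6a19d9a97948f8b8885827d797673706d6a67645f5b5855504c4946413d3ab1afaca7a3a09d9a95918e8b88837f7c797673706d6a65615e5b56524f4c4743403d3834b4b2ada9a6a3a09b9794918e8985827f7c797673706b6764615c5855524d494643b7b5b2afaca7a3a09d9a95918e8b88837f7c797673706d6a65615e5b56524f4c474340bab8b5b2ada9a6a3a09b9794918e8985827f7c797673706b6764615c5855524d4946433e3a37bdbbb8b3afaca9a6a19d9a97948f8b8885827f7c7976716d6a67625e5b58534f4cc0bebbb8b3afaca9a6a19d9a97948f8b8885827f7c7976716d6a67625e5b58534fc3c1bebbb8b3afaca9a6a19d9a97948f8b8885827f7c7976716d6a67625e5b5853a09d9a9794b2afaca9a6a3a09d9a97)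 i0)) (nat_lit 0) (nat_lit 500) tl)
    = ?xq9009 → (List ℕ)) ?hq9009; (case hq9009 => (set_option maxRecDepth 1000000 in set_option simprocs false in conv => lhs; reduce; dsimp only)); intro _; exact ?xq9009 y1 : List ℕ)

theorem nhSq_ok : nilB 14 nhSqC (nhW ++ nhW) = true := by (first | (rewrite [Cfsg.Agent.KO190af8a.e25]; decide +kernel) | decide +kernel)

/-- the arm swap -/
def mir : ℕ → ℕ
  | 0 => 0
  | 1 => 6
  | 2 => 7
  | 3 => 8
  | 4 => 9
  | 5 => 10
  | 6 => 1
  | 7 => 2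
  | 8 => 3
  | 9 => 4
  | 10 => 5
  | n => n

/-- certificate -/
noncomputable def nhC0 : List ℕ :=
  let y0 : List ℕ := (by
  refine (?fq9010 : (pk61l (fun i0 => (pk61d (nat_lit 8) 
    (nat_lit 0x306090c0f1215181b191613101e1c1916211f1c2422272a2825221f1c191613100d2d30332f29231d171c221f2825222e2b28253634312e2b2825221f1c19393734312e2b2825221f1c3c3a3734312e2b2825221f1a3f3d3a3734312e2b2825224245484b4e5154575a5d606366696c6f6b6764615c5855524d4946433e3a37342f2b2825221f1c191613100b07040172706b6764615c5855524d4946433e3a37342f2b2825221f1c191613100b07047573706b6764615c5855524d4946433e3a37342f2b2825221f1c191613100b07787673706b6764615c5855524d4946433e3a37342f2b2825221f1c191613100b3d3a37344c494643403d3a375b5855524f4c494643403d3a6a6764615e5b5855524f4c494643403d7b797673706d6a6764615e5b5855524f4c494643407e7a76736e6a67625e5b56524f4a4643817f7a76736e6a67625e5b56524f4a4684827f7a76736e6a67625e5b56524f4a55524f615e5b5855526d6a6764615e5b5855797673706d6a6764615e5b588785827f7c79)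 i0)) (nat_lit 0) (nat_lit 387) List.nil : List ℕ)
    = ?xq9010 → (List ℕ)) ?hq9010; (case hq9010 => (set_option maxRecDepth 1000000 in set_option simprocs false in conv => lhs; reduce; dsimp only)); intro _; exact ?xq9010 : List ℕ)
  (by
  refine (?fq9011 : (fun tl : List ℕ => pk61l (fun i0 => (pk61d (nat_lit 8) 
    (nat_lit 0x7673706d6a6764615e5b8a86827d7974706b67625e5b5855524f4c4944403d3a3734312e2b2825221f1c1914100d0a43403d3a3734312e2b2825221f1a1613100d8d8b86827d7974706b67625e5b5855524f4a4643403d3a3734312e2b2825221f1c1713494643403d3a3734312e2b2825221d1916615e5b5855504c4f6a6764615e5b56524f5573706d6a6764615c5855525b7c797673706d6a67625e5b58556185827f7c797673706d6864615e5b5867908e8b8885827f7c7976736e938f89837d777c827f8885828e8b88859694918e8b88999c9fa2a5a8aba9a6a19d9a97948f8b8885827d797673706d6a67645f5b5855504c4946413d3aaeaca7a3a09d9a95918e8b88837f7c797673706d6a65615e5b56524f4c4743403d3834b1ada9a6a3a09b9794918e8985827f7c797673706b6764615c5855524d494643b4b2afaca7a3a09d9a95918e8b88837f7c797673706d6a65615e5b56524f4c474340b7b5b2ada9a6a3a09b9794918e8985827f7c797673706b6764615c5855524d4946433e3a37bab8b3afaca9a6a19d9a97948f8b8885827f7c7976716d6a67625e5b58534f4cbdbbb8b3afaca9a6a19d9a97948f8b8885827f7c7976716d6a67625e5b58534fc0bebbb8b3afaca9a6a19d9a97948f8b8885827f7c7976716d6a67625e5b5853a09d9a9794b2afaca9a6a3a09d9a97c3)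 i0)) (nat_lit 0) (nat_lit 500) tl)
    = ?xq9011 → (List ℕ)) ?hq9011; (case hq9011 => (set_option maxRecDepth 1000000 in set_option simprocs false in conv => lhs; reduce; dsimp only)); intro _; exact ?xq9011 y0 : List ℕ)
private noncomputable def _root_.Cfsg.Agent.KO190af8a.k26 : (by first | exact type_of% @Cfsg.Agent.MonsterP.NhatData.mir | exact Unit : Sort _) := by first | (refine @Subtype.val _ (fun g => @Cfsg.Agent.MonsterP.NhatData.mir = @g) (@Subtype.mk _ _ (@(fun (x0 : @Nat) => @Decidable.rec.{1} (@Eq.{1} @Nat @x0 (@OfNat.ofNat.{0} @Nat (nat_lit 0) (@instOfNatNat (nat_lit 0)))) @(fun (x1 : @Decidable (@Eq.{1} @Nat @x0 (@OfNat.ofNat.{0} @Nat (nat_lit 0) (@instOfNatNat (nat_lit 0))))) => @Nat) @(fun (x1 : @Not (@Eq.{1} @Nat @x0 (@OfNat.ofNat.{0} @Nat (nat_lit 0) (@instOfNatNat (nat_lit 0))))) => @Decidable.rec.{1} (@Eq.{1} @Nat @x0 (@OfNat.ofNat.{0} @Nat (nat_lit 1) (@instOfNatNat (nat_lit 1)))) @(fun (x2 : @Decidable (@Eq.{1} @Nat @x0 (@OfNat.ofNat.{0}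 @Nat (nat_lit 1) (@instOfNatNat (nat_lit 1))))) => @Nat) @(fun (x2 : @Not (@Eq.{1} @Nat @x0 (@OfNat.ofNat.{0} @Nat (nat_lit 1) (@instOfNatNat (nat_lit 1))))) => @Decidable.rec.{1} (@Eq.{1} @Nat @x0 (@OfNat.ofNat.{0} @Nat (nat_lit 2) (@instOfNatNat (nat_lit 2)))) @(fun (x3 : @Decidable (@Eq.{1} @Nat @x0 (@OfNat.ofNat.{0} @Nat (nat_lit 2) (@instOfNatNat (nat_lit 2))))) => @Nat) @(fun (x3 : @Not (@Eq.{1} @Nat @x0 (@OfNat.ofNat.{0} @Nat (nat_lit 2) (@instOfNatNat (nat_lit 2))))) => @Decidable.rec.{1} (@Eq.{1} @Nat @x0 (@OfNat.ofNat.{0} @Nat (nat_lit 3) (@instOfNatNat (nat_lit 3)))) @(fun (x4 : @Decidable (@Eq.{1} @Nat @x0 (@OfNat.ofNat.{0} @Nat (nat_lit 3) (@instOfNatNat (nat_lit 3))))) => @Nat) @(fun (x4 : @Not (@Eq.{1} @Nat @x0 (@OfNat.ofNat.{0} @Nat (nat_lit 3) (@instOfNatNat (nat_lit 3))))) => @Decidable.rec.{1} (@Eq.{1} @Nat @x0 (@OfNat.ofNat.{0} @Nat (nat_lit 4) (@instOfNatNat (nat_lit 4)))) @(fun (x5 : @Decidable (@Eq.{1} @Nat @x0 (@OfNat.ofNat.{0}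 @Nat (nat_lit 4) (@instOfNatNat (nat_lit 4))))) => @Nat) @(fun (x5 : @Not (@Eq.{1} @Nat @x0 (@OfNat.ofNat.{0} @Nat (nat_lit 4) (@instOfNatNat (nat_lit 4))))) => @Decidable.rec.{1} (@Eq.{1} @Nat @x0 (@OfNat.ofNat.{0} @Nat (nat_lit 5) (@instOfNatNat (nat_lit 5)))) @(fun (x6 : @Decidable (@Eq.{1} @Nat @x0 (@OfNat.ofNat.{0} @Nat (nat_lit 5) (@instOfNatNat (nat_lit 5))))) => @Nat) @(fun (x6 : @Not (@Eq.{1} @Nat @x0 (@OfNat.ofNat.{0} @Nat (nat_lit 5) (@instOfNatNat (nat_lit 5))))) => @Decidable.rec.{1} (@Eq.{1} @Nat @x0 (@OfNat.ofNat.{0} @Nat (nat_lit 6) (@instOfNatNat (nat_lit 6)))) @(fun (x7 : @Decidable (@Eq.{1} @Nat @x0 (@OfNat.ofNat.{0} @Nat (nat_lit 6) (@instOfNatNat (nat_lit 6))))) => @Nat) @(fun (x7 : @Not (@Eq.{1} @Nat @x0 (@OfNat.ofNat.{0} @Nat (nat_lit 6) (@instOfNatNat (nat_lit 6))))) => @Decidable.rec.{1} (@Eq.{1} @Nat @x0 (@OfNat.ofNat.{0} @Nat (nat_lit 7) (@instOfNatNat (nat_lit 7)))) @(fun (x8 : @Decidable (@Eq.{1} @Nat @x0 (@OfNat.ofNat.{0}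 @Nat (nat_lit 7) (@instOfNatNat (nat_lit 7))))) => @Nat) @(fun (x8 : @Not (@Eq.{1} @Nat @x0 (@OfNat.ofNat.{0} @Nat (nat_lit 7) (@instOfNatNat (nat_lit 7))))) => @Decidable.rec.{1} (@Eq.{1} @Nat @x0 (@OfNat.ofNat.{0} @Nat (nat_lit 8) (@instOfNatNat (nat_lit 8)))) @(fun (x9 : @Decidable (@Eq.{1} @Nat @x0 (@OfNat.ofNat.{0} @Nat (nat_lit 8) (@instOfNatNat (nat_lit 8))))) => @Nat) @(fun (x9 : @Not (@Eq.{1} @Nat @x0 (@OfNat.ofNat.{0} @Nat (nat_lit 8) (@instOfNatNat (nat_lit 8))))) => @Decidable.rec.{1} (@Eq.{1} @Nat @x0 (@OfNat.ofNat.{0} @Nat (nat_lit 9) (@instOfNatNat (nat_lit 9)))) @(fun (x10 : @Decidable (@Eq.{1} @Nat @x0 (@OfNat.ofNat.{0} @Nat (nat_lit 9) (@instOfNatNat (nat_lit 9))))) => @Nat) @(fun (x10 : @Not (@Eq.{1} @Nat @x0 (@OfNat.ofNat.{0} @Nat (nat_lit 9) (@instOfNatNat (nat_lit 9))))) => @Decidable.rec.{1} (@Eq.{1} @Nat @x0 (@OfNat.ofNat.{0} @Nat (nat_lit 10) (@instOfNatNat (nat_lit 10)))) @(fun (x11 : @Decidable (@Eq.{1} @Nat @x0 (@OfNat.ofNat.{0}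 @Nat (nat_lit 10) (@instOfNatNat (nat_lit 10))))) => @Nat) @(fun (x11 : @Not (@Eq.{1} @Nat @x0 (@OfNat.ofNat.{0} @Nat (nat_lit 10) (@instOfNatNat (nat_lit 10))))) => x0) @(fun (x11 : @Eq.{1} @Nat @x0 (@OfNat.ofNat.{0} @Nat (nat_lit 10) (@instOfNatNat (nat_lit 10)))) => @Eq.rec.{1, 1} @Nat (nat_lit 10) @(fun (x12 : @Nat) (x13 : @Eq.{1} @Nat (@OfNat.ofNat.{0} @Nat (nat_lit 10) (@instOfNatNat (nat_lit 10))) @x12) => @Nat) (nat_lit 5) @x0 (@Eq.symm.{1} @Nat @x0 (@OfNat.ofNat.{0} @Nat (nat_lit 10) (@instOfNatNat (nat_lit 10))) @x11)) (@Cfsg.Agent.KO190af8a.k6 @x0 (nat_lit 10))) @(fun (x10 : @Eq.{1} @Nat @x0 (@OfNat.ofNat.{0} @Nat (nat_lit 9) (@instOfNatNat (nat_lit 9)))) => @Eq.rec.{1, 1} @Nat (nat_lit 9) @(fun (x11 : @Nat) (x12 : @Eq.{1} @Nat (@OfNat.ofNat.{0} @Nat (nat_lit 9) (@instOfNatNat (nat_lit 9))) @x11) => @Nat) (nat_lit 4) @x0 (@Eq.symm.{1} @Nat @x0 (@OfNat.ofNat.{0} @Nat (nat_lit 9) (@instOfNatNat (nat_lit 9))) @x10)) (@Cfsg.Agent.KO190af8a.k6 @x0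 (nat_lit 9))) @(fun (x9 : @Eq.{1} @Nat @x0 (@OfNat.ofNat.{0} @Nat (nat_lit 8) (@instOfNatNat (nat_lit 8)))) => @Eq.rec.{1, 1} @Nat (nat_lit 8) @(fun (x10 : @Nat) (x11 : @Eq.{1} @Nat (@OfNat.ofNat.{0} @Nat (nat_lit 8) (@instOfNatNat (nat_lit 8))) @x10) => @Nat) (nat_lit 3) @x0 (@Eq.symm.{1} @Nat @x0 (@OfNat.ofNat.{0} @Nat (nat_lit 8) (@instOfNatNat (nat_lit 8))) @x9)) (@Cfsg.Agent.KO190af8a.k6 @x0 (nat_lit 8))) @(fun (x8 : @Eq.{1} @Nat @x0 (@OfNat.ofNat.{0} @Nat (nat_lit 7) (@instOfNatNat (nat_lit 7)))) => @Eq.rec.{1, 1} @Nat (nat_lit 7) @(fun (x9 : @Nat) (x10 : @Eq.{1} @Nat (@OfNat.ofNat.{0} @Nat (nat_lit 7) (@instOfNatNat (nat_lit 7))) @x9) => @Nat) (nat_lit 2) @x0 (@Eq.symm.{1} @Nat @x0 (@OfNat.ofNat.{0} @Nat (nat_lit 7) (@instOfNatNat (nat_lit 7))) @x8)) (@Cfsg.Agent.KO190af8a.k6 @x0 (nat_lit 7))) @(fun (x7 : @Eq.{1} @Nat @x0 (@OfNat.ofNat.{0} @Nat (nat_lit 6) (@instOfNatNat (nat_lit 6)))) => @Eq.rec.{1, 1} @Nat (nat_lit 6) @(fun (x8 : @Nat) (x9 :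 @Eq.{1} @Nat (@OfNat.ofNat.{0} @Nat (nat_lit 6) (@instOfNatNat (nat_lit 6))) @x8) => @Nat) (nat_lit 1) @x0 (@Eq.symm.{1} @Nat @x0 (@OfNat.ofNat.{0} @Nat (nat_lit 6) (@instOfNatNat (nat_lit 6))) @x7)) (@Cfsg.Agent.KO190af8a.k6 @x0 (nat_lit 6))) @(fun (x6 : @Eq.{1} @Nat @x0 (@OfNat.ofNat.{0} @Nat (nat_lit 5) (@instOfNatNat (nat_lit 5)))) => @Eq.rec.{1, 1} @Nat (nat_lit 5) @(fun (x7 : @Nat) (x8 : @Eq.{1} @Nat (@OfNat.ofNat.{0} @Nat (nat_lit 5) (@instOfNatNat (nat_lit 5))) @x7) => @Nat) (nat_lit 10) @x0 (@Eq.symm.{1} @Nat @x0 (@OfNat.ofNat.{0} @Nat (nat_lit 5) (@instOfNatNat (nat_lit 5))) @x6)) (@Cfsg.Agent.KO190af8a.k6 @x0 (nat_lit 5))) @(fun (x5 : @Eq.{1} @Nat @x0 (@OfNat.ofNat.{0} @Nat (nat_lit 4) (@instOfNatNat (nat_lit 4)))) => @Eq.rec.{1, 1} @Nat (nat_lit 4) @(fun (x6 : @Nat) (x7 : @Eq.{1} @Nat (@OfNat.ofNat.{0} @Nat (nat_lit 4) (@instOfNatNat (nat_lit 4))) @x6) => @Nat) (nat_lit 9) @x0 (@Eq.symm.{1} @Nat @x0 (@OfNat.ofNat.{0} @Nat (nat_lit 4) (@instOfNatNat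 (nat_lit 4))) @x5)) (@Cfsg.Agent.KO190af8a.k6 @x0 (nat_lit 4))) @(fun (x4 : @Eq.{1} @Nat @x0 (@OfNat.ofNat.{0} @Nat (nat_lit 3) (@instOfNatNat (nat_lit 3)))) => @Eq.rec.{1, 1} @Nat (nat_lit 3) @(fun (x5 : @Nat) (x6 : @Eq.{1} @Nat (@OfNat.ofNat.{0} @Nat (nat_lit 3) (@instOfNatNat (nat_lit 3))) @x5) => @Nat) (nat_lit 8) @x0 (@Eq.symm.{1} @Nat @x0 (@OfNat.ofNat.{0} @Nat (nat_lit 3) (@instOfNatNat (nat_lit 3))) @x4)) (@Cfsg.Agent.KO190af8a.k6 @x0 (nat_lit 3))) @(fun (x3 : @Eq.{1} @Nat @x0 (@OfNat.ofNat.{0} @Nat (nat_lit 2) (@instOfNatNat (nat_lit 2)))) => @Eq.rec.{1, 1} @Nat (nat_lit 2) @(fun (x4 : @Nat) (x5 : @Eq.{1} @Nat (@OfNat.ofNat.{0} @Nat (nat_lit 2) (@instOfNatNat (nat_lit 2))) @x4) => @Nat) (nat_lit 7) @x0 (@Eq.symm.{1} @Nat @x0 (@OfNat.ofNat.{0} @Nat (nat_lit 2) (@instOfNatNat (nat_lit 2))) @x3)) (@Cfsg.Agent.KO190af8a.k6 @x0 (nat_lit 2))) @(fun (x2 : @Eq.{1} @Nat @x0 (@OfNat.ofNat.{0} @Nat (nat_lit 1) (@instOfNatNat (nat_lit 1)))) => @Eq.rec.{1,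 1} @Nat (nat_lit 1) @(fun (x3 : @Nat) (x4 : @Eq.{1} @Nat (@OfNat.ofNat.{0} @Nat (nat_lit 1) (@instOfNatNat (nat_lit 1))) @x3) => @Nat) (nat_lit 6) @x0 (@Eq.symm.{1} @Nat @x0 (@OfNat.ofNat.{0} @Nat (nat_lit 1) (@instOfNatNat (nat_lit 1))) @x2)) (@Cfsg.Agent.KO190af8a.k6 @x0 (nat_lit 1))) @(fun (x1 : @Eq.{1} @Nat @x0 (@OfNat.ofNat.{0} @Nat (nat_lit 0) (@instOfNatNat (nat_lit 0)))) => @Eq.rec.{1, 1} @Nat (nat_lit 0) @(fun (x2 : @Nat) (x3 : @Eq.{1} @Nat (@OfNat.ofNat.{0} @Nat (nat_lit 0) (@instOfNatNat (nat_lit 0))) @x2) => @Nat) (nat_lit 0) @x0 (@Eq.symm.{1} @Nat @x0 (@OfNat.ofNat.{0} @Nat (nat_lit 0) (@instOfNatNat (nat_lit 0))) @x1)) (@Cfsg.Agent.KO190af8a.k6 @x0 (nat_lit 0)))) ?_); rewrite [← Cfsg.Agent.KO190af8a.e6]; rfl') | exact @Cfsg.Agent.MonsterP.NhatData.mir | exact ()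
private theorem _root_.Cfsg.Agent.KO190af8a.e26 : (by first | exact @Cfsg.Agent.MonsterP.NhatData.mir = @_root_.Cfsg.Agent.KO190af8a.k26 | exact True : Prop) := by first | (delta _root_.Cfsg.Agent.KO190af8a.k26; exact @Subtype.property _ (fun g => @Cfsg.Agent.MonsterP.NhatData.mir = @g) _) | rfl | trivial

theorem nh_ok0 : nilB 14 nhC0 (nhW ++ [0] ++ nhW ++ [mir 0]) = true := by (first | (rewrite [Cfsg.Agent.KO190af8a.e25, Cfsg.Agent.KO190af8a.e26]; decide +kernel) | decide +kernel)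

/-- certificate -/
noncomputable def nhC1 : List ℕ :=
  let y0 : List ℕ := (by
  refine (?fq9012 : (pk61l (fun i0 => (pk61d (nat_lit 8) 
    (nat_lit 0x306090c0f12100d0a07021513100d08041816130e0a071b1914100d0a1e1a1613100d211f242227252a282d2b30332f2b2825221f1c191613102e2b2825223634393c3a3734312e2b2825221f1c191613100d0a0704013f3d3a42403d454340484643403d4b494643404e4c494643514f4c494654524f4c495755524f5a5855525d5b5855605e5b5863615e5b6664616967646c6a676f6d6a72706d7573706b6764615e5955524f4c4743403d3a35312e2b28231f1c1916110d0a070401787673706b6764615e5955524f4c4743403d3a35312e2b28231f1c1916110d0a07047b797673706b6764615e5955524f4c4743403d3a35312e2b28231f1c1916110d0a077e7c797673706b6764615e5955524f4c4743403d3a35312e2b28231f1c1916110d0a817f7c797673706b6764615e5955524f4c4743403d3a35312e2b28231f1c1916110d221f1c191634312e2b2825221f1c194643403d3a3734312e2b2825221f1c5855524f4c494643403d3a3734312e2b2825221f6a6764615e5b5855524f4c494643403d3a3734312e2b28252284827f7a7673706b6764615c5855524d4946433e3a37342f2b28258785827f7a7673706b6764615c5855524d4946433e3a37342f2b288a8885827f7a7673706b6764615c5855524d4946433e3a37342f2b8d8b8885827f7a767370)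 i0)) (nat_lit 0) (nat_lit 493) List.nil : List ℕ)
    = ?xq9012 → (List ℕ)) ?hq9012; (case hq9012 => (set_option maxRecDepth 1000000 in set_option simprocs false in conv => lhs; reduce; dsimp only)); intro _; exact ?xq9012 : List ℕ)
  let y1 : List ℕ := (by
  refine (?fq9013 : (fun tl : List ℕ => pk61l (fun i0 => (pk61d (nat_lit 8) 
    (nat_lit 0x6b6764615c5855524d4946433e3a37342f3d3a37344c494643403d3a375b5855524f4c494643403d3a6a6764615e5b5855524f4c494643403d797673706d6a6764615e5b5855524f4c49464340908e8b86827f7a76736e6a67625e5b56524f4a4643403d3a3734312e2b26221f1c191613100d0a25221f1c191613100d93918e8b86827f7a76736e6a67625e5b56524f4a4643403d3a3734312c2825221f1c1916132b2825221f1c19169694918e8b86827f7a76736e6a67625e5b56524f4a4643403d3a37322e2b2825221f1c312e2b2825221f494643403d3855524f4c4946433e3a615e5b5855524f4c4944403d6d6a6764615e5b5855524f4a464340797673706d6a6764615e5b5855504c49464385827f7c797673706d6a6764615e5b56524f4c49469997948f8b86827d7974706b67625e9c9a97948f8b86827d7974706b67626a6773706d6a7c797673706d85827f7c797673708e8b8885827f7c7976739f9d9a958f89837d7773706d6a67645f5b5855524f4c494643403d3a3734312e2b2825225e5b5855524f4c494643403d3a3734312e2b28257c827f8885828e8b888594918e8b88a29e9a97948f8b8885827d797673706b6764615e5b58534f4c4946413d3a37342f2b289d9a97948f8b8885827d797673706b6764615e5b58534f4c4946413d3a37342f2b403d3a3734524f4c)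 i0)) (nat_lit 0) (nat_lit 500) tl)
    = ?xq9013 → (List ℕ)) ?hq9013; (case hq9013 => (set_option maxRecDepth 1000000 in set_option simprocs false in conv => lhs; reduce; dsimp only)); intro _; exact ?xq9013 y0 : List ℕ)
  (by
  refine (?fq9014 : (fun tl : List ℕ => pk61l (fun i0 => (pk61d (nat_lit 8) 
    (nat_lit 0x494643403d3a37a2a09d9894918e8b86827f7c7974706d6a6764615c5855524d4946433e3a373431a5a39e9a9794918c8885827f7a7673706d6a67625e5b58534f4c4944403d3a37342fa8a4a09d9a97928e8b8885807c797673706d6864615e5955524f4a4643403d3a37aba9a6a39e9a9794918c8885827f7a7673706d6a67625e5b58534f4c4944403d3a374340524f4c4946615e5b5855524f4caeaca9a4a09d9a97928e8b8885807c797673706d6864615c5855504c494643403d3a35314f4c49465b5855524f6764615e5b58b1afaaa6a3a09d9894918e8b86827f7c7976736e6a65615c5855524f4c494643405b5855524f4c64615e5b586d6a6764b4b2afaca9a4a09d9a97928e8b8885807c797673706d6a6764615c5855504c4944403db7b5b2afaaa6a3a09d9894918e8b86827f7c797673706d6a67625e5b56524f4a4643403b3734bab8b5b0aca9a6a39e9a9794918c8885827f7c797673706d6864615c5855504c49bdbbb8b5b0aca9a6a39e9a9794918c8885827f7c797673706d6864615c5855504cc0bebbb8b5b0aca9a6a39e9a9794918c8885827f7c797673706d6864615c5855509d9a979491afaca9a6a3a09d9a9794c3bfbbb8b5b0aca9a6a19d9a9794918e8b88837d7773706d6a6764615e5b5855524f4c4944403d38342f297673706d6a6764617c79767370827f)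 i0)) (nat_lit 0) (nat_lit 500) tl)
    = ?xq9014 → (List ℕ)) ?hq9014; (case hq9014 => (set_option maxRecDepth 1000000 in set_option simprocs false in conv => lhs; reduce; dsimp only)); intro _; exact ?xq9014 y1 : List ℕ)
theorem nh_ok1 : nilB 14 nhC1 (nhW ++ [1] ++ nhW ++ [mir 1]) = true := by (first | (rewrite [Cfsg.Agent.KO190af8a.e25, Cfsg.Agent.KO190af8a.e26]; decide +kernel) | decide +kernel)

/-- certificate -/
noncomputable def nhC2 : List ℕ :=
  let y0 : List ℕ := (by
  refine (?fq9015 : (pk61l (fun i0 => (pk61d (nat_lit 8) 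
    (nat_lit 0x301060409070c0a0f0d1215181b1e211f1c19161124221f1c17132725221d19162a28231f1c192d2925221f1c302e2b2825221f1c191613103336322e2b2825223634312e2b2825221f1c191613100d0a070401393c3f42403d4543404846434b49464e4c49514f545257555a585d5b606366696c6f6b6764615e5955524f4c4743403d3a35312e2b28231f1c1916110d0a07040172706b6764615e5955524f4c4743403d3a35312e2b28231f1c1916110d0a07047573706b6764615e5955524f4c4743403d3a35312e2b28231f1c1916110d0a07787673706b6764615e5955524f4c4743403d3a35312e2b28231f1c1916110d0a7b797673706b6764615e5955524f4c4743403d3a35312e2b28231f1c1916110d221f1c191634312e2b2825221f1c194643403d3a3734312e2b2825221f1c5855524f4c494643403d3a3734312e2b2825221f6a6764615e5b5855524f4c494643403d3a3734312e2b2825227e7a7673706b6764615c5855524d4946433e3a37342f2b2825817f7a7673706b6764615c5855524d4946433e3a37342f2b2884827f7a7673706b6764615c5855524d4946433e) i0)) (nat_lit 0) (nat_lit 423) List.nil : List ℕ)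
    = ?xq9015 → (List ℕ)) ?hq9015; (case hq9015 => (set_option maxRecDepth 1000000 in set_option simprocs false in conv => lhs; reduce; dsimp only)); intro _; exact ?xq9015 : List ℕ)
  let y1 : List ℕ := (by
  refine (?fq9016 : (fun tl : List ℕ => pk61l (fun i0 => (pk61d (nat_lit 8) 
    (nat_lit 0x3a37342f2b8785827f7a7673706b6764615c5855524d4946433e3a37342f3d3a37344c494643403d3a375b5855524f4c494643403d3a6a6764615e5b5855524f4c494643403d797673706d6a6764615e5b5855524f4c494643408a86827f7a76736e6a67625e5b56524f4a4643403d3a3734312e2b26221f1c191613100d0a25221f1c191613100d8d8b86827f7a76736e6a67625e5b56524f4a4643403d3a3734312c2825221f1c1916132b2825221f1c1916908e8b86827f7a76736e6a67625e5b56524f4a4643403d3a37322e2b2825221f1c312e2b2825221f494643403d3855524f4c4946433e3a615e5b5855524f4c4944403d6d6a6764615e5b5855524f4a464340797673706d6a6764615e5b5855504c49464385827f7c797673706d6a6764615e5b56524f4c4946938f8b86827d7974706b67625e96948f8b86827d7974706b67626a6773706d6a7c797673706d85827f7c797673708e8b8885827f7c79767399958f89837d7773706d6a67645f5b5855524f4c494643403d3a3734312e2b2825225e5b5855524f4c494643403d3a3734312e2b28257c827f8885828e8b888594918e8b889c9a9794918c8885827f7a7673706d6864615e5b5855504c4946433e3a3734312c283d3a3734314f4c494643403d3a37349f9d9a97928e8b8885807c7976736e6a6764615e5b56524f4c47)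 i0)) (nat_lit 0) (nat_lit 500) tl)
    = ?xq9016 → (List ℕ)) ?hq9016; (case hq9016 => (set_option maxRecDepth 1000000 in set_option simprocs false in conv => lhs; reduce; dsimp only)); intro _; exact ?xq9016 y0 : List ℕ)
  (by
  refine (?fq9017 : (fun tl : List ℕ => pk61l (fun i0 => (pk61d (nat_lit 8) 
    (nat_lit 0x43403d3834312e2b37344643403d3a55524f4c49464340a2a09d9894918e8b86827f7c7974706d6a6764615c5855504c4944403d3a37343143403d3a4f4c4946435b5855524f4ca5a39e9a9794918c8885827f7a7673706d6a67625e5955504c494643403d3a37342f4f4c494643405855524f4c615e5b58a8a4a09d9a97928e8b8885807c797673706d68625c5855524f4c494643403d3a375b5855524f4c4946615e5b58556764aba9a6a39e9a9794918c8885827f7a7673706d6a6764615c5855524d4946433e3a37aeaca9a4a09d9a97928e8b8885807c797673706d6a67625e5b58534f4c4944403d3a3531b1afaaa6a3a09d9894918e8b86827f7c797673706d6864615e5955524f4a464340b4b2afaca9a4a09d9a97928e8b8885807c797673706d6a67625e5b58534f4c4944403db7b5b2afaaa6a3a09d9894918e8b86827f7c797673706d6864615e5955524f4a4643403b3734bab8b5b0aca9a6a39e9a9794918c8885827f7c7976736e6a67645f5b5855504c49bdbbb8b5b0aca9a6a39e9a9794918c8885827f7c7976736e6a67645f5b5855504cc0bebbb8b5b0aca9a6a39e9a9794918c8885827f7c7976736e6a67645f5b5855509d9a979491afaca9a6a3a09d9a9794c3c1bcb8b5b2ada9a6a39e9a9794918e8b8885827f7a7673706b6764615c5855524f4c4743403b37322e)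 i0)) (nat_lit 0) (nat_lit 500) tl)
    = ?xq9017 → (List ℕ)) ?hq9017; (case hq9017 => (set_option maxRecDepth 1000000 in set_option simprocs false in conv => lhs; reduce; dsimp only)); intro _; exact ?xq9017 y1 : List ℕ)
theorem nh_ok2 : nilB 14 nhC2 (nhW ++ [2] ++ nhW ++ [mir 2]) = true := by (first | (rewrite [Cfsg.Agent.KO190af8a.e25, Cfsg.Agent.KO190af8a.e26]; decide +kernel) | decide +kernel)

/-- certificate -/
noncomputable def nhC3 : List ℕ :=
  let y0 : List ℕ := (by
  refine (?fq9018 : (pk61l (fun i0 => (pk61d (nat_lit 7) 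
    (nat_lit 0x1810c10487182878d2440a933058d993c710a44ea96b05cad425447ce192c4c83362b95a84a89b3978fe13e74dda315cad33d74dda315cae2c380f5d3768c5748973a8d4af5694f991e1c07ae9bb25cad4315d1a1c0) i0)) (nat_lit 0) (nat_lit 99) List.nil : List ℕ)
    = ?xq9018 → (List ℕ)) ?hq9018; (case hq9018 => (set_option maxRecDepth 1000000 in set_option simprocs false in conv => lhs; reduce; dsimp only)); intro _; exact ?xq9018 : List ℕ)
  let y1 : List ℕ := (by
  refine (?fq9019 : (fun tl : List ℕ => pk61l (fun i0 => (pk61d (nat_lit 8) 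
    (nat_lit 0x3d3a37345a5855524d494643403b3734312e2b3a37344c494643403d5d5b58534f4c4944403d3a3734312e43403d3a524f4c4946605e5955524d494643403d3a3734314c494643405855524f635f5b56524f4c494643403d3a373455524f4c49465e5b586664615e696764616c6a67646f6d6a6772706d6a7573706d6864615e5b56524f4c4944403d3a37322e2b2825201c1916130e0a070401787673706d6864615e5b56524f4c4944403d3a37322e2b2825201c1916130e0a07047b797673706d6864615e5b56524f4c4944403d3a37322e2b2825201c1916130e0a077e7c797673706d6864615e5b56524f4c4944403d3a37322e2b2825201c1916130e0a817f7c797673706d6864615e5b56524f4c4944403d3a37322e2b2825201c1916130e1f1c191613312e2b2825221f1c191643403d3a3734312e2b2825221f1c1955524f4c494643403d3a3734312e2b2825221f1c6764615e5b5855524f4c494643403d3a3734312e2b2825221f84827f7c7773706d6864615e5955524f4a4643403b3734312c2825228785827f7c7773706d6864615e5955524f4a4643403b3734312c28258a8885827f7c7773706d6864615e5955524f4a4643403b3734312c288d8b8885827f7c7773706d6864615e5955524f4a4643403b3734312c3a373431494643403d3a37345855524f4c494643403d3a)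 i0)) (nat_lit 0) (nat_lit 500) tl)
    = ?xq9019 → (List ℕ)) ?hq9019; (case hq9019 => (set_option maxRecDepth 1000000 in set_option simprocs false in conv => lhs; reduce; dsimp only)); intro _; exact ?xq9019 y0 : List ℕ)
  let y2 : List ℕ := (by
  refine (?fq9020 : (fun tl : List ℕ => pk61l (fun i0 => (pk61d (nat_lit 8) 
    (nat_lit 0x376764615e5b5855524f4c494643403d3a7673706d6a6764615e5b5855524f4c494643403d908e8b88837f7c7773706b67645f5b58534f4c4743403d3a3734312e2b28231f1c191613100d0a221f1c191613100d93918e8b88837f7c7773706b67645f5b58534f4c4743403d3a3734312e2925221f1c1916132825221f1c19169694918e8b88837f7c7773706b67645f5b58534f4c4743403d3a37342f2b2825221f1c2e2b2825221f4643403d3a35524f4c494643403b375e5b5855524f4c4946413d3a6a6764615e5b5855524f4c4743403d7673706d6a6764615e5b5855524d49464340827f7c797673706d6a6764615e5b58534f4c494643999794918c88837f7a76716d68645f5b9c9a9794918c88837f7a76716d68645f6764706d6a67797673706d6a827f7c797673706d8b8885827f7c797673709f9d9a97928c86807a74706d6a6764615c5855524f4c494643403d3a3734312e2b2825225b5855524f4c494643403d3a3734312e2b2825797f7c85827f8b888582918e8b8885a2a0a5a39e9a9794918e8985827f7c7773706d6a65615e5b5855524d494643403b3734312e293a3734312e4c494643403d3a373431a8aba7a39e9a97948f8b8885827d797673706b6764615e5b58534f4c4944403d3a35312e2b343143403d3a37524f4c494643403d9d9a95918e8b88837f7c797671)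 i0)) (nat_lit 0) (nat_lit 500) tl)
    = ?xq9020 → (List ℕ)) ?hq9020; (case hq9020 => (set_option maxRecDepth 1000000 in set_option simprocs false in conv => lhs; reduce; dsimp only)); intro _; exact ?xq9020 y1 : List ℕ)
  (by
  refine (?fq9021 : (fun tl : List ℕ => pk61l (fun i0 => (pk61d (nat_lit 8) 
    (nat_lit 0x6d6a6764615e5955524d4946413d3a3734312e403d3a374c494643405855524f4c49a6a3a09b9794918e8985827f7c7773706d6a67645f5b56524d494643403d3a3734314c494643403d55524f4c495e5b5855aeaca9a6a19d9a97948f8b8885827d797673706d6a655f5955524f4c494643403d3a37345855524f4c4946435e5b5855526461b1b4b0aaa6a3a09d9894918e8b86827f7c7974706d6a6764615e5b56524f4c4743403d3834312ea9a6a39e9a9794918c8885827f7a7673706d6a6764615c5855524d4946433e3a3734afaca9a4a09d9a97928e8b8885807c797673706d6a67625e5b58534f4c4944403d3ab7b5b2afaaa6a3a09d9894918e8b86827f7c797673706d6864615e5955524f4a464340bab6b2afaca7a3a09d9a95918e8b88837f7c797673706d6a65615e5b56524f4c4743403db5b2afaca7a3a09d9a95918e8b88837f7c797673706d6a65615e5b56524f4c474340bab8b5b0aca9a6a39e9a9794918c8885827f7c7976736e6a67645f5b5855504c49bdbbb8b5b0aca9a6a39e9a9794918c8885827f7c7976736e6a67645f5b5855504cc0bebbb8b5b0aca9a6a39e9a9794918c8885827f7c7976736e6a67645f5b5855509d9a979491afaca9a6a3a09d9a9794c3c1beb9b5b2afaaa6a3a09b9794918e8b8885827f7c7773706d6864615e5955524f4a46433e3a37)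 i0)) (nat_lit 0) (nat_lit 500) tl)
    = ?xq9021 → (List ℕ)) ?hq9021; (case hq9021 => (set_option maxRecDepth 1000000 in set_option simprocs false in conv => lhs; reduce; dsimp only)); intro _; exact ?xq9021 y2 : List ℕ)
theorem nh_ok3 : nilB 14 nhC3 (nhW ++ [3] ++ nhW ++ [mir 3]) = true := by (first | (rewrite [Cfsg.Agent.KO190af8a.e25, Cfsg.Agent.KO190af8a.e26]; decide +kernel) | decide +kernel)

/-- certificate -/
noncomputable def nhC4 : List ℕ :=
  let y0 : List ℕ := (by
  refine (?fq9022 : (pk61l (fun i0 => (pk61d (nat_lit 8) 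
    (nat_lit 0x301060409070c0a0f0d1210151318161b191e1c211f1c19161324221f1c192725221f2a28252d2b302e2b2825221f1c19161310333136343937322c26201a14100d0a070401191f1c25221f2b282522312e2b2825393c3f42403d4543404846434b49464e4c49514f545257555a585d5b606366696c6f6b6764615e5955524f4c4743403d3a35312e2b28231f1c1916110d0a07040172706b6764615e5955524f4c4743403d3a35312e2b28231f1c1916110d0a07047573706b6764615e5955524f4c4743403d3a35312e2b28231f1c1916110d0a07787673706b6764615e5955524f4c4743403d3a35312e2b28231f1c1916110d0a7b797673706b6764615e5955524f4c4743403d3a35312e2b28231f1c1916110d221f1c191634312e2b2825221f1c194643403d3a3734312e2b2825221f1c5855524f4c494643403d3a3734312e2b2825221f6a6764615e5b5855524f4c494643403d3a3734312e2b2825227e7a7673706b6764615c5855524d4946433e3a37342f2b2825817f7a7673706b6764615c5855524d4946433e3a37342f2b2884827f7a7673706b676461) i0)) (nat_lit 0) (nat_lit 415) List.nil : List ℕ)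
    = ?xq9022 → (List ℕ)) ?hq9022; (case hq9022 => (set_option maxRecDepth 1000000 in set_option simprocs false in conv => lhs; reduce; dsimp only)); intro _; exact ?xq9022 : List ℕ)
  let y1 : List ℕ := (by
  refine (?fq9023 : (fun tl : List ℕ => pk61l (fun i0 => (pk61d (nat_lit 8) 
    (nat_lit 0x5c5855524d4946433e3a37342f2b8785827f7a7673706b6764615c5855524d4946433e3a37342f3d3a37344c494643403d3a375b5855524f4c494643403d3a6a6764615e5b5855524f4c494643403d797673706d6a6764615e5b5855524f4c494643408a86827f7a76736e6a67625e5b56524f4a4643403d3a3734312e2b26221f1c191613100d0a25221f1c191613100d8d8b86827f7a76736e6a67625e5b56524f4a4643403d3a3734312c2825221f1c1916132b2825221f1c1916908e8b86827f7a76736e6a67625e5b56524f4a4643403d3a37322e2b2825221f1c312e2b2825221f494643403d3855524f4c4946433e3a615e5b5855524f4c4944403d6d6a6764615e5b5855524f4a464340797673706d6a6764615e5b5855504c49464385827f7c797673706d6a6764615e5b56524f4c4946938f8b86827d7974706b67625e96948f8b86827d7974706b67626a6773706d6a7c797673706d85827f7c797673708e8b8885827f7c79767399958f89837d7773706d6a67645f5b5855524f4c494643403d3a3734312e2b2825225e5b5855524f4c494643403d3a3734312e2b28257c827f8885828e8b888594918e8b889c9a9794918c8885827f7a7673706d6864615e5b5855504c4946433e3a3734312c3d3a3734314f4c494643403d3a37349f9d9a97928e8b8885807c7976736e6a6764)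 i0)) (nat_lit 0) (nat_lit 500) tl)
    = ?xq9023 → (List ℕ)) ?hq9023; (case hq9023 => (set_option maxRecDepth 1000000 in set_option simprocs false in conv => lhs; reduce; dsimp only)); intro _; exact ?xq9023 y0 : List ℕ)
  (by
  refine (?fq9024 : (fun tl : List ℕ => pk61l (fun i0 => (pk61d (nat_lit 8) 
    (nat_lit 0x615e5b56524f4c4743403d3834312e2937344643403d3a55524f4c49464340a2a09d9894918e8b86827f7c7974706d6a6764615c5855504c4944403d3a37343143403d3a4f4c4946435b5855524f4ca5a39e9a9794918c8885827f7a7673706d6a67625e5955504c494643403d3a37344f4c494643405855524f4c615e5b58a8a4a09d9a97928e8b8885807c797673706d68625c5855524f4c494643403d3a375b5855524f4c4946615e5b58556764aba9a6a39e9a9794918c8885827f7a7673706d6a6764615c5855524d4946433e3a3734aeaca9a4a09d9a97928e8b8885807c797673706d6a67625e5b58534f4c4944403d3ab1afaaa6a3a09d9894918e8b86827f7c797673706d6864615e5955524f4a464340b4b2afaca9a4a09d9a97928e8b8885807c797673706d6a67625e5b58534f4c4944403d3a37b7b5b2afaaa6a3a09d9894918e8b86827f7c797673706d6864615e5955524f4a464340bab8b5b0aca9a6a39e9a9794918c8885827f7c7976736e6a67645f5b5855504c49bdbbb8b5b0aca9a6a39e9a9794918c8885827f7c7976736e6a67645f5b5855504cc0bebbb8b5b0aca9a6a39e9a9794918c8885827f7c7976736e6a67645f5b5855509d9a979491afaca9a6a3a09d9a9794c3c1bebbb6b2afaca7a3a09d9894918e8b8885827f7c7974706d6a65615e5b56524d494643)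 i0)) (nat_lit 0) (nat_lit 500) tl)
    = ?xq9024 → (List ℕ)) ?hq9024; (case hq9024 => (set_option maxRecDepth 1000000 in set_option simprocs false in conv => lhs; reduce; dsimp only)); intro _; exact ?xq9024 y1 : List ℕ)
theorem nh_ok4 : nilB 14 nhC4 (nhW ++ [4] ++ nhW ++ [mir 4]) = true := by (first | (rewrite [Cfsg.Agent.KO190af8a.e25, Cfsg.Agent.KO190af8a.e26]; decide +kernel) | decide +kernel)

/-- certificate -/
noncomputable def nhC5 : List ℕ :=
  let y0 : List ℕ := (by
  refine (?fq9025 : (pk61l (fun i0 => (pk61d (nat_lit 6) 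
    (nat_lit 0xc118424730a3cd4905536166d979c85f719) i0)) (nat_lit 0) (nat_lit 25) List.nil : List ℕ)
    = ?xq9025 → (List ℕ)) ?hq9025; (case hq9025 => (set_option maxRecDepth 1000000 in set_option simprocs false in conv => lhs; reduce; dsimp only)); intro _; exact ?xq9025 : List ℕ)
  let y1 : List ℕ := (by
  refine (?fq9026 : (fun tl : List ℕ => pk61l (fun i0 => (pk61d (nat_lit 8) 
    (nat_lit 0x161324221f1c192725221f2a28252d2b302e2b2825221f1c19161310333136343937322c26201a14100d0a070401191f1c25221f2b282522312e2b28253c3f423e3a45433e484b4e51545755524f4c4743403d5a5855524d494643405d5b58534f4c494643605e5955524f4c4946635f5b5855524f4c496664615e5b58534f696764615e5955526c6a67645f5b58556f6d6a65615e5b5872706b6764615e5b7573706b6764615e5955524f4c4743403d3a35312e2b28231f1c1916110d0a070401787673706b6764615e5955524f4c4743403d3a35312e2b28231f1c1916110d0a07047b797673706b6764615e5955524f4c4743403d3a35312e2b28231f1c1916110d0a077e7c797673706b6764615e5955524f4c4743403d3a35312e2b28231f1c1916110d0a817f7c797673706b6764615e5955524f4c4743403d3a35312e2b28231f1c1916110d221f1c191634312e2b2825221f1c194643403d3a3734312e2b2825221f1c5855524f4c494643403d3a3734312e2b2825221f6a6764615e5b5855524f4c494643403d3a3734312e2b28252284827f7a7673706b6764615c5855524d4946433e3a37342f2b28258785827f7a7673706b6764615c5855524d4946433e3a37342f2b288a8885827f7a7673706b6764615c5855524d4946433e3a37342f2b8d8b8885827f7a7673706b6764615c)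 i0)) (nat_lit 0) (nat_lit 500) tl)
    = ?xq9026 → (List ℕ)) ?hq9026; (case hq9026 => (set_option maxRecDepth 1000000 in set_option simprocs false in conv => lhs; reduce; dsimp only)); intro _; exact ?xq9026 y0 : List ℕ)
  let y2 : List ℕ := (by
  refine (?fq9027 : (fun tl : List ℕ => pk61l (fun i0 => (pk61d (nat_lit 8) 
    (nat_lit 0x5855524d4946433e3a37342f3d3a37344c494643403d3a375b5855524f4c494643403d3a6a6764615e5b5855524f4c494643403d797673706d6a6764615e5b5855524f4c49464340908e8b86827f7a76736e6a67625e5b56524f4a4643403d3a3734312e2b26221f1c191613100d0a25221f1c191613100d93918e8b86827f7a76736e6a67625e5b56524f4a4643403d3a3734312c2825221f1c1916132b2825221f1c19169694918e8b86827f7a76736e6a67625e5b56524f4a4643403d3a37322e2b2825221f1c312e2b2825221f494643403d3855524f4c4946433e3a615e5b5855524f4c4944403d6d6a6764615e5b5855524f4a464340797673706d6a6764615e5b5855504c49464385827f7c797673706d6a6764615e5b56524f4c49469997948f8b86827d7974706b67625e9c9a97948f8b86827d7974706b67626a6773706d6a7c797673706d85827f7c797673708e8b8885827f7c7976739f9d9a958f89837d7773706d6a67645f5b5855524f4c494643403d3a3734312e2b2825225e5b5855524f4c494643403d3a3734312e2b28257c827f8885828e8b888594918e8b88a2a09d9a9794918c8885827f7a7673706d6864615e5b5855504c4946433e3a3734312c3d3a3734314f4c494643403d3a3734a5a3a09d9a97928e8b8885807c7976736e6a6764615e5b56524f4c4743403d)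 i0)) (nat_lit 0) (nat_lit 500) tl)
    = ?xq9027 → (List ℕ)) ?hq9027; (case hq9027 => (set_option maxRecDepth 1000000 in set_option simprocs false in conv => lhs; reduce; dsimp only)); intro _; exact ?xq9027 y1 : List ℕ)
  (by
  refine (?fq9028 : (fun tl : List ℕ => pk61l (fun i0 => (pk61d (nat_lit 8) 
    (nat_lit 0x3834312e2937344643403d3a55524f4c49464340a8aba7a3a09d9894918e8b86827f7c7974706d6a6764615c5855504c4944403d3a37343143403d3a4f4c4946435b5855524f4caeaca7a39e9a9794918c8885827f7a7673706d6a67625e5955504c494643403d3a37344f4c494643405855524f4c615e5b58a4a09d9a97928e8b8885807c797673706d68625c5855524f4c494643403d3a375b5855524f4c4946615e5b58556764b1b4b0aca9a6a39e9a9794918c8885827f7a7673706d6a6764615c5855524d4946433e3a3734b7b5b0aca9a4a09d9a97928e8b8885807c797673706d6a67625e5b58534f4c4944403d3aafaaa6a3a09d9894918e8b86827f7c797673706d6864615e5955524f4a464340babdb9b5b2afaca9a4a09d9a97928e8b8885807c797673706d6a67625e5b58534f4c4944403d3a37c0beb9b5b2afaaa6a3a09d9894918e8b86827f7c797673706d6864615e5955524f4a464340b8b5b0aca9a6a39e9a9794918c8885827f7c7976736e6a67645f5b5855504c49c3bfbbb8b5b2ada9a6a3a09b9794918e8985827f7c797673706b6764615c5855524d494643bebbb8b3afaca9a6a19d9a97948f8b8885827f7c7976716d6a67625e5b58534fc3c1bebbb8b3afaca9a6a19d9a97948f8b8885827f7c7976716d6a67625e5b5853a09d9a9794b2afaca9a6a3a09d9a97)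 i0)) (nat_lit 0) (nat_lit 500) tl)
    = ?xq9028 → (List ℕ)) ?hq9028; (case hq9028 => (set_option maxRecDepth 1000000 in set_option simprocs false in conv => lhs; reduce; dsimp only)); intro _; exact ?xq9028 y2 : List ℕ)
theorem nh_ok5 : nilB 14 nhC5 (nhW ++ [5] ++ nhW ++ [mir 5]) = true := by (first | (rewrite [Cfsg.Agent.KO190af8a.e25, Cfsg.Agent.KO190af8a.e26]; decide +kernel) | decide +kernel)

/-- certificate -/
noncomputable def nhC6 : List ℕ :=
  let y0 : List ℕ := (by
  refine (?fq9029 : (pk61l (fun i0 => (pk61d (nat_lit 7) 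
    (nat_lit 0x186042438c143c6922a4468a0e10c163664f1c429101c32589901a2839f38653a5447d5284ab55b05cad425447ce192ccd8b668e5bb2589901a2c4c80d141409f4a895a84ac572b50f1d3768c572b509511f3864b13203450708fe145911a1be74dda315cad425447ce192c4c84b931a1ce) i0)) (nat_lit 0) (nat_lit 131) List.nil : List ℕ)
    = ?xq9029 → (List ℕ)) ?hq9029; (case hq9029 => (set_option maxRecDepth 1000000 in set_option simprocs false in conv => lhs; reduce; dsimp only)); intro _; exact ?xq9029 : List ℕ)
  let y1 : List ℕ := (by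
  refine (?fq9030 : (fun tl : List ℕ => pk61l (fun i0 => (pk61d (nat_lit 8) 
    (nat_lit 0x4c4946514f4c4954524f4c5755504c494643403d3a3734312e2b2825221f1c1916135a58555d5b58605e5b63615e66625e5b5855524f4c494643403d3a3734312e2b2825221f1c191669676c6a6f6d727075736e6a67645f5b5855504c4946413d3a37322e2b28231f1c191613100d0a0704017876736e6a67645f5b5855504c4946413d3a37322e2b28231f1c191613100d0a07047b7976736e6a67645f5b5855504c4946413d3a37322e2b28231f1c191613100d0a077e817d7976736e6a67645f5b5855504c4946413d3a37322e2b28231f1c191613100d0a221f1c1916312e2b2825221f1c403d3a3734312e2b2825224f4c494643403d3a3734312e2b285e5b5855524f4c494643403d3a3734312e6d6a6764615e5b5855524f4c494643403d3a37347c797673706d6a6764615e5b5855524f4c494643403d3a37322c26201a14100d191f1c25221f2b282522312e2b282584827d7976716d6a65615e5955524d4946413d3a3734312e2b288785827d7976716d6a65615e5955524d4946413d3a3734312e2b8a8d8985827d7976716d6a65615e5955524d4946413d3a3734312e403d3a37344c494643403d3a5855524f4c4946434064615e5b5855524f4c4946706d6a6764615e5b5855524f4c7c797673706d6a6764615e5b5855528885827f7c797673706d6a6764615e5b5855504a44)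 i0)) (nat_lit 0) (nat_lit 500) tl)
    = ?xq9030 → (List ℕ)) ?hq9030; (case hq9030 => (set_option maxRecDepth 1000000 in set_option simprocs false in conv => lhs; reduce; dsimp only)); intro _; exact ?xq9030 y0 : List ℕ)
  let y2 : List ℕ := (by
  refine (?fq9031 : (fun tl : List ℕ => pk61l (fun i0 => (pk61d (nat_lit 8) 
    (nat_lit 0x3e3832373d3a43403d494643404f4c494643908e8985807c77736e6a65615c5855524f4c494643403d3a3734312e2925221f1c191613100d0a2825221f1c191613100d9396928e8985807c77736e6a65615c5855524f4c494643403d3a37342f2b2825221f1c1916132e2b2825221f1c19165b5855524f64615e5b58556d6a6764615e5b7673706d6a6764617f7c797673706d6a678885827f7c797673706d918e8b8885827f7c797673706b655f59534d494643403d3a35312e2b2825221f1c34312e2b2825221f4c494643403b524f4c4946413d5855524f4c4743405e5b5855524d49464364615e5b58534f4c49466a6764615e5955524f4c49999c98928c86807a74706d6a67646173706d6a67797673706d7f7c79767385827f7c798b8885827f918e8b88859794918e8b88837d77716b656a706d7673707c797673827f7c79769c9a9794918c8885827f7a7673706d6864615e5b5855524d494643403b3734312e29253a3734312e4c494643403d3a3734318b8885827f9f9d9a97928e8b88837f7c7976736e6a6764615e5b58534f4c4944403d3a35312e2b2823343143403d3a37524f4c494643403d918e8b88a2a09d9894918c8885827f7c7974706d6a6764615e5955524d4946413d3a3734312e403d3a374c494643405855524f4c498b979491a5a39e9a95918e8b8885827f7a76)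 i0)) (nat_lit 0) (nat_lit 500) tl)
    = ?xq9031 → (List ℕ)) ?hq9031; (case hq9031 => (set_option maxRecDepth 1000000 in set_option simprocs false in conv => lhs; reduce; dsimp only)); intro _; exact ?xq9031 y1 : List ℕ)
  (by
  refine (?fq9032 : (fun tl : List ℕ => pk61l (fun i0 => (pk61d (nat_lit 8) 
    (nat_lit 0x73706d6a67645f5b56524d494643403d3a3734312c4c494643403d55524f4c495e5b585594919d9aa8a49e9a9794918e8b8885807c797673706d6a655f5955524f4c494643403d3a37345855524f4c4946435e5b58555264619d9a97a3aba9a6a3a09b97948f8b8885827f7a7673706d6a6764615e5955524f4a4643403b37348e9a9794aeaca9a6a19d9894918e8b8885807c797673706d6a67645f5b5855504c4946413d3a37322e9794a09db1afaca7a19d9a9794918e8b86827f7c797673706d6a65615e5b56524f4c4743403da09d9aa6b4b2afaca9a6a39e9a97928e8b8885807c797673706d6a67645f5b5855504c4946413d3a9d9a97b7b5b2afaca9a4a09b9794918e8b86827f7c797673706d6a65615e5b56524f4c4743403d383431a3a0bab8b5b2afaaa4a09d9a9794918c8885827f7c797673706b6764615c5855524d4946a3a9bdbbb8b5b2afaca7a19d9a9794918c8885827f7c797673706b6764615c5855524d49a0a6c0bebbb8b5b2afaca9a49e9a9794918c8885827f7c797673706b6764615c5855524d9d9a979491a3a09d9a9794c3bfb9b3ada7a3a09d9a97928e8985827f7c797673706d6a6764615e5b5855524f4c494643403d3a3734312e2b2825228885827f7c797673706d6a6764615e5b5855524f4c494643403d3a3734312e2b2825acb2afb8b5b2bebbb8b5)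 i0)) (nat_lit 0) (nat_lit 500) tl)
    = ?xq9032 → (List ℕ)) ?hq9032; (case hq9032 => (set_option maxRecDepth 1000000 in set_option simprocs false in conv => lhs; reduce; dsimp only)); intro _; exact ?xq9032 y2 : List ℕ)
theorem nh_ok6 : nilB 14 nhC6 (nhW ++ [6] ++ nhW ++ [mir 6]) = true := by (first | (rewrite [Cfsg.Agent.KO190af8a.e25, Cfsg.Agent.KO190af8a.e26]; decide +kernel) | decide +kernel)

/-- certificate -/
noncomputable def nhC7 : List ℕ :=
  let y0 : List ℕ := (by
  refine (?fq9033 : (pk61l (fun i0 => (pk61d (nat_lit 8) 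
    (nat_lit 0x3010609050c0a0f0d12101518141b191e1c211f1c1916132427231f1c19221f2a28252d2b302e2b2825221f1c19161310333136343937322c26201a14100d0a070401191f1c25221f2b282522312e2b28253c3a3734312e2b2825221f1c191613100d0a07043f3d42404543484b47434046434e4c4946514f4c4954524f4c575a5652555d5b58605e5b63615e6669656c6a6f6d727075736e6a6764615c5855524f4a4643403d3834312e2b26221f1c1914100d0a0704017876736e6a6764615c5855524f4a4643403d3834312e2b26221f1c1914100d0a07047b7e7a76736e6a6764615c5855524f4a4643403d3834312e2b26221f1c1914100d0a077976736e6a6764615c5855524f4a4643403d3834312e2b26221f1c1914100d0a817f7c7976736e6a6764615c5855524f4a4643403d3834312e2b26221f1c1914100d25221f1c193734312e2b2825221f1c494643403d3a3734312e2b2825221f5b5855524f4c494643403d3a3734312e2b2825226d6a6764615e5b5855524f4c494643403d3a3734312e2b282584827d7976736e6a67645f5b5855504c4946413d3a37322e2b28878a86827d7976736e6a67645f5b5855504c4946413d3a37322e2b85827d7976736e6a67645f5b5855504c4946413d3a3732) i0)) (nat_lit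 0) (nat_lit 471) List.nil : List ℕ)
    = ?xq9033 → (List ℕ)) ?hq9033; (case hq9033 => (set_option maxRecDepth 1000000 in set_option simprocs false in conv => lhs; reduce; dsimp only)); intro _; exact ?xq9033 : List ℕ)
  let y1 : List ℕ := (by
  refine (?fq9034 : (fun tl : List ℕ => pk61l (fun i0 => (pk61d (nat_lit 8) 
    (nat_lit 0x2e8d8b8885827d7976736e6a67645f5b5855504c4946413d3a3732403d3a374f4c494643403d3a5e5b5855524f4c494643403d6d6a6764615e5b5855524f4c494643407c797673706d6a6764615e5b5855524f4c49464390938f8985827d7976716d6a65615e5955524d494643403d3a3734312e2925221f1c191613100d0a2825221f1c191613100d8e8985827d7976716d6a65615e5955524d494643403d3a37342f2b2825221f1c1916132e2b2825221f1c19169694918e8985827d7976716d6a65615e5955524d494643403d3a35312e2b2825221f1c34312e2b2825221f4c494643403b5855524f4c4946413d64615e5b5855524f4c474340706d6a6764615e5b5855524d4946437c797673706d6a6764615e5b58534f4c49468885827f7c797673706d6a6764615e5955524f4c4996948f8b86827d7974706b67625e5b5855524f4c494643403d3a3734312e2b2825226a6773706d6a7c797673706d85827f7c797673708e8b8885827f7c79767399958f89837d7773706d6a6764615e5b5855524f4c494643403d3a3734312e2b28257c827f8885828e8b888594918e8b889c9a9794918c8885827f7a7673706d6864615e5b58534f4c4946413d3a37342f2b403d3a3734524f4c494643403d3a37797673706d9f9d9a97928e8b8885807c7976716d6a6764615e5955524f4a4643403b)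 i0)) (nat_lit 0) (nat_lit 500) tl)
    = ?xq9034 → (List ℕ)) ?hq9034; (case hq9034 => (set_option maxRecDepth 1000000 in set_option simprocs false in conv => lhs; reduce; dsimp only)); intro _; exact ?xq9034 y0 : List ℕ)
  (by
  refine (?fq9035 : (fun tl : List ℕ => pk61l (fun i0 => (pk61d (nat_lit 8) 
    (nat_lit 0x3734312e293a37494643403d5855524f4c4946437f7c7976a2a09d9894918e8b86827f7a7673706d6a67645f5b58534f4c4743403d3a37344643403d524f4c49465e5b5855524f7985827fa5a39e9a9794918c88837f7c797673706d6a65615c58534f4c494643403d3a3732524f4c4946435b5855524f64615e5b827f8b88a8a4a09d9a97928c8885827f7c797673706b655f5b5855524f4c494643403d3a5e5b5855524f4c4964615e5b586a678b888591aba9a6a39e9a9794918e8985827d797673706d6a67645f5b5855504c4946413d3a7c888582aeaca9a4a09d9a97948f8b86827f7c797673706d6a65615e5b56524f4c4743403d383485828e8bb1afaaa6a3a09d9a958f8b8885827f7c797673706b6764615c5855524d4946438e8b8894b4b2afaca9a4a09d9a9794918c8885807c797673706d6a65615e5b56524f4c4743408b8885b7b5b2afaaa6a3a09d9a97928e8985827f7c797673706b6764615c5855524d4946433e3a37918ebab8b5b0aca9a6a3a09d98928e8b8885827f7c7976716d6a67625e5b58534f4c9197bdbbb8b5b0aca9a6a3a09d9a958f8b8885827f7c7976716d6a67625e5b58534f8e94c0bebbb8b5b0aca9a6a3a09d9a97928c8885827f7c7976716d6a67625e5b585391afaca9a6a3a09d9a9794c3c1bebbb8b5b0aaa49e98948f9da3a0a9a6a3afaca9a6)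 i0)) (nat_lit 0) (nat_lit 500) tl)
    = ?xq9035 → (List ℕ)) ?hq9035; (case hq9035 => (set_option maxRecDepth 1000000 in set_option simprocs false in conv => lhs; reduce; dsimp only)); intro _; exact ?xq9035 y1 : List ℕ)
theorem nh_ok7 : nilB 14 nhC7 (nhW ++ [7] ++ nhW ++ [mir 7]) = true := by (first | (rewrite [Cfsg.Agent.KO190af8a.e25, Cfsg.Agent.KO190af8a.e26]; decide +kernel) | decide +kernel)

/-- certificate -/
noncomputable def nhC8 : List ℕ :=
  let y0 : List ℕ := (by
  refine (?fq9036 : (pk61l (fun i0 => (pk61d (nat_lit 6) 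
    (nat_lit 0xc118424c20f3524154d86d779c85f7195939227dc667aa689f96daf0baba2589f719593433c76d39df2b2681a51034a) i0)) (nat_lit 0) (nat_lit 65) List.nil : List ℕ)
    = ?xq9036 → (List ℕ)) ?hq9036; (case hq9036 => (set_option maxRecDepth 1000000 in set_option simprocs false in conv => lhs; reduce; dsimp only)); intro _; exact ?xq9036 : List ℕ)
  let y1 : List ℕ := (by
  refine (?fq9037 : (fun tl : List ℕ => pk61l (fun i0 => (pk61d (nat_lit 8) 
    (nat_lit 0x70401191f1c25221f2b282522312e2b28253c3a3734312e2b2825221f1c191613100d0a07043f3d42404543484643404b4e4a46434946514f4c4954524f4c5755525a5d595558605e5b63615e6664696c686f6d727075736e6a6764615c5855524f4a4643403d3834312e2b26221f1c1914100d0a070401787b77736e6a6764615c5855524f4a4643403d3834312e2b26221f1c1914100d0a070476736e6a6764615c5855524f4a4643403d3834312e2b26221f1c1914100d0a077e7c7976736e6a6764615c5855524f4a4643403d3834312e2b26221f1c1914100d0a817f7c7976736e6a6764615c5855524f4a4643403d3834312e2b26221f1c19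14100d25221f1c193734312e2b2825221f1c494643403d3a3734312e2b2825221f5b5855524f4c494643403d3a3734312e2b2825226d6a6764615e5b5855524f4c494643403d3a3734312e2b28258487837d7976736e6a67645f5b5855504c4946413d3a37322e2b28827d7976736e6a67645f5b5855504c4946413d3a37322e2b8a8885827d7976736e6a67645f5b5855504c4946413d3a37322e8d8b8885827d7976736e6a67645f5b5855504c4946413d3a3732403d3a374f4c494643403d3a5e5b5855524f4c494643403d6d6a6764615e5b5855524f4c494643407c797673706d6a6764615e5b5855524f4c4946438d8b86827f7a76) i0)) (nat_lit 0) (nat_lit 500) tl)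
    = ?xq9037 → (List ℕ)) ?hq9037; (case hq9037 => (set_option maxRecDepth 1000000 in set_option simprocs false in conv => lhs; reduce; dsimp only)); intro _; exact ?xq9037 y0 : List ℕ)
  let y2 : List ℕ := (by
  refine (?fq9038 : (fun tl : List ℕ => pk61l (fun i0 => (pk61d (nat_lit 8) 
    (nat_lit 0x736e6a67625e5b56524f4a46908e8b86827f7a76736e6a67625e5b56524f4a55524f615e5b5855526d6a6764615e5b5855797673706d6a6764615e5b5885827f7c797673706d6a6764615e5b938f8b86827d7974706b67625e5b5855524f4c96948f8b86827d7974706b67625e5b5855524f6a6773706d6a7c797673706d85827f7c797673708e8b8885827f7c79767399958f89837d7773706d6a6764615e5b5855524d4743403d3a37342f2b2825221f1c191613104643403d3a37342f2b2825221f1c1916134c494643403d3a37342f2b2825221f1c19162e2b2825221f1c197c827f8885828e8b888594918e8b889c9a9794918c8885827f7a7673706d6864615e5b56524f4c4946433e3a3734312e2b28231f6764615e5b9f9d9a97928e8b8885807c7976736e6a67645f5b5855524f4c4944403d3a3734312e2925221d6d6a6764a2a09d9894918e8b86827f7c7974706d6864615e5b5855524f4a4643403d3a37342f2b286773706da5a39e9a9794918c8885827f7a76716d6a6764615e5b5855504c494643403d3a35312e2b26706d7976a8a4a09d9a97928e8b8885807a7673706d6a6764615e5b56524f4c494643403b3734312e7976737faba9a6a39e9a9794918c8885827f7c7773706b6764615e5b5855504c494643403d3a35312e6a767370aeaca9a4a09d9a97928e8b888582)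 i0)) (nat_lit 0) (nat_lit 500) tl)
    = ?xq9038 → (List ℕ)) ?hq9038; (case hq9038 => (set_option maxRecDepth 1000000 in set_option simprocs false in conv => lhs; reduce; dsimp only)); intro _; exact ?xq9038 y1 : List ℕ)
  (by
  refine (?fq9039 : (fun tl : List ℕ => pk61l (fun i0 => (pk61d (nat_lit 8) 
    (nat_lit 0x7d7974706d6a6764615e5b56524f4c494643403b3734312c2873707c79b1afaaa6a3a09d9894918e8b88837d797673706d6a6764615c5855524f4c4946413d3a377c797682b4b2afaca9a4a09d9a97928e8b8885827f7a76736e6a6764615e5b56524f4c494643403b3734797673b7b5b2afaaa6a3a09d9894918e8b8885807c7773706d6a6764615c5855524f4c4946413d3a37322e2b7f7cbab8b5b0aca9a6a39e9a9794918e8b86807c797673706d6a67625e5b5855524f4c4743407f85bdbbb8b5b0aca9a6a39e9a9794918e8b88837d797673706d6a67625e5b5855524f4c47437c82c0bebbb8b5b0aca9a6a39e9a9794918e8b8885807a7673706d6a67625e5b5855524f4c477f9d9a9794918e8b888582afaca9a6a3a09d9a9794918e8b8885c3c1bebbb8b5b2afaca9a6a19b958f8985827d7773706d6a6764615c5855524f4c494643403d3a3734312e2b2825221f1c1914100d0a5b5855524f4c494643403d3a3734312e2b2825221f1a1613100d7673706d6a67625e5b5855524f4c494643403d3a3734312e2b2825221f1c1713615e5b5855524f4c494643403d3a3734312e2b2825221d19167c797673706d6864678885827f7c7976736e6a676d8e8b8885827f7c7974706d6a7394918e8b8885827f7a7673706d799a9794918e8b8885807c797673707fa09d9a9794918e8b86)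 i0)) (nat_lit 0) (nat_lit 500) tl)
    = ?xq9039 → (List ℕ)) ?hq9039; (case hq9039 => (set_option maxRecDepth 1000000 in set_option simprocs false in conv => lhs; reduce; dsimp only)); intro _; exact ?xq9039 y2 : List ℕ)
theorem nh_ok8 : nilB 14 nhC8 (nhW ++ [8] ++ nhW ++ [mir 8]) = true := by (first | (rewrite [Cfsg.Agent.KO190af8a.e25, Cfsg.Agent.KO190af8a.e26]; decide +kernel) | decide +kernel)

/-- certificate -/
noncomputable def nhC9 : List ℕ :=
  let y0 : List ℕ := (by
  refine (?fq9040 : (pk61l (fun i0 => (pk61d (nat_lit 8) 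
    (nat_lit 0x301060409070c0f0b1210151318161b1e1a211f1c19161324221f1c192725221f2a2d2925302e2b2825221f1c19161310333136343937322c26201a14100d0a070401191f1c25221f2b282522312e2b28253c3a3734312e2b2825221f1c191613100d0a07043f3d42404543484643404b4946434e514d49464c4954524f4c5755525a58555d605c585b63615e666469676c6f6b72707578746e6a6764615c5855524f4a4643403d3834312e2b26221f1c1914100d0a070401736e6a6764615c5855524f4a4643403d3834312e2b26221f1c1914100d0a07047b7976736e6a6764615c5855524f4a4643403d3834312e2b26221f1c1914100d0a077e7c7976736e6a6764615c5855524f4a4643403d3834312e2b26221f1c1914100d0a817f7c7976736e6a6764615c5855524f4a4643403d3834312e2b26221f1c1914100d25221f1c193734312e2b2825221f1c494643403d3a3734312e2b2825221f5b5855524f4c494643403d3a3734312e2b2825226d6a67) i0)) (nat_lit 0) (nat_lit 373) List.nil : List ℕ)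
    = ?xq9040 → (List ℕ)) ?hq9040; (case hq9040 => (set_option maxRecDepth 1000000 in set_option simprocs false in conv => lhs; reduce; dsimp only)); intro _; exact ?xq9040 : List ℕ)
  let y1 : List ℕ := (by
  refine (?fq9041 : (fun tl : List ℕ => pk61l (fun i0 => (pk61d (nat_lit 8) 
    (nat_lit 0x64615e5b5855524f4c494643403d3a3734312e2b2825817f7a7673706b6764615c5855524d4946433e3a37342f2b2825221f1c191613100d0a84827f7a7673706b6764615c5855524d4946433e3a37342f2b2825221f1c191613108785827f7a7673706b6764615c5855524d4946433e3a37342f2b2825221f1c19163d3a37344c494643403d3a375b5855524f4c494643403d3a6a6764615e5b5855524f4c494643403d797673706d6a6764615e5b5855524f4c494643408a86827f7a76736e6a67625e5b56524f4a4643403d3a3734312e2b2825221f1c191613100d8d8b86827f7a76736e6a67625e5b56524f4a4643403d3a3734312e2b2825221f1c1916908e8b86827f7a76736e6a67625e5b56524f4a4643403d3a3734312e2b2825221f55524f615e5b5855526d6a6764615e5b5855797673706d6a6764615e5b5885827f7c797673706d6a6764615e5b938f8b86827d7974706b67625e96948f8b86827d7974706b67626a6773706d6a7c797673706d85827f7c797673708e8b8885827f7c79767399958f89837d7773706d6a67645f5b5855524f4c494643403d3a3734312e2b2825225e5b5855524f4c494643403d3a3734312e2b28257c827f8885828e8b888594918e8b889c9a9794918c8885827f7a7673706d6864615e5b58534f4c4946413d3a37342f2b403d3a3734524f4c)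 i0)) (nat_lit 0) (nat_lit 500) tl)
    = ?xq9041 → (List ℕ)) ?hq9041; (case hq9041 => (set_option maxRecDepth 1000000 in set_option simprocs false in conv => lhs; reduce; dsimp only)); intro _; exact ?xq9041 y0 : List ℕ)
  (by
  refine (?fq9042 : (fun tl : List ℕ => pk61l (fun i0 => (pk61d (nat_lit 8) 
    (nat_lit 0x494643403d3a379f9d9a97928e8b8885807c7976736e6a6764615e5955524f4a4643403b3734312e293a37494643403d5855524f4c494643a2a09d9894918e8b86827f7c7974706d6a67645f5b58534f4c4743403d3a37344643403d524f4c49465e5b5855524fa5a39e9a9794918c8885827f7a7673706d6a65615c58534f4c494643403d3a3732524f4c4946435b5855524f64615e5ba8a4a09d9a97928e8b8885807c797673706b655f5b5855524f4c494643403d3a5e5b5855524f4c4964615e5b586a67aba9a6a39e9a9794918c8885827f7a7673706d6a67645f5b5855504c4946413d3aaeaca9a4a09d9a97928e8b8885807c797673706d6a65615e5b56524f4c4743403d3834b1afaaa6a3a09d9894918e8b86827f7c797673706b6764615c5855524d494643b4b2afaca9a4a09d9a97928e8b8885807c797673706d6a65615e5b56524f4c474340b7b5b2afaaa6a3a09d9894918e8b86827f7c797673706b6764615c5855524d4946433e3a37bab8b5b0aca9a6a39e9a9794918c8885827f7c7976716d6a67625e5b58534f4cbdbbb8b5b0aca9a6a39e9a9794918c8885827f7c7976716d6a67625e5b58534fc0bebbb8b5b0aca9a6a39e9a9794918c8885827f7c7976716d6a67625e5b58539d9a979491afaca9a6a3a09d9a9794c3c1bebbb8b5b2afaca9a6a3a09d9a9794918e8b)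 i0)) (nat_lit 0) (nat_lit 500) tl)
    = ?xq9042 → (List ℕ)) ?hq9042; (case hq9042 => (set_option maxRecDepth 1000000 in set_option simprocs false in conv => lhs; reduce; dsimp only)); intro _; exact ?xq9042 y1 : List ℕ)
theorem nh_ok9 : nilB 14 nhC9 (nhW ++ [9] ++ nhW ++ [mir 9]) = true := by (first | (rewrite [Cfsg.Agent.KO190af8a.e25, Cfsg.Agent.KO190af8a.e26]; decide +kernel) | decide +kernel)

/-- certificate -/
noncomputable def nhC10 : List ℕ :=
  let y0 : List ℕ := (by
  refine (?fq9043 : (pk61l (fun i0 => (pk61d (nat_lit 7) 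
    (nat_lit 0x1810c1048718287922034a932060b133664b1e427ce192c4c824447ce192c9d2a23e715284a896b05cad3223e70c9626406a5447ce192c4c83362b1b325ce5bb2589901a284068a0e100993e712a23ead42544c572b5095e3a6ed18ae56a12a23e70c96264068a0e11fbd85022c3911a1c097263439d324c6a35284c) i0)) (nat_lit 0) (nat_lit 143) List.nil : List ℕ)
    = ?xq9043 → (List ℕ)) ?hq9043; (case hq9043 => (set_option maxRecDepth 1000000 in set_option simprocs false in conv => lhs; reduce; dsimp only)); intro _; exact ?xq9043 : List ℕ)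
  let y1 : List ℕ := (by
  refine (?fq9044 : (fun tl : List ℕ => pk61l (fun i0 => (pk61d (nat_lit 8) 
    (nat_lit 0x494f4c5755525a58555d5b5860635f5b5e666469676c6a6f726e72706b6764615e5955524f4c4743403d3a35312e2b28231f1c1916110d0a077573706b6764615e5955524f4c4743403d3a35312e2b28231f1c1916110d0a787673706b6764615e5955524f4c4743403d3a35312e2b28231f1c1916110d7b797673706b6764615e5955524f4c4743403d3a35312e2b28231f1c191611221f1c191634312e2b2825221f1c194643403d3a3734312e2b2825221f1c5855524f4c494643403d3a3734312e2b2825221f6a6764615e5b5855524f4c494643403d3a3734312e2b2825227e7a7673706b6764615c5855524d4946433e3a37342f2b2825817f7a7673706b6764615c5855524d4946433e3a37342f2b2884827f7a7673706b6764615c5855524d4946433e3a37342f2b8785827f7a7673706b6764615c5855524d4946433e3a37342f3d3a37344c494643403d3a375b5855524f4c494643403d3a6a6764615e5b5855524f4c494643403d797673706d6a6764615e5b5855524f4c494643408a86827f7a76736e6a67625e5b56524f4a4643403d3a3734312e2b26221f1c191613100d080401070425221f1c191613100d0a078d8b86827f7a76736e6a67625e5b56524f4a4643403d3a3734312c2825221f1c1916110d0a100d2b2825221f1c19161310908e8b86827f7a76736e6a67625e)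 i0)) (nat_lit 0) (nat_lit 500) tl)
    = ?xq9044 → (List ℕ)) ?hq9044; (case hq9044 => (set_option maxRecDepth 1000000 in set_option simprocs false in conv => lhs; reduce; dsimp only)); intro _; exact ?xq9044 y0 : List ℕ)
  let y2 : List ℕ := (by
  refine (?fq9045 : (fun tl : List ℕ => pk61l (fun i0 => (pk61d (nat_lit 8) 
    (nat_lit 0x5b56524f4a4643403d3a37322e2b2825221f1a16131916312e2b2825221f1c19494643403d3834312e2b28233734312e2b2855524f4c4946433e3a3734312c28252b3d3a373431615e5b5855524f4c4944403d3a35312e2b28343143403d3a6d6a6764615e5b5855524f4a46433e3a3734312e2b3d3a37494643797673706d6a6764615e5b5855504c4743403d3a3734312e4643403d4f4c85827f7c797673706d6a6764615e5b56504c494643403d3a3734314f4c49464355938f8b86827d7974706b67625e96948f8b86827d7974706b67626a6773706d6a7c797673706d85827f7c797673708e8b8885827f7c79767399958f89837d7773706d6a67645f5b5855524f4c494643403d3a3734312e2b2825221f1c5e5b5855524f4c494643403d3a3734312e2b2825221f7c827f8885828e8b888594918e8b889c9a9794918c8885827f7a7673706d6864615e5b5855524d494643403b3734312e29253a3734312e4c494643403d3a3734319f9d9a97928e8b8885807c7976736e6a6764615e5b58534f4c4944403d3a35312e2b2823343143403d3a524f4c494643403da2a09d9894918e8b86827f7c7974706d6a6764615e5955524d4946413d3a3734312e403d3a374c4946435855524f4c49a5a39e9a9794918c8885827f7a7673706d6a67645f5b56524d494643403d3a3734312c4c4946)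 i0)) (nat_lit 0) (nat_lit 500) tl)
    = ?xq9045 → (List ℕ)) ?hq9045; (case hq9045 => (set_option maxRecDepth 1000000 in set_option simprocs false in conv => lhs; reduce; dsimp only)); intro _; exact ?xq9045 y1 : List ℕ)
  (by
  refine (?fq9046 : (fun tl : List ℕ => pk61l (fun i0 => (pk61d (nat_lit 8) 
    (nat_lit 0x43403d55524f4c5e5b5855a8a4a09d9a97928e8b8885807c797673706d6a655f5955524f4c494643403d3a37345855524f4c4946435e5b58556461aba9a6a39e9a9794918c8885827f7a7673706d6a6764615e5955524d494643403b37344c585552aeaca9a4a09d9a97928e8b8885807c797673706d6a67645f5b56524f4c4946413d3a37322e55525e5bb1afaaa6a3a09d9894918e8b86827f7c797673706d6a655f5b5855524f4c4743403d5e5b5864b4b2afaca9a4a09d9a97928e8b8885807c797673706d6a6764615c5855504c4946413d3a5b5855b7b5b2afaaa6a3a09d9894918e8b86827f7c797673706d6a67625e5955524f4c4743403d383431615ebab8b5b0aca9a6a39e9a9794918c8885827f7c797673706d68625e5b5855524d49466167bdbbb8b5b0aca9a6a39e9a9794918c8885827f7c797673706d6a655f5b5855524d495e64c0bebbb8b5b0aca9a6a39e9a9794918c8885827f7c797673706d6a67625c5855524d619d9a979491afaca9a6a3a09d9a9794c3c1bebbb8b5b2afaca9a6a3a09d9a9794918e8b86807c77716b655f5b5855524f4c494643403d3a3734312e2b2825221f1c17130e0a05015e5b585564615e5b6a676461706d6a677673706d85807c797673706b655f59534f4c494643403d3a3734312e2b2825221f1c17130e0a05585e5b64615e6a676461)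 i0)) (nat_lit 0) (nat_lit 500) tl)
    = ?xq9046 → (List ℕ)) ?hq9046; (case hq9046 => (set_option maxRecDepth 1000000 in set_option simprocs false in conv => lhs; reduce; dsimp only)); intro _; exact ?xq9046 y2 : List ℕ)
theorem nh_ok10 : nilB 14 nhC10 (nhW ++ [10] ++ nhW ++ [mir 10]) = true := by (first | (rewrite [Cfsg.Agent.KO190af8a.e25, Cfsg.Agent.KO190af8a.e26]; decide +kernel) | decide +kernel)

/-- certificate -/
noncomputable def nhC12 : List ℕ :=
  let y0 : List ℕ := (by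
  refine (?fq9047 : (pk61l (fun i0 => (pk61d (nat_lit 8) 
    (nat_lit 0x301060409070c0a0f0d1210151318161b191e1c211f1c19161324221f1c192725221f2a28252d2b302e2b2825221f1c19161310333136343937322c26201a14100d0a070401191f1c25221f2b282522312e2b28253c3a3734312e2b2825221f1c191613100d0a07043f3d42404543484643404b4946434e4c4946514f4c4954524f4c5755525a58555d5b58605e5b63615e666469676c6a6f6d727075736e6a6764615c5855524f4a4643403d3834312e2b26221f1c1914100d0a0704017876736e6a6764615c5855524f4a4643403d3834312e2b26221f1c1914100d0a07047b7976736e6a6764615c5855524f4a4643403d3834312e2b26221f1c1914100d0a077e7c7976736e6a6764615c5855524f4a4643403d3834312e2b26221f1c1914100d0a817f7c7976736e6a6764615c5855524f4a4643403d3834312e2b26221f1c1914100d25221f1c193734312e2b2825221f1c494643403d3a3734312e2b2825221f5b5855524f4c494643403d3a3734312e2b2825226d6a6764615e5b5855524f4c494643403d3a3734312e2b282584827d7976736e6a67645f5b5855504c4946413d3a37322e2b288785827d7976736e6a67645f5b5855504c4946413d3a37322e2b8a8885827d797673)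 i0)) (nat_lit 0) (nat_lit 462) List.nil : List ℕ)
    = ?xq9047 → (List ℕ)) ?hq9047; (case hq9047 => (set_option maxRecDepth 1000000 in set_option simprocs false in conv => lhs; reduce; dsimp only)); intro _; exact ?xq9047 : List ℕ)
  let y1 : List ℕ := (by
  refine (?fq9048 : (fun tl : List ℕ => pk61l (fun i0 => (pk61d (nat_lit 8) 
    (nat_lit 0x6e6a67645f5b5855504c4946413d3a37322e8d8b8885827d7976736e6a67645f5b5855504c4946413d3a3732403d3a374f4c494643403d3a5e5b5855524f4c494643403d6d6a6764615e5b5855524f4c494643407c797673706d6a6764615e5b5855524f4c494643908e8985827d7976716d6a65615e5955524d494643403d3a3734312e2925221f1c191613100d0a2825221f1c191613100d93918e8985827d7976716d6a65615e5955524d494643403d3a37342f2b2825221f1c1916132e2b2825221f1c19169694918e8985827d7976716d6a65615e5955524d494643403d3a35312e2b2825221f1c34312e2b2825221f4c494643403b5855524f4c4946413d64615e5b5855524f4c474340706d6a6764615e5b5855524d4946437c797673706d6a6764615e5b58534f4c49468885827f7c797673706d6a6764615e5955524f4c499997928e8985807c77736e6a65619c9a97928e8985807c77736e6a656d6a7673706d7f7c797673708885827f7c797673918e8b8885827f7c79769f9d98928c86807a7673706d6a67625e5b5855524f4c494643403d3a3734312e2b282522615e5b5855524f4c494643403d3a3734312e2b28257f85828b8885918e8b889794918e8ba2a09d9a97948f8b8885827d797673706b6764615e5b58534f4c4946413d3a37342f2b403d3a3734524f4c49464340)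 i0)) (nat_lit 0) (nat_lit 500) tl)
    = ?xq9048 → (List ℕ)) ?hq9048; (case hq9048 => (set_option maxRecDepth 1000000 in set_option simprocs false in conv => lhs; reduce; dsimp only)); intro _; exact ?xq9048 y0 : List ℕ)
  (by
  refine (?fq9049 : (fun tl : List ℕ => pk61l (fun i0 => (pk61d (nat_lit 8) 
    (nat_lit 0x3d3a37a5a3a09d9a95918e8b88837f7c7976716d6a6764615e5955524f4a4643403b3734312e293a37494643403d5855524f4c494643a8a6a3a09b9794918e8985827f7c7773706d6a67645f5b58534f4c4743403d3a37344643403d524f4c49465e5b5855524faba9a6a19d9a97948f8b8885827d797673706d6a65615c58534f4c494643403d3a3732524f4c4946435b5855524f64615e5baeaca7a3a09d9a95918e8b88837f7c797673706b655f5b5855524f4c494643403d3a5e5b5855524f4c4964615e5b586a67b1afaca9a6a19d9a97948f8b8885827d797673706d6a67645f5b5855504c4946413d3ab4b2afaca7a3a09d9a95918e8b88837f7c797673706d6a65615e5b56524f4c4743403d3834b7b5b2ada9a6a3a09b9794918e8985827f7c797673706b6764615c5855524d494643bab8b5b2afaca7a3a09d9a95918e8b88837f7c797673706d6a65615e5b56524f4c474340bdbbb8b5b2ada9a6a3a09b9794918e8985827f7c797673706b6764615c5855524d4946433e3a37c0bebbb8b3afaca9a6a19d9a97948f8b8885827f7c7976716d6a67625e5b58534f4cc3c1bebbb8b3afaca9a6a19d9a97948f8b8885827f7c7976716d6a67625e5b58534fc6c4c1bebbb8b3afaca9a6a19d9a97948f8b8885827f7c7976716d6a67625e5b5853a09d9a9794b2afaca9a6a3a09d9a97)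 i0)) (nat_lit 0) (nat_lit 500) tl)
    = ?xq9049 → (List ℕ)) ?hq9049; (case hq9049 => (set_option maxRecDepth 1000000 in set_option simprocs false in conv => lhs; reduce; dsimp only)); intro _; exact ?xq9049 y1 : List ℕ)
theorem nh_ok12 : nilB 14 nhC12 (nhW ++ [12] ++ nhW ++ [mir 12]) = true := by (first | (rewrite [Cfsg.Agent.KO190af8a.e25, Cfsg.Agent.KO190af8a.e26]; decide +kernel) | decide +kernel)

/-- certificate -/
noncomputable def nhC13 : List ℕ :=
  let y0 : List ℕ := (by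
  refine (?fq9050 : (pk61l (fun i0 => (pk61d (nat_lit 8) 
    (nat_lit 0x301060409070c0a0f0d1210151318161b191e1c211f1c19161324221f1c192725221f2a28252d2b302e2b2825221f1c19161310333136343937322c26201a14100d0a070401191f1c25221f2b282522312e2b28253c3a3734312e2b2825221f1c191613100d0a07043f3d42404543484643404b4946434e4c4946514f4c4954524f4c5755525a58555d5b58605e5b63615e666469676c6a6f6d727075736e6a6764615c5855524f4a4643403d3834312e2b26221f1c1914100d0a0704017876736e6a6764615c5855524f4a4643403d3834312e2b26221f1c1914100d0a07047b7976736e6a6764615c5855524f4a4643403d3834312e2b26221f1c1914100d0a077e7c7976736e6a6764615c5855524f4a4643403d3834312e2b26221f1c1914100d0a817f7c7976736e6a6764615c5855524f4a4643403d3834312e2b26221f1c1914100d25221f1c193734312e2b2825221f1c494643403d3a3734312e2b2825221f5b5855524f4c494643403d3a3734312e2b2825226d6a6764615e5b5855524f4c494643403d3a3734312e2b282584827d7976736e6a67645f5b5855504c4946413d3a37322e2b288785827d7976736e6a67645f5b5855504c4946413d3a37322e2b8a8885827d797673)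 i0)) (nat_lit 0) (nat_lit 462) List.nil : List ℕ)
    = ?xq9050 → (List ℕ)) ?hq9050; (case hq9050 => (set_option maxRecDepth 1000000 in set_option simprocs false in conv => lhs; reduce; dsimp only)); intro _; exact ?xq9050 : List ℕ)
  let y1 : List ℕ := (by
  refine (?fq9051 : (fun tl : List ℕ => pk61l (fun i0 => (pk61d (nat_lit 8) 
    (nat_lit 0x6e6a67645f5b5855504c4946413d3a37322e8d8b8885827d7976736e6a67645f5b5855504c4946413d3a3732403d3a374f4c494643403d3a5e5b5855524f4c494643403d6d6a6764615e5b5855524f4c494643407c797673706d6a6764615e5b5855524f4c494643908e8985827d7976716d6a65615e5955524d494643403d3a3734312e2925221f1c191613100d0a2825221f1c191613100d93918e8985827d7976716d6a65615e5955524d494643403d3a37342f2b2825221f1c1916132e2b2825221f1c19169694918e8985827d7976716d6a65615e5955524d494643403d3a35312e2b2825221f1c34312e2b2825221f4c494643403b5855524f4c4946413d64615e5b5855524f4c474340706d6a6764615e5b5855524d4946437c797673706d6a6764615e5b58534f4c49468885827f7c797673706d6a6764615e5955524f4c499997928e8985807c77736e6a65619c9a97928e8985807c77736e6a656d6a7673706d7f7c797673708885827f7c797673918e8b8885827f7c79769f9d98928c86807a7673706d6a67625e5b5855524f4c494643403d3a3734312e2b282522615e5b5855524f4c494643403d3a3734312e2b28257f85828b8885918e8b889794918e8ba2a09d9a97948f8b8885827d797673706b6764615e5b58534f4c4946413d3a37342f2b403d3a3734524f4c49464340)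 i0)) (nat_lit 0) (nat_lit 500) tl)
    = ?xq9051 → (List ℕ)) ?hq9051; (case hq9051 => (set_option maxRecDepth 1000000 in set_option simprocs false in conv => lhs; reduce; dsimp only)); intro _; exact ?xq9051 y0 : List ℕ)
  (by
  refine (?fq9052 : (fun tl : List ℕ => pk61l (fun i0 => (pk61d (nat_lit 8) 
    (nat_lit 0x3d3a37a5a3a09d9a95918e8b88837f7c7976716d6a6764615e5955524f4a4643403b3734312e293a37494643403d5855524f4c494643a8a6a3a09b9794918e8985827f7c7773706d6a67645f5b58534f4c4743403d3a37344643403d524f4c49465e5b5855524faba9a6a19d9a97948f8b8885827d797673706d6a65615c58534f4c494643403d3a3732524f4c4946435b5855524f64615e5baeaca7a3a09d9a95918e8b88837f7c797673706b655f5b5855524f4c494643403d3a5e5b5855524f4c4964615e5b586a67b1afaca9a6a19d9a97948f8b8885827d797673706d6a67645f5b5855504c4946413d3ab4b2afaca7a3a09d9a95918e8b88837f7c797673706d6a65615e5b56524f4c4743403d3834b7b5b2ada9a6a3a09b9794918e8985827f7c797673706b6764615c5855524d494643bab8b5b2afaca7a3a09d9a95918e8b88837f7c797673706d6a65615e5b56524f4c474340bdbbb8b5b2ada9a6a3a09b9794918e8985827f7c797673706b6764615c5855524d4946433e3a37c0bebbb8b3afaca9a6a19d9a97948f8b8885827f7c7976716d6a67625e5b58534f4cc3c1bebbb8b3afaca9a6a19d9a97948f8b8885827f7c7976716d6a67625e5b58534fc6c4c1bebbb8b3afaca9a6a19d9a97948f8b8885827f7c7976716d6a67625e5b5853a09d9a9794b2afaca9a6a3a09d9a97)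 i0)) (nat_lit 0) (nat_lit 500) tl)
    = ?xq9052 → (List ℕ)) ?hq9052; (case hq9052 => (set_option maxRecDepth 1000000 in set_option simprocs false in conv => lhs; reduce; dsimp only)); intro _; exact ?xq9052 y1 : List ℕ)
theorem nh_ok13 : nilB 14 nhC13 (nhW ++ [13] ++ nhW ++ [mir 13]) = true := by (first | (rewrite [Cfsg.Agent.KO190af8a.e25, Cfsg.Agent.KO190af8a.e26]; decide +kernel) | decide +kernel)

end Cfsg.Agent.MonsterP.NhatData
end

-- part: MonsterP/Nhat
section
/-!
# The element swapping the arms 1 and 2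

Let `t` satisfy the relations `PRel` (nodes of `Y553`).  The longest element `nh` of the `S12` generated by the path
`f1 e1 d1 c1 b1 a b2 c2 d2 e2 f2` swaps the arms 1 and 2 and centralises `b3, c3, d3`.
-/

set_option autoImplicit false

namespace Cfsg.Agent.MonsterP.Nhat

open Cfsg.Agent.Bimonster Cfsg.Agent.Bimonster.Tits Cfsg.Agent.MonsterP.NhatData

variable {G : Type*} [Group G]

theorem mir_lt : ∀ i < 14, mir i < 14 := by decide

theorem adjB_mir : ∀ i < 14, ∀ j < 14, adjB (mir i) (mir j) = adjB i j := by decide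

/-- the mirrored family -/
theorem cox_mir {t : ℕ → G} (h : CoxRel 14 t) : CoxRel 14 (fun i => t (mir i)) where
  sq i hi := h.sq _ (mir_lt i hi)
  cm i hi j hj hij := h.cm _ (mir_lt i hi) _ (mir_lt j hj) (by rw [adjB_mir i hi j hj, hij])
  br i hi j hj hij := h.br _ (mir_lt i hi) _ (mir_lt j hj) (by rw [adjB_mir i hi j hj, hij])

theorem ev_map (t : ℕ → G) (f : ℕ → ℕ) (w : List ℕ) : ev (fun i => t (f i)) w = ev t (w.map f) := by
  unfold ev
  rw [List.map_map]
  rfl

/-- the conjugator `w₁` -/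
def nw1 : List ℕ := nvW ++ [5] ++ [4, 3, 4]

theorem lt_of_all {n : ℕ} {w : List ℕ} (h : w.all (fun i => Nat.blt i n) = true) : ∀ i ∈ w, i < n := by
  intro i hi
  simpa using List.all_eq_true.1 h i hi

theorem ev_rev {t : ℕ → G} (h : CoxRel 14 t) {w : List ℕ}
    (hw : w.all (fun i => Nat.blt i 14) = true) : ev t w.reverse = (ev t w)⁻¹ :=
  ev_reverse fun i hi => h.sq i (lt_of_all hw i hi)

/-- `b₃` conjugated by `w₁` -/
theorem conj_w1 {t : ℕ → G} (h : CoxRel 14 t) (h5 : t 5 = ev t f1a ^ 9) :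
    (ev t nw1)⁻¹ * t 11 * ev t nw1 = ev t nAL := by
  have h1 : ev t nAL = ev t nAR := eq_of_nilB (n := 14) h (lt_of_all (by decide)) nA_ok
  rw [h1]
  unfold nw1 nAR
  rw [← ev_rev h (by decide)]
  simp only [List.reverse_append, ev_append, ev_rep, ← h5]
  simp only [List.reverse_cons, List.reverse_nil, List.nil_append, List.cons_append, ev_cons,
    ev_nil, mul_one, mul_assoc]

/-- the mirror image of `nAL` has the same value -/
theorem ev_nAL_mir {t : ℕ → G} (h : CoxRel 14 t)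
    (hu : ev t (nuW.map mir) = ev t nuW) : ev t (nAL.map mir) = ev t nAL := by
  have hr : ev t (nuW.map mir).reverse = ev t nuW.reverse := by
    rw [ev_rev h (by decide), ev_rev h (by decide), hu]
  unfold nAL
  simp only [List.map_append, List.map_reverse, List.reverse_append, List.reverse_reverse,
    ev_append, hu, hr, List.map_cons, List.map_nil]
  rfl

/-- certificate -/
def nuC : List ℕ := [24, 16, 19, 21, 7, 10, 13, 16, 18, 15, 10, 12, 4, 7, 9, 6, 3, 0]

theorem nu_ok : nilB 14 nuC (nuW ++ (nuW.map mir).reverse) = true := by decide +kernel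

theorem ev_nu {t : ℕ → G} (h : CoxRel 14 t) : ev t (nuW.map mir) = ev t nuW :=
  (eq_of_nilB (n := 14) h (lt_of_all (by decide)) nu_ok).symm

theorem comm_word {t : ℕ → G} {x : G} {w : List ℕ} (h : ∀ i ∈ w, t i * x = x * t i) :
    ev t w * x = x * ev t w := by
  induction w with
  | nil => simp
  | cons i w ih =>
    rw [ev_cons, mul_assoc, ih fun j hj => h j (by simp [hj]), ← mul_assoc, h i (by simp), mul_assoc]

theorem nhW_eq : nhW = nsW ++ nw1.map mir ++ nw1.reverse := by decide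

/-- the element `n̂` commutes with `b₃` -/
theorem nh_comm {t : ℕ → G} (h : CoxRel 14 t) (h5 : t 5 = ev t f1a ^ 9) (h10 : t 10 = ev t f2a ^ 9) :
    ev t nhW * t 11 = t 11 * ev t nhW := by
  have e1 := conj_w1 h h5
  have e2 := conj_w1 (cox_mir h) (by
    show t 10 = _
    rw [ev_map t mir, h10]
    rfl)
  rw [ev_map t mir nw1, ev_map t mir nAL, ev_nAL_mir h (ev_nu h)] at e2
  have e3 : t (mir 11) = t 11 := rfl
  rw [e3] at e2
  have e4 : ev t (nw1.map mir) * (ev t nw1)⁻¹ * t 11 = t 11 * (ev t (nw1.map mir) * (ev t nw1)⁻¹) := by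
    have h1 : (ev t nw1)⁻¹ * t 11 = ev t nAL * (ev t nw1)⁻¹ := by
      rw [← e1]; group
    have h2 : ev t (nw1.map mir) * ev t nAL = t 11 * ev t (nw1.map mir) := by
      rw [← e2]; group
    rw [mul_assoc, h1, ← mul_assoc, h2]
    group
  have hs : ev t nsW * t 11 = t 11 * ev t nsW := by
    apply comm_word
    intro i hi
    have : ∀ i ∈ nsW, i < 14 ∧ adjB i 11 = false := by decide
    exact h.cm i (this i hi).1 11 (by norm_num) (this i hi).2
  rw [nhW_eq, ev_append, ev_append, ev_rev h (by decide), mul_assoc (ev t nsW), mul_assoc (ev t nsW), e4,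
    ← mul_assoc, hs]
  group

theorem nh_sq {t : ℕ → G} (h : CoxRel 14 t) : ev t nhW * ev t nhW = 1 := by
  rw [← ev_append]
  exact nilB_sound h nhSq_ok

theorem nh_conj_aux {t : ℕ → G} (h : CoxRel 14 t) {i : ℕ} (hi : i < 14) {c : List ℕ}
    (hc : nilB 14 c (nhW ++ [i] ++ nhW ++ [mir i]) = true) :
    ev t nhW * t i * ev t nhW = t (mir i) := by
  have := nilB_sound h hc
  simp only [ev_append, ev_cons, ev_nil, mul_one] at this
  rw [eq_inv_of_mul_eq_one_left this]
  exact inv_eq_of_mul_eq_one_left (h.sq _ (mir_lt i hi))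

/-- `n̂` swaps the arms 1 and 2 -/
theorem nh_conj {t : ℕ → G} (h : CoxRel 14 t) (h5 : t 5 = ev t f1a ^ 9) (h10 : t 10 = ev t f2a ^ 9)
    {i : ℕ} (hi : i < 14) : ev t nhW * t i * ev t nhW = t (mir i) := by
  interval_cases i
  · exact nh_conj_aux h hi nh_ok0
  · exact nh_conj_aux h hi nh_ok1
  · exact nh_conj_aux h hi nh_ok2
  · exact nh_conj_aux h hi nh_ok3
  · exact nh_conj_aux h hi nh_ok4
  · exact nh_conj_aux h hi nh_ok5
  · exact nh_conj_aux h hi nh_ok6
  · exact nh_conj_aux h hi nh_ok7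
  · exact nh_conj_aux h hi nh_ok8
  · exact nh_conj_aux h hi nh_ok9
  · exact nh_conj_aux h hi nh_ok10
  · rw [nh_comm h h5 h10, mul_assoc, nh_sq h, mul_one]
    rfl
  · exact nh_conj_aux h hi nh_ok12
  · exact nh_conj_aux h hi nh_ok13

/-- words are mirrored by conjugation with `n̂` -/
theorem nh_word {t : ℕ → G} (h : CoxRel 14 t) (h5 : t 5 = ev t f1a ^ 9) (h10 : t 10 = ev t f2a ^ 9)
    {w : List ℕ} (hw : ∀ i ∈ w, i < 14) : ev t nhW * ev t w * ev t nhW = ev t (w.map mir) := by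
  induction w with
  | nil => simp [nh_sq h]
  | cons i w ih =>
    rw [List.map_cons, ev_cons, ev_cons, ← ih fun j hj => hw j (by simp [hj]),
      ← nh_conj h h5 h10 (hw i (by simp))]
    have : ev t nhW * t i * ev t nhW * (ev t nhW * ev t w * ev t nhW) =
        ev t nhW * t i * (ev t nhW * ev t nhW) * ev t w * ev t nhW := by
      simp only [mul_assoc]
    rw [this, nh_sq h, mul_one]
    simp only [mul_assoc]

end Cfsg.Agent.MonsterP.Nhat
end

-- part: MonsterP/Cover
section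
/-!
# The covering defined by a subgroup and an edge element

`π : Γ →* G` onto, `G` acts on `X`, `H ≤ Γ` is mapped isomorphically onto the stabiliser of `x₀`,
`n ∈ Γ` an involution such that the stabiliser of `π n • x₀` in `H` is contained in `n H n⁻¹`.  Then
`Γ ⧸ H → X` is a covering of the orbital graphs of `(H, n H)` and `(x₀, π n • x₀)`.
`Closed`: the triangles all of whose lifts close; they form a `G`-invariant set.
-/

set_option autoImplicit false

namespace Cfsg.Agent.MonsterP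

open Cfsg.Agent.MonsterU.Morse

variable {Γ G X : Type*} [Group Γ] [Group G] [MulAction G X]

/-- The data of the covering. -/
structure CovData (π : Γ →* G) (H : Subgroup Γ) (n : Γ) (x₀ : X) : Prop where
  surj : Function.Surjective π
  inj : ∀ h ∈ H, π h = 1 → h = 1
  fix : ∀ h ∈ H, π h • x₀ = x₀
  onto : ∀ g : G, g • x₀ = x₀ → ∃ h ∈ H, π h = g
  sq : n * n = 1
  edge : ∀ h ∈ H, π h • π n • x₀ = π n • x₀ → n⁻¹ * h * n ∈ H

/-- Adjacency downstairs: the orbital of `(x₀, π n • x₀)`. -/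
def Adj (π : Γ →* G) (n : Γ) (x₀ : X) (x y : X) : Prop :=
  ∃ g : G, x = g • x₀ ∧ y = g • π n • x₀

/-- Adjacency upstairs: the orbital of `(H, n H)`. -/
def Adj' (H : Subgroup Γ) (n : Γ) (u v : Γ ⧸ H) : Prop :=
  ∃ g : Γ, u = (g : Γ ⧸ H) ∧ v = ((g * n : Γ) : Γ ⧸ H)

theorem Adj.smul {π : Γ →* G} {n : Γ} {x₀ x y : X} (h : Adj π n x₀ x y) (m : G) :
    Adj π n x₀ (m • x) (m • y) := by
  obtain ⟨g, rfl, rfl⟩ := h
  exact ⟨m * g, by rw [mul_smul], by rw [mul_smul]⟩

theorem Adj'.smul {H : Subgroup Γ} {n : Γ} {u v : Γ ⧸ H} (h : Adj' H n u v) (m : Γ) :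
    Adj' H n (m • u) (m • v) := by
  obtain ⟨g, rfl, rfl⟩ := h
  refine ⟨m * g, rfl, ?_⟩
  rw [mul_assoc]
  rfl

namespace CovData

variable {π : Γ →* G} {H : Subgroup Γ} {n : Γ} {x₀ : X} (D : CovData π H n x₀)

/-- The projection. -/
def pr (D : CovData π H n x₀) : Γ ⧸ H → X :=
  Quotient.lift (fun g : Γ => π g • x₀) (by
    intro a b hab
    have hab' : (QuotientGroup.leftRel H) a b := hab
    rw [QuotientGroup.leftRel_apply] at hab'
    have h := D.fix _ hab'
    rw [map_mul, map_inv, mul_smul, inv_smul_eq_iff] at h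
    exact h.symm)

include D

theorem pr_mk (g : Γ) : D.pr (g : Γ ⧸ H) = π g • x₀ := rfl

theorem pr_smul (g : Γ) (u : Γ ⧸ H) : D.pr (g • u) = π g • D.pr u := by
  obtain ⟨a, rfl⟩ := QuotientGroup.mk_surjective u
  show D.pr ((g * a : Γ) : Γ ⧸ H) = _
  rw [pr_mk, pr_mk, map_mul, mul_smul]

/-- the kernel of `π` acts freely -/
theorem free {g : Γ} (hg : π g = 1) {u : Γ ⧸ H} (hu : g • u = u) : g = 1 := by
  obtain ⟨a, rfl⟩ := QuotientGroup.mk_surjective u
  have h1 : ((g * a : Γ) : Γ ⧸ H) = (a : Γ ⧸ H) := hu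
  rw [eq_comm, QuotientGroup.eq] at h1
  have h2 : a⁻¹ * (g * a) = 1 := by
    apply D.inj _ h1
    rw [map_mul, map_mul, hg, one_mul, ← map_mul, inv_mul_cancel, map_one]
  have h3 : g * a = a := by rw [← mul_right_inj a⁻¹, h2, inv_mul_cancel]
  exact mul_eq_right.1 h3

/-- two elements with the same image and the same value at a point are equal -/
theorem eq_of {g g' : Γ} (h : π g = π g') {u : Γ ⧸ H} (hu : g • u = g' • u) : g = g' := by
  have h1 : π (g'⁻¹ * g) = 1 := by rw [map_mul, map_inv, h, inv_mul_cancel]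
  have h2 : (g'⁻¹ * g) • u = u := by rw [mul_smul, hu, inv_smul_smul]
  exact (inv_mul_eq_one.1 (D.free h1 h2)).symm

/-- the kernel of `π` is transitive on the fibres -/
theorem fibre {u v : Γ ⧸ H} (h : D.pr u = D.pr v) : ∃ r : Γ, π r = 1 ∧ r • u = v := by
  obtain ⟨a, rfl⟩ := QuotientGroup.mk_surjective u
  obtain ⟨b, rfl⟩ := QuotientGroup.mk_surjective v
  rw [pr_mk, pr_mk] at h
  obtain ⟨c, hc, hc'⟩ := D.onto ((π a)⁻¹ * π b) (by rw [mul_smul, ← h, inv_smul_smul])
  refine ⟨b * c⁻¹ * a⁻¹, ?_, ?_⟩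
  · rw [map_mul, map_mul, map_inv, map_inv, hc']
    group
  · show ((b * c⁻¹ * a⁻¹ * a : Γ) : Γ ⧸ H) = (b : Γ ⧸ H)
    rw [inv_mul_cancel_right, eq_comm, QuotientGroup.eq, ← mul_assoc, inv_mul_cancel, one_mul]
    exact H.inv_mem hc

/-- an element over `m` with a prescribed value -/
theorem exists_over (m : G) {u v : Γ ⧸ H} (h : m • D.pr u = D.pr v) :
    ∃ g : Γ, π g = m ∧ g • u = v := by
  obtain ⟨g, rfl⟩ := D.surj m
  obtain ⟨r, hr, hr'⟩ := D.fibre (u := g • u) (v := v) (by rw [D.pr_smul, h])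
  exact ⟨r * g, by rw [map_mul, hr, one_mul], by rw [mul_smul, hr']⟩

theorem symm' {u v : Γ ⧸ H} (h : Adj' H n u v) : Adj' H n v u := by
  obtain ⟨g, rfl, rfl⟩ := h
  exact ⟨g * n, rfl, by rw [mul_assoc, D.sq, mul_one]⟩

theorem symm {x y : X} (h : Adj π n x₀ x y) : Adj π n x₀ y x := by
  obtain ⟨g, rfl, rfl⟩ := h
  refine ⟨g * π n, by rw [mul_smul], ?_⟩
  rw [mul_smul, ← mul_smul (π n) (π n), ← map_mul, D.sq, map_one, one_smul]

theorem map {u v : Γ ⧸ H} (h : Adj' H n u v) : Adj π n x₀ (D.pr u) (D.pr v) := by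
  obtain ⟨g, rfl, rfl⟩ := h
  exact ⟨π g, rfl, by rw [pr_mk, map_mul, mul_smul]⟩

theorem lift (u : Γ ⧸ H) (y : X) (h : Adj π n x₀ (D.pr u) y) : ∃ v, D.pr v = y ∧ Adj' H n u v := by
  obtain ⟨a, rfl⟩ := QuotientGroup.mk_surjective u
  obtain ⟨g, h1, rfl⟩ := h
  rw [pr_mk] at h1
  obtain ⟨c, hc, hc'⟩ := D.onto ((π a)⁻¹ * g) (by rw [mul_smul, ← h1, inv_smul_smul])
  refine ⟨((a * c * n : Γ) : Γ ⧸ H), ?_, ⟨a * c, ?_, rfl⟩⟩
  · rw [pr_mk, map_mul, map_mul, hc', mul_inv_cancel_left, mul_smul]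
  · rw [QuotientGroup.eq, inv_mul_cancel_left]
    exact hc

theorem uniq (u v w : Γ ⧸ H) (hv : Adj' H n u v) (hw : Adj' H n u w) (h : D.pr v = D.pr w) :
    v = w := by
  obtain ⟨a, rfl, rfl⟩ := hv
  obtain ⟨b, hb, rfl⟩ := hw
  rw [QuotientGroup.eq] at hb
  rw [pr_mk, pr_mk, map_mul, map_mul, mul_smul, mul_smul] at h
  have h1 : π (a⁻¹ * b) • π n • x₀ = π n • x₀ := by
    rw [map_mul, map_inv, mul_smul, inv_smul_eq_iff]
    exact h.symm
  rw [QuotientGroup.eq]
  have h2 := D.edge _ hb h1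
  have e : (a * n)⁻¹ * (b * n) = n⁻¹ * (a⁻¹ * b) * n := by group
  rw [e]
  exact h2

/-- The closed triangles: all three sides are edges and every lift of two sides closes. -/
def Closed (D : CovData π H n x₀) (x y w : X) : Prop :=
  Adj π n x₀ x y ∧ Adj π n x₀ x w ∧ Adj π n x₀ y w ∧
    ∀ u v t, D.pr u = x → D.pr v = y → D.pr t = w → Adj' H n u v → Adj' H n u t → Adj' H n v t

theorem Closed.swap {x y w : X} (h : D.Closed x y w) : D.Closed x w y := by
  obtain ⟨h1, h2, h3, h4⟩ := h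
  exact ⟨h2, h1, D.symm h3, fun u v t hu hv ht huv hut => D.symm' (h4 u t v hu ht hv hut huv)⟩

theorem Closed.rot {x y w : X} (h : D.Closed x y w) : D.Closed y w x := by
  obtain ⟨h1, h2, h3, h4⟩ := h
  refine ⟨h3, D.symm h1, D.symm h2, ?_⟩
  intro v t u hv ht hu hvt hvu
  obtain ⟨t', ht', hut'⟩ := D.lift u w (by rw [hu]; exact h2)
  have h5 := h4 u v t' hu hv ht' (D.symm' hvu) hut'
  have h6 : t = t' := D.uniq v t t' hvt h5 (by rw [ht, ht'])
  rw [h6]
  exact D.symm' hut'

/-- The covering of graphs. -/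
theorem cover : Cfsg.Agent.MonsterU.Morse.Cover (Adj π n x₀) (Adj' H n) D.Closed D.pr where
  symm := D.symm
  symm' := D.symm'
  map := D.map
  lift := D.lift
  uniq := D.uniq
  rot := fun h => h.rot
  swap := fun h => h.swap
  adj := fun h => h.1
  tri := fun u v t h huv hut => h.2.2.2 u v t rfl rfl rfl huv hut

/-- one closed lift suffices -/
theorem closed_of_lift {u v t : Γ ⧸ H} (h1 : Adj' H n u v) (h2 : Adj' H n u t) (h3 : Adj' H n v t) :
    D.Closed (D.pr u) (D.pr v) (D.pr t) := by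
  refine ⟨D.map h1, D.map h2, D.map h3, ?_⟩
  intro u' v' t' hu hv ht huv hut
  obtain ⟨r, hr, rfl⟩ := D.fibre hu.symm
  have hp : ∀ a : Γ ⧸ H, D.pr (r • a) = D.pr a := fun a => by rw [D.pr_smul, hr, one_smul]
  have e1 : v' = r • v := D.uniq _ _ _ huv (h1.smul r) (by rw [hv, hp])
  have e2 : t' = r • t := D.uniq _ _ _ hut (h2.smul r) (by rw [ht, hp])
  rw [e1, e2]
  exact h3.smul r

/-- the set of closed triangles is invariant -/
theorem Closed.smul {x y w : X} (h : D.Closed x y w) (m : G) : D.Closed (m • x) (m • y) (m • w) := by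
  obtain ⟨h1, h2, h3, h4⟩ := h
  refine ⟨h1.smul m, h2.smul m, h3.smul m, ?_⟩
  intro u v t hu hv ht huv hut
  obtain ⟨g, rfl⟩ := D.surj m
  have hp : ∀ {a : Γ ⧸ H} {b : X}, D.pr a = π g • b → D.pr (g⁻¹ • a) = b := by
    intro a b hab
    rw [D.pr_smul, hab, map_inv, inv_smul_smul]
  have h5 := h4 (g⁻¹ • u) (g⁻¹ • v) (g⁻¹ • t) (hp hu) (hp hv) (hp ht) (huv.smul _) (hut.smul _)
  have h6 := h5.smul g
  rwa [smul_inv_smul, smul_inv_smul] at h6

end CovData

end Cfsg.Agent.MonsterP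
end

-- part: MonsterP/W2
section
/-!
# The closed triangle in the `S12`

The duads `{11,12}`, `{1,2}`, `{6,7}` of the path `S12` (the points of `Γ ⧸ H` belonging to the nodes 10, 5 and 0) are
pairwise adjacent.
-/

set_option autoImplicit false
set_option maxRecDepth 100000

namespace Cfsg.Agent.MonsterP.W2

open Cfsg.Agent.Bimonster Cfsg.Agent.Bimonster.Tits Cfsg.Agent.MonsterP.NhatData
open Cfsg.Agent.MonsterP.Nhat

variable {G : Type*} [Group G]

/-- the nodes of `Y433` -/
def hNodes : List ℕ := [0, 1, 2, 3, 4, 6, 7, 8, 11, 12, 13]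

/-- the subgroup generated by the nodes of `Y433` -/
def HP (t : ℕ → G) : Subgroup G := Subgroup.closure {g | ∃ i ∈ hNodes, t i = g}

theorem mem_HP {t : ℕ → G} {i : ℕ} (hi : i ∈ hNodes) : t i ∈ HP t :=
  Subgroup.subset_closure ⟨i, hi, rfl⟩

theorem ev_mem {t : ℕ → G} {K : Subgroup G} {w : List ℕ} (h : ∀ i ∈ w, t i ∈ K) : ev t w ∈ K := by
  induction w with
  | nil => exact K.one_mem
  | cons i w ih =>
    rw [ev_cons]
    exact K.mul_mem (h i (by simp)) (ih fun j hj => h j (by simp [hj]))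

theorem t5_mem {t : ℕ → G} (h5 : t 5 = ev t f1a ^ 9) : t 5 ∈ HP t := by
  rw [h5]
  refine Subgroup.pow_mem _ (ev_mem fun i hi => mem_HP ?_) _
  revert i
  decide

theorem t10_mem {t : ℕ → G} (h10 : t 10 = ev t f2a ^ 9) : t 10 ∈ HP t := by
  rw [h10]
  refine Subgroup.pow_mem _ (ev_mem fun i hi => mem_HP ?_) _
  revert i
  decide

/-- every letter except 9 lies in `HP` -/
theorem ev_mem_HP {t : ℕ → G} (h5 : t 5 = ev t f1a ^ 9) (h10 : t 10 = ev t f2a ^ 9) {w : List ℕ}
    (hw : w.all (fun i => Nat.blt i 14 && !Nat.beq i 9) = true) : ev t w ∈ HP t := by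
  apply ev_mem
  intro i hi
  have h1 := List.all_eq_true.1 hw i hi
  rw [Bool.and_eq_true, Nat.blt_eq] at h1
  obtain ⟨h1, h2⟩ := h1
  interval_cases i
  all_goals first
    | exact mem_HP (by decide)
    | exact t5_mem h5
    | exact t10_mem h10
    | exact absurd h2 (by decide)

/-- moves the point of node 5 to the point of node 0 -/
def hW : List ℕ := [1, 0, 2, 1, 3, 2, 4, 3, 5, 4]

/-- a word without the letter 9 -/
def sW : List ℕ := (beta% (fun (vq0 : List ℕ) (vq1 : type_of% @lq269e7e5b21_0) (vq2 : type_of% @lq269e7e5b21_1) => (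
    (let vqy1 : type_of% vq0 := (let vqy2 : type_of% vq0 := (let vqy3 : type_of% vq0 := (vq2 1 (vq2 2 (vq2 3 (vq2 4 (vq2 5 (vq2 10 vq1))))));
    (vq2 4 (vq2 5 (vq2 8 (vq2 7 (vq2 6 (vq2 0 vqy3)))))));
    (let vqy4 : type_of% vqy2 := (vq2 7 (vq2 6
    (vq2 0 (vq2 1 (vq2 2 (vq2 3 vqy2))))));
    (vq2 1 (vq2 2 (vq2 3 (vq2 4 (vq2 5 vqy4)))))));
    (let vqy5 : type_of% vqy1 := (let vqy6 : type_of% vqy1 := (vq2 2 (vq2 3 (vq2 4 (vq2 5 (vq2 6 (vq2 0 vqy1))))));
    (vq2 2 (vq2 3 (vq2 4 (vq2 5 (vq2 0 (vq2 1 vqy6)))))));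
    (let vqy7 : type_of% vqy5 := (vq2 5 (vq2 2 (vq2 3 (vq2 4 (vq2 5 (vq2 1 vqy5))))));
    (vq2 5 (vq2 4 (vq2 5 (vq2 3 (vq2 4 vqy7)))))))) :
    List ℕ))
    _ (delta% @lq269e7e5b21_0 :) (delta% @lq269e7e5b21_1 :))

/-- certificate -/
def sC : List ℕ :=
  let y0 : List ℕ := (by
  refine (?fq9053 : (pk61l (fun i0 => (pk61d (nat_lit 7) 
    (nat_lit 0xc3090e3078b2440a983678e192c4d09f3891127549901a2c456ab509511f386582e56a12b362b9b396ac5628467ce1726f1d3562b14233e70bbf7ae9bb462b95a84a8a1407ae9bb463161c07b225c78701db768bd5a84a80e199d323c380edbb45ead42540728cf991e1c076dda2f56a12a0a94a7cc931a1c07ae9bb462babd5a53e6498d0e05ab15694fbb82e58ab4a6c98d0df3a6ed18ac5095163c372c55a5364c686f9d3768c56284b9b261b962ad29b263437ce9bb462b1469cf930dcb15694d931a1be74dda3159b3567c986f5bb15694f992634380f77edd59f261bd6ec55a5cb86dd59f275f1d386d) i0)) (nat_lit 0) (nat_lit 272) List.nil : List ℕ)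
    = ?xq9053 → (List ℕ)) ?hq9053; (case hq9053 => (set_option maxRecDepth 1000000 in set_option simprocs false in conv => lhs; reduce; dsimp only)); intro _; exact ?xq9053 : List ℕ)
  (by
  refine (?fq9054 : (fun tl : List ℕ => pk61l (fun i0 => (pk61d (nat_lit 8) 
    (nat_lit 0x6a67625e5b5855504c494643403b3734312e7b7974706d6a67625e5b5855504c494643403b3734317e7c7974706d6a67625e5b5855504c494643403b3734817f7c7974706d6a67625e5b5855504c494643403b3784827f7c7974706d6a67625e5b5855504c494643403b615e5b585573706d6a6764615e5b588785827f7c797673706d6a6764615e5b5855524f4c494643403d3a3734312e2b2825221f1c191613100d0a0704015154504c494643403d3a373454524f4c494643403d3a3757534f4c494643403d5a58534f4c4946435d5b58534f4c49605e5b58534f63615e5b58534d47413b37322e2b2825221f1c191613100d0a0704312e2b3a373431403d3a374643403d4c494643403b352f2925221f1c191613100d0a0728252e2b34313a37342f29231f1c191613100d0a22282e2b26201c191613100d25201c191613101f1c191613524f4c494643403d3a3734312e2b2825221f5755524f5a58555d5b60635f59534d4743403d3a3734312e2b2825221f1c191613100d0a07024643404c4946524f4c5855525e5b5855504a443e3a3734312e2b2825221f1c191613100d083d3a434049464f4c49443e3834312e2b2825221f1c1916130e373d43403b35312e2b2825221f1c19143a35312e2b2825221f1a34312e2b282520332f2b2833312e2b2636322e3634312c39353937323c38)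 i0)) (nat_lit 0) (nat_lit 500) tl)
    = ?xq9054 → (List ℕ)) ?hq9054; (case hq9054 => (set_option maxRecDepth 1000000 in set_option simprocs false in conv => lhs; reduce; dsimp only)); intro _; exact ?xq9054 y0 : List ℕ)

/-- certificate -/
def hC : List ℕ := [26, 30, 27, 20, 24, 21, 14, 18, 15, 8, 12, 9, 2, 6, 3, 0]

private noncomputable def _root_.Cfsg.Agent.KO190af8a.k27.{ku0, ku1} : ((x0 : Sort (ku0+1)) → ((x1 : Sort (ku1+1)) → ((x0 → x1) → ((@List.{ku0} @x0) → @List.{ku1} @x1)))) := @(fun (x0 : Sort (ku0+1)) (x1 : Sort (ku1+1)) (x2 : (x0 → x1)) (x3 : @List.{ku0} @x0) => @List.rec.{(ku1+1), ku0} @x0 @(fun (x4 : @List.{ku0} @x0) => @List.{ku1} @x1) (@List.nil.{ku1} @x1) @(fun (x4 : x0) (x5 : @List.{ku0} @x0) (x6 : @List.{ku1} @x1) => @List.cons.{ku1} @x1 (@x2 @x4) @x6) @x3)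
private theorem _root_.Cfsg.Agent.KO190af8a.e27.{ku0, ku1} : @List.map.{ku0, ku1} = @_root_.Cfsg.Agent.KO190af8a.k27.{ku0, ku1} := by delta _root_.Cfsg.Agent.KO190af8a.k27; funext a0 a1 a2 a3; refine (_root_.Cfsg.Agent.KO190af8a.e1 (fun a3 => @List.map.{ku0, ku1} a0 a1 a2 a3) ?_ (fun c0 c1 => ?_) a3 :) <;> (rfl')

theorem s_ok : nilB 14 sC (((hW.map mir).reverse ++ hW ++ nhW) ++ sW.reverse) = true := by
  (first | (rewrite [Cfsg.Agent.KO190af8a.e25, Cfsg.Agent.KO190af8a.e16.{0}, Cfsg.Agent.KO190af8a.e27.{0, 0}, Cfsg.Agent.KO190af8a.e26]; decide +kernel) | decide +kernel)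

theorem h_ok : nilB 14 hC ((hW ++ [5] ++ hW.reverse) ++ [0].reverse) = true := by decide +kernel

/-- `h t₅ h⁻¹ = t₀` -/
theorem h_conj {t : ℕ → G} (h : CoxRel 14 t) : ev t hW * t 5 * (ev t hW)⁻¹ = t 0 := by
  have h1 : ev t (hW ++ [5] ++ hW.reverse) = ev t [0] :=
    eq_of_nilB (n := 14) h (lt_of_all (by decide)) h_ok
  simpa only [ev_append, ev_cons, ev_nil, mul_one, ev_rev h (by decide : hW.all (fun i => Nat.blt i 14) = true)]
    using h1

/-- `(h n̂) t₁₀ (h n̂)⁻¹ = t₀` -/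
theorem hn_conj {t : ℕ → G} (h : CoxRel 14 t) (h5 : t 5 = ev t f1a ^ 9)
    (h10 : t 10 = ev t f2a ^ 9) :
    (ev t hW * ev t nhW) * t 10 * (ev t hW * ev t nhW)⁻¹ = t 0 := by
  have h1 : ev t nhW * t 10 * (ev t nhW)⁻¹ = t 5 := by
    rw [inv_eq_of_mul_eq_one_left (nh_sq h)]
    exact nh_conj h h5 h10 (by norm_num)
  calc (ev t hW * ev t nhW) * t 10 * (ev t hW * ev t nhW)⁻¹
      = ev t hW * (ev t nhW * t 10 * (ev t nhW)⁻¹) * (ev t hW)⁻¹ := by group
    _ = t 0 := by rw [h1, h_conj h]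

theorem hW_mem {t : ℕ → G} (h5 : t 5 = ev t f1a ^ 9) (h10 : t 10 = ev t f2a ^ 9) :
    ev t hW ∈ HP t := ev_mem_HP h5 h10 (by decide)

/-- the element `k = n̂ h` maps `H` to `n̂ H` and `n̂ H` to `h n̂ H` -/
theorem k_mem {t : ℕ → G} (h : CoxRel 14 t) (h5 : t 5 = ev t f1a ^ 9)
    (h10 : t 10 = ev t f2a ^ 9) :
    (ev t hW * ev t nhW)⁻¹ * ((ev t nhW * ev t hW) * ev t nhW) ∈ HP t := by
  have h1 : ev t ((hW.map mir).reverse ++ hW ++ nhW) = ev t sW :=
    eq_of_nilB (n := 14) h (lt_of_all (by decide)) s_ok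
  have h2 : ev t nhW * ev t hW * ev t nhW = ev t (hW.map mir) := nh_word h h5 h10 (by decide)
  rw [ev_append, ev_append, ev_rev h (by decide)] at h1
  have h3 : (ev t hW * ev t nhW)⁻¹ * ((ev t nhW * ev t hW) * ev t nhW) = (ev t sW)⁻¹ := by
    rw [h2, ← h1]
    group
  rw [h3]
  exact Subgroup.inv_mem _ (ev_mem_HP h5 h10 (by decide))

variable {t : ℕ → G}

/-- the base edge -/
theorem adj_base (n : G) : Adj' (HP t) n ((1 : G) : G ⧸ HP t) (n : G ⧸ HP t) :=
  ⟨1, rfl, by rw [one_mul]⟩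

/-- the edge from `H` to `h n̂ H` -/
theorem adj_h (h5 : t 5 = ev t f1a ^ 9) (h10 : t 10 = ev t f2a ^ 9) :
    Adj' (HP t) (ev t nhW) ((1 : G) : G ⧸ HP t) ((ev t hW * ev t nhW : G) : G ⧸ HP t) := by
  refine ⟨ev t hW, ?_, rfl⟩
  rw [QuotientGroup.eq, inv_one, one_mul]
  exact hW_mem h5 h10

/-- the edge from `n̂ H` to `h n̂ H` -/
theorem adj_nh (h : CoxRel 14 t) (h5 : t 5 = ev t f1a ^ 9) (h10 : t 10 = ev t f2a ^ 9) :
    Adj' (HP t) (ev t nhW) ((ev t nhW : G) : G ⧸ HP t) ((ev t hW * ev t nhW : G) : G ⧸ HP t) := by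
  refine ⟨ev t nhW * ev t hW, ?_, ?_⟩
  · rw [QuotientGroup.eq, inv_mul_cancel_left]
    exact hW_mem h5 h10
  · rw [QuotientGroup.eq]
    exact k_mem h h5 h10

/-- the whole statement (W2) -/
theorem w2 (h : PRel t) : ∃ g ∈ HP t,
    (g * ev t nhW) * t 10 * (g * ev t nhW)⁻¹ = t 0 ∧
    Adj' (HP t) (ev t nhW) ((1 : G) : G ⧸ HP t) ((g * ev t nhW : G) : G ⧸ HP t) ∧
    Adj' (HP t) (ev t nhW) ((ev t nhW : G) : G ⧸ HP t) ((g * ev t nhW : G) : G ⧸ HP t) :=
  ⟨ev t hW, hW_mem h.f1a h.f2a, hn_conj h.cox h.f1a h.f2a, adj_h h.f1a h.f2a,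
    adj_nh h.cox h.f1a h.f2a⟩

end Cfsg.Agent.MonsterP.W2
end

-- part: MonsterP/CovP
section
/-!
# The covering data for a group with the Monster relations

`(H0)` and `(edge)` of the covering argument: `π : Γ →* G` onto the model, `Γ` generated by `t` with `PRel t`,
`H = ⟨Y433⟩`.  Inputs: simplicity of the presented Baby Monster `BM`, the index of the subgroup of `Y333` in `BM`,
the number of conjugates of a node in `BM`, and a few facts on the stabiliser of `x₀` in the model.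
-/

set_option autoImplicit false
set_option linter.unusedVariables false

namespace Cfsg.Agent.MonsterP.CovP

open Cfsg.Spor
open Cfsg.Agent.Bimonster Cfsg.Agent.Bimonster.Tits
open Cfsg.Agent.MonsterP.NhatData Cfsg.Agent.MonsterP.Nhat Cfsg.Agent.MonsterP.TwoB
open Cfsg.Agent.MonsterP.W2

/-- the subgroup of `Y333` in the presented Baby Monster -/
def KB : Subgroup Spor.BabyMonster :=
  Subgroup.closure {g | ∃ a : BabyMonster.Gen, a ≠ .t1 ∧ (PresentedGroup.of a : Spor.BabyMonster) = g}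

/-- The facts on the presented Baby Monster. -/
structure BFacts : Prop where
  simple : IsSimpleGroup Spor.BabyMonster
  fin : Finite Spor.BabyMonster
  idx : KB.index ≤ 27143910000
  cls : 13571955000 ≤
    (Subgroup.centralizer {(PresentedGroup.of BabyMonster.Gen.t1 : Spor.BabyMonster)}).index

/-- The facts on the model. -/
structure MFacts {G X : Type*} [Group G] [MulAction G X] (y : ℕ → G) (x₀ : X) : Prop where
  fix : ∀ i ∈ hNodes, y i • x₀ = x₀
  cent : ∀ g : G, g • x₀ = x₀ → g * y 10 = y 10 * g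
  ne_one : y 10 ≠ 1
  ne : y 0 ≠ y 1
  stab_fin : Finite (MulAction.stabilizer G x₀)
  stab_card : Nat.card (MulAction.stabilizer G x₀) ≤ 2 * Nat.card Spor.BabyMonster
  conj : ∃ g : G, g • x₀ = x₀ ∧ g * y 5 * g⁻¹ = y 5 * y 10

section

variable {Γ G X : Type*} [Group Γ] [Group G] [MulAction G X] {t : ℕ → Γ} {π : Γ →* G} {x₀ : X}

theorem A_eq (t : ℕ → Γ) : A t = HP t := by
  apply le_antisymm
  · refine (Subgroup.closure_le _).2 ?_
    rintro _ ⟨a, rfl⟩
    exact mem_HP (by cases a <;> decide)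
  · refine (Subgroup.closure_le _).2 ?_
    rintro _ ⟨i, hi, rfl⟩
    have key : ∀ i ∈ hNodes, ∃ a : BabyMonster.Gen, mA a = i := by
      intro i hi
      fin_cases hi
      exacts [⟨.t5, rfl⟩, ⟨.t4, rfl⟩, ⟨.t3, rfl⟩, ⟨.t2, rfl⟩, ⟨.t1, rfl⟩, ⟨.t6, rfl⟩, ⟨.t7, rfl⟩,
        ⟨.t8, rfl⟩, ⟨.t9, rfl⟩, ⟨.t10, rfl⟩, ⟨.t11, rfl⟩]
    obtain ⟨a, rfl⟩ := key i hi
    exact mem_A a

theorem mem_zp {c g : Γ} (hc : c * c = 1) (hg : g ∈ Subgroup.zpowers c) : g = 1 ∨ g = c := by
  obtain ⟨m, rfl⟩ := Subgroup.mem_zpowers_iff.1 hg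
  rcases Int.even_or_odd m with ⟨k, rfl⟩ | ⟨k, rfl⟩
  · left
    rw [zpow_add, ← (Commute.refl c).mul_zpow, hc, one_zpow]
  · right
    rw [zpow_add, zpow_one, zpow_mul, zpow_two, hc, one_zpow, one_mul]

/-- no model in which the nodes lie in `⟨f2⟩` -/
theorem not_both {y : ℕ → G} {x₀ : X} (hM : MFacts y x₀) (hbr : y 0 * y 1 * y 0 = y 1 * y 0 * y 1)
    (h0 : y 0 = 1 ∨ y 0 = y 10) (h1 : y 1 = 1 ∨ y 1 = y 10) : False := by
  rcases h0 with h0 | h0
  · rw [h0] at hbr
    have : y 1 = 1 := by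
      have h2 : y 1 * y 1 = y 1 := by simpa using hbr.symm
      simpa using h2
    exact hM.ne (by rw [h0, this])
  · rcases h1 with h1 | h1
    · rw [h1] at hbr
      have : y 0 = 1 := by
        have h2 : y 0 * y 0 = y 0 := by simpa using hbr
        simpa using h2
      exact hM.ne (by rw [h1, this])
    · exact hM.ne (by rw [h0, h1])

/-- the same for elements of `Γ` -/
theorem not_both' (h : PRel t) (hM : MFacts (fun i => π (t i)) x₀)
    (h0 : π (t 0) = 1 ∨ π (t 0) = π (t 10)) (h1 : π (t 1) = 1 ∨ π (t 1) = π (t 10)) : False := by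
  refine not_both hM ?_ h0 h1
  have := h.cox.br 0 (by norm_num) 1 (by norm_num) (by decide)
  simp only [← map_mul, this]

theorem homA_bijective (hB : BFacts) (h : PRel t) (hM : MFacts (fun i => π (t i)) x₀) :
    Function.Bijective (homA h) := by
  refine ⟨?_, homA_surjective h⟩
  have := hB.simple
  rcases (inferInstance : (homA h).ker.Normal).eq_bot_or_eq_top with hk | hk
  · exact (MonoidHom.ker_eq_bot_iff _).1 hk
  · exfalso
    have htriv : ∀ a : A t, a ∈ Subgroup.zpowers (cA h) := by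
      intro a
      rw [← QuotientGroup.eq_one_iff]
      obtain ⟨b, hb⟩ := homA_surjective h (QuotientGroup.mk a)
      rw [← hb]
      have : b ∈ (homA h).ker := by rw [hk]; trivial
      exact this
    have key : ∀ a : BabyMonster.Gen, π (t (mA a)) = 1 ∨ π (t (mA a)) = π (t 10) := by
      intro a
      rcases mem_zp (cA_sq h) (htriv (gx mA t a)) with h1 | h1
      · left
        have h2 : t (mA a) = 1 := congrArg Subtype.val h1
        rw [h2, map_one]
      · right
        exact congrArg (fun x : A t => π x) h1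
    exact not_both' h hM (key .t5) (key .t4)

/-- the projection `H → BM` -/
noncomputable def psi (hB : BFacts) (h : PRel t) (hM : MFacts (fun i => π (t i)) x₀) :
    A t →* Spor.BabyMonster :=
  (MulEquiv.ofBijective (homA h) (homA_bijective hB h hM)).symm.toMonoidHom.comp
    (QuotientGroup.mk' (Subgroup.zpowers (cA h)))

theorem homA_psi (hB : BFacts) (h : PRel t) (hM : MFacts (fun i => π (t i)) x₀) (a : A t) :
    homA h (psi hB h hM a) = QuotientGroup.mk a := by
  unfold psi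
  exact (MulEquiv.ofBijective (homA h) (homA_bijective hB h hM)).apply_symm_apply _

theorem psi_gx (hB : BFacts) (h : PRel t) (hM : MFacts (fun i => π (t i)) x₀)
    (a : BabyMonster.Gen) : psi hB h hM (gx mA t a) = PresentedGroup.of a := by
  apply (homA_bijective hB h hM).1
  rw [homA_psi, homA_of]

theorem psi_eq_one (hB : BFacts) (h : PRel t) (hM : MFacts (fun i => π (t i)) x₀) {a : A t}
    (ha : psi hB h hM a = 1) : (a : Γ) = 1 ∨ (a : Γ) = t 10 := by
  have h1 := homA_psi hB h hM a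
  rw [ha, map_one] at h1
  have h2 : a ∈ Subgroup.zpowers (cA h) := (QuotientGroup.eq_one_iff a).1 h1.symm
  rcases mem_zp (cA_sq h) h2 with h3 | h3
  · left; rw [h3]; rfl
  · right; rw [h3]; rfl

theorem psi_c (hB : BFacts) (h : PRel t) (hM : MFacts (fun i => π (t i)) x₀) :
    psi hB h hM (cA h) = 1 := by
  apply (homA_bijective hB h hM).1
  rw [homA_psi, map_one]
  exact (QuotientGroup.eq_one_iff _).2 (Subgroup.mem_zpowers _)

theorem psi_surjective (hB : BFacts) (h : PRel t) (hM : MFacts (fun i => π (t i)) x₀) :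
    Function.Surjective (psi hB h hM) := by
  intro b
  obtain ⟨a, ha⟩ := QuotientGroup.mk_surjective (homA h b)
  refine ⟨a, (homA_bijective hB h hM).1 ?_⟩
  rw [homA_psi, ha]

/-- `π` is injective on `H` -/
theorem inj (hB : BFacts) (h : PRel t) (hM : MFacts (fun i => π (t i)) x₀) :
    ∀ g ∈ A t, π g = 1 → g = 1 := by
  have := hB.simple
  let K0 : Subgroup (A t) := (π.comp (A t).subtype).ker
  have hn : (K0.map (psi hB h hM)).Normal :=
    Subgroup.Normal.map inferInstance _ (psi_surjective hB h hM)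
  rcases hn.eq_bot_or_eq_top with hk | hk
  · intro g hg hg1
    have h1 : psi hB h hM ⟨g, hg⟩ = 1 := by
      have : psi hB h hM ⟨g, hg⟩ ∈ K0.map (psi hB h hM) := ⟨⟨g, hg⟩, hg1, rfl⟩
      rw [hk] at this
      exact Subgroup.mem_bot.1 this
    rcases psi_eq_one hB h hM h1 with h2 | h2
    · exact h2
    · exact absurd (by rw [← hg1]; exact congrArg π h2.symm) hM.ne_one
  · exfalso
    have key : ∀ a : BabyMonster.Gen, π (t (mA a)) = 1 ∨ π (t (mA a)) = π (t 10) := by
      intro a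
      have h1 : psi hB h hM (gx mA t a) ∈ K0.map (psi hB h hM) := by rw [hk]; trivial
      obtain ⟨k, hk1, hk2⟩ := h1
      have h2 : psi hB h hM (gx mA t a * k⁻¹) = 1 := by
        rw [map_mul, map_inv, hk2, mul_inv_cancel]
      have h3 : π (k : Γ) = 1 := hk1
      have h4 : π ((gx mA t a * k⁻¹ : A t) : Γ) = π (t (mA a)) := by
        rw [Subgroup.coe_mul, map_mul, Subgroup.coe_inv, map_inv, h3, inv_one, mul_one, gx_coe]
      rcases psi_eq_one hB h hM h2 with h5 | h5
      · left; rw [← h4, h5, map_one]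
      · right; rw [← h4, h5]
    exact not_both' h hM (key .t5) (key .t4)

theorem card_A_eq (hB : BFacts) (h : PRel t) (hM : MFacts (fun i => π (t i)) x₀) :
    Nat.card (A t) = 2 * Nat.card Spor.BabyMonster := by
  have h1 : Nat.card (A t ⧸ Subgroup.zpowers (cA h)) = Nat.card Spor.BabyMonster :=
    (Nat.card_congr (Equiv.ofBijective _ (homA_bijective hB h hM))).symm
  have h2 : Nat.card (Subgroup.zpowers (cA h)) = 2 := by
    rw [Nat.card_zpowers]
    apply orderOf_eq_prime (by rw [pow_two, cA_sq h])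
    intro hc
    have h3 : t 10 = 1 := congrArg Subtype.val hc
    exact hM.ne_one (by show π (t 10) = 1; rw [h3, map_one])
  rw [Subgroup.card_eq_card_quotient_mul_card_subgroup (Subgroup.zpowers (cA h)), h1, h2, mul_comm]

theorem fix (hM : MFacts (fun i => π (t i)) x₀) : ∀ h ∈ HP t, π h • x₀ = x₀ := by
  intro g hg
  have h1 : HP t ≤ (MulAction.stabilizer G x₀).comap π := by
    refine (Subgroup.closure_le _).2 ?_
    rintro _ ⟨i, hi, rfl⟩
    exact hM.fix i hi
  exact h1 hg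

theorem onto (hB : BFacts) (h : PRel t) (hM : MFacts (fun i => π (t i)) x₀) :
    ∀ g : G, g • x₀ = x₀ → ∃ k ∈ HP t, π k = g := by
  have := hM.stab_fin
  let f : A t → MulAction.stabilizer G x₀ := fun a =>
    ⟨π a, fix hM a (by rw [← A_eq]; exact a.2)⟩
  have hf : Function.Injective f := by
    intro a b hab
    have h1 : π (a : Γ) = π (b : Γ) := congrArg Subtype.val hab
    have h2 : (a * b⁻¹ : A t) = (1 : Γ) := by
      apply inj hB h hM _ (a * b⁻¹).2
      rw [Subgroup.coe_mul, Subgroup.coe_inv, map_mul, map_inv, h1, mul_inv_cancel]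
    have h3 : a * b⁻¹ = 1 := Subtype.ext h2
    exact mul_inv_eq_one.1 h3
  have hb := hf.bijective_of_nat_card_le (by rw [card_A_eq hB h hM]; exact hM.stab_card)
  intro g hg
  obtain ⟨a, ha⟩ := hb.2 ⟨g, hg⟩
  exact ⟨a, by rw [← A_eq]; exact a.2, congrArg Subtype.val ha⟩

/-- the nodes of `Y333` -/
def jNodes : List ℕ := [0, 1, 2, 3, 6, 7, 8, 11, 12, 13]

/-- the subgroup of `Y333` -/
def JP (t : ℕ → Γ) : Subgroup Γ := Subgroup.closure {g | ∃ i ∈ jNodes, t i = g}

theorem mem_JP {i : ℕ} (hi : i ∈ jNodes) : t i ∈ JP t := Subgroup.subset_closure ⟨i, hi, rfl⟩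

theorem t10_mem_JP (h : PRel t) : t 10 ∈ JP t := by
  rw [← e7A1 h]
  exact pow_mem (mul_mem (mul_mem (mul_mem (mul_mem (mul_mem (mul_mem
    (mem_JP (by decide)) (mem_JP (by decide))) (mem_JP (by decide))) (mem_JP (by decide)))
    (mem_JP (by decide))) (mem_JP (by decide))) (mem_JP (by decide))) 9

theorem JP_comm (h : PRel t) : ∀ g ∈ JP t, g * t 5 = t 5 * g := by
  intro g hg
  have : JP t ≤ Subgroup.centralizer {t 5} := by
    refine (Subgroup.closure_le _).2 ?_
    rintro _ ⟨i, hi, rfl⟩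
    refine Subgroup.mem_centralizer_singleton_iff.2 ?_
    have key : ∀ i ∈ jNodes, i < 14 ∧ adjB i 5 = false := by decide
    exact h.cox.cm i (key i hi).1 5 (by norm_num) (key i hi).2
  exact Subgroup.mem_centralizer_singleton_iff.1 (this hg)

theorem mem_JP_of_psi (hB : BFacts) (h : PRel t) (hM : MFacts (fun i => π (t i)) x₀) {a : A t}
    (ha : psi hB h hM a ∈ KB) : (a : Γ) ∈ JP t := by
  have h1 : KB ≤ ((JP t).subgroupOf (A t)).map (psi hB h hM) := by
    refine (Subgroup.closure_le _).2 ?_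
    rintro _ ⟨b, hb, rfl⟩
    refine ⟨gx mA t b, ?_, psi_gx hB h hM b⟩
    show t (mA b) ∈ JP t
    apply mem_JP
    cases b
    · exact absurd rfl hb
    all_goals decide
  obtain ⟨k, hk, hk2⟩ := h1 ha
  have h2 : psi hB h hM (a * k⁻¹) = 1 := by rw [map_mul, map_inv, hk2, mul_inv_cancel]
  have hk' : (k : Γ) ∈ JP t := hk
  have h3 : (a : Γ) = ((a * k⁻¹ : A t) : Γ) * k := by
    rw [Subgroup.coe_mul, Subgroup.coe_inv, inv_mul_cancel_right]
  rw [h3]
  rcases psi_eq_one hB h hM h2 with h4 | h4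
  · rw [h4, one_mul]; exact hk'
  · rw [h4]; exact mul_mem (t10_mem_JP h) hk'

theorem t5_mem_A (h : PRel t) : t 5 ∈ A t := by rw [A_eq]; exact t5_mem h.f1a

/-- the centraliser of `f1` in `H` is the subgroup of `Y333` -/
theorem cent_f1 (hB : BFacts) (h : PRel t) (hM : MFacts (fun i => π (t i)) x₀) {k : Γ}
    (hk : k ∈ A t) (hkc : k * t 5 = t 5 * k) : k ∈ JP t := by
  have hfin := hB.fin
  let w5 : Spor.BabyMonster := psi hB h hM ⟨t 5, t5_mem_A h⟩
  let C : Subgroup Spor.BabyMonster := Subgroup.centralizer {w5}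
  -- elements of `H` which commute with `f1` up to `f2`
  have hcen : ∀ a : A t, (a : Γ) * t 5 * (a : Γ)⁻¹ = t 5 ∨ (a : Γ) * t 5 * (a : Γ)⁻¹ = t 5 * t 10 →
      psi hB h hM a ∈ C := by
    intro a ha
    have h1 : psi hB h hM a * w5 * (psi hB h hM a)⁻¹ = w5 := by
      show psi hB h hM a * psi hB h hM ⟨t 5, t5_mem_A h⟩ * (psi hB h hM a)⁻¹ =
        psi hB h hM ⟨t 5, t5_mem_A h⟩
      rw [← map_mul, ← map_inv, ← map_mul]
      rcases ha with ha | ha
      · congr 1
        exact Subtype.ext ha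
      · have : a * ⟨t 5, t5_mem_A h⟩ * a⁻¹ = (⟨t 5, t5_mem_A h⟩ : A t) * cA h := Subtype.ext ha
        rw [this, map_mul, psi_c, mul_one]
    rw [Subgroup.mem_centralizer_singleton_iff]
    rw [mul_inv_eq_iff_eq_mul] at h1
    exact h1
  -- the index of the centraliser
  have hidx : C.index = (Subgroup.centralizer
      {(PresentedGroup.of BabyMonster.Gen.t1 : Spor.BabyMonster)}).index := by
    have hb : t 4 * t 5 * t 4 = t 5 * t 4 * t 5 :=
      h.cox.br 4 (by norm_num) 5 (by norm_num) (by decide)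
    let e : A t := gx mA t .t1 * ⟨t 5, t5_mem_A h⟩
    have he : e * gx mA t .t1 * e⁻¹ = ⟨t 5, t5_mem_A h⟩ := by
      apply Subtype.ext
      show t 4 * t 5 * t 4 * (t 4 * t 5)⁻¹ = t 5
      rw [hb]; group
    have hw : psi hB h hM e * PresentedGroup.of BabyMonster.Gen.t1 * (psi hB h hM e)⁻¹ = w5 := by
      have h1 := congrArg (psi hB h hM) he
      rw [map_mul, map_mul, map_inv, psi_gx hB h hM .t1] at h1
      exact h1
    have hC : C = (Subgroup.centralizer
        {(PresentedGroup.of BabyMonster.Gen.t1 : Spor.BabyMonster)}).map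
          (MulAut.conj (psi hB h hM e)).toMonoidHom := by
      ext g
      constructor
      · intro hg
        have hg1 := Subgroup.mem_centralizer_singleton_iff.1 hg
        refine ⟨(psi hB h hM e)⁻¹ * g * psi hB h hM e, ?_, ?_⟩
        · refine Subgroup.mem_centralizer_singleton_iff.2 ?_
          rw [← hw] at hg1
          have h2 := congrArg (fun y => (psi hB h hM e)⁻¹ * y * psi hB h hM e) hg1
          calc (psi hB h hM e)⁻¹ * g * psi hB h hM e * PresentedGroup.of BabyMonster.Gen.t1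
              = (psi hB h hM e)⁻¹ * (g * (psi hB h hM e * PresentedGroup.of BabyMonster.Gen.t1 *
                  (psi hB h hM e)⁻¹)) * psi hB h hM e := by group
            _ = (psi hB h hM e)⁻¹ * ((psi hB h hM e * PresentedGroup.of BabyMonster.Gen.t1 *
                  (psi hB h hM e)⁻¹) * g) * psi hB h hM e := h2
            _ = _ := by group
        · show psi hB h hM e * ((psi hB h hM e)⁻¹ * g * psi hB h hM e) * (psi hB h hM e)⁻¹ = g
          group
      · rintro ⟨k, hk, rfl⟩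
        have hk1 := Subgroup.mem_centralizer_singleton_iff.1 hk
        refine Subgroup.mem_centralizer_singleton_iff.2 ?_
        show psi hB h hM e * k * (psi hB h hM e)⁻¹ * w5 = w5 * (psi hB h hM e * k * (psi hB h hM e)⁻¹)
        rw [← hw]
        calc psi hB h hM e * k * (psi hB h hM e)⁻¹ *
              (psi hB h hM e * PresentedGroup.of BabyMonster.Gen.t1 * (psi hB h hM e)⁻¹)
            = psi hB h hM e * (k * PresentedGroup.of BabyMonster.Gen.t1) * (psi hB h hM e)⁻¹ := by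
              group
          _ = psi hB h hM e * (PresentedGroup.of BabyMonster.Gen.t1 * k) * (psi hB h hM e)⁻¹ := by
              rw [hk1]
          _ = _ := by group
    rw [hC]
    exact Subgroup.index_map_equiv _ (MulAut.conj (psi hB h hM e))
  have hKC : KB ≤ C := by
    refine (Subgroup.closure_le _).2 ?_
    rintro _ ⟨b, hb, rfl⟩
    rw [← psi_gx hB h hM b]
    apply hcen
    left
    have h1 : t (mA b) * t 5 = t 5 * t (mA b) := by
      apply JP_comm h
      apply mem_JP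
      cases b
      · exact absurd rfl hb
      all_goals decide
    rw [gx_coe, h1, mul_inv_cancel_right]
  have hrel : KB.relIndex C ≤ 2 := by
    have h1 := Subgroup.relIndex_mul_index hKC
    have h2 := hB.idx
    have h3 : 13571955000 ≤ C.index := by rw [hidx]; exact hB.cls
    by_contra h4
    rw [not_le] at h4
    have h5 : 3 * 13571955000 ≤ KB.relIndex C * C.index := Nat.mul_le_mul h4 h3
    omega
  by_contra hkJ
  have hkC : psi hB h hM ⟨k, hk⟩ ∈ C := hcen _ (Or.inl (by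
    show k * t 5 * k⁻¹ = t 5
    rw [hkc, mul_inv_cancel_right]))
  have hkK : psi hB h hM ⟨k, hk⟩ ∉ KB := fun hh => hkJ (mem_JP_of_psi hB h hM hh)
  -- the element exchanging `f1` and `f1 f2`
  obtain ⟨g, hg, hg5⟩ := hM.conj
  obtain ⟨s, hs, rfl⟩ := onto hB h hM g hg
  rw [← A_eq] at hs
  have h10 : t 10 ∈ A t := mem_A_ten h
  have hs5 : s * t 5 * s⁻¹ = t 5 * t 10 := by
    have h1 : s * t 5 * s⁻¹ * (t 5 * t 10)⁻¹ = 1 := by
      apply inj hB h hM
      · exact mul_mem (mul_mem (mul_mem hs (t5_mem_A h)) (inv_mem hs))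
          (inv_mem (mul_mem (t5_mem_A h) h10))
      · simp only [map_mul, map_inv] at hg5 ⊢
        rw [hg5]; group
    exact mul_inv_eq_one.1 h1
  have hsC : psi hB h hM ⟨s, hs⟩ ∈ C := hcen _ (Or.inr hs5)
  have ht10 : t 10 ≠ 1 := by
    intro h1
    exact hM.ne_one (by show π (t 10) = 1; rw [h1, map_one])
  have hnot : ∀ a ∈ JP t, ∀ b : Γ, b * t 5 = t 5 * b → s ≠ b * a := by
    intro a ha b hb hsab
    have h1 := JP_comm h a ha
    rw [hsab] at hs5
    have h2 : b * a * t 5 * (b * a)⁻¹ = t 5 := by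
      rw [mul_assoc b a, h1, ← mul_assoc b, hb, mul_assoc (t 5), mul_inv_cancel_right]
    rw [h2] at hs5
    exact ht10 (by simpa using hs5.symm)
  have hsK : psi hB h hM ⟨s, hs⟩ ∉ KB := fun hh =>
    hnot s (mem_JP_of_psi hB h hM hh) 1 (by rw [one_mul, mul_one]) (by rw [one_mul])
  -- index two
  have h2 : (KB.subgroupOf C).index = 2 := by
    have h3 : (KB.subgroupOf C).index ≤ 2 := hrel
    have h4 : (KB.subgroupOf C).index ≠ 0 := Subgroup.index_ne_zero_of_finite
    have h5 : (KB.subgroupOf C).index ≠ 1 := by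
      intro h6
      rw [Subgroup.index_eq_one] at h6
      have : (⟨_, hkC⟩ : C) ∈ KB.subgroupOf C := by rw [h6]; trivial
      exact hkK this
    omega
  have h3 := (Subgroup.mul_mem_iff_of_index_two h2 (a := (⟨_, hkC⟩ : C)⁻¹)
    (b := (⟨_, hsC⟩ : C))).2 (by
      constructor
      · intro hh
        exact absurd ((KB.subgroupOf C).inv_mem_iff.1 hh) hkK
      · intro hh
        exact absurd hh hsK)
  have h4 : psi hB h hM (⟨k, hk⟩⁻¹ * ⟨s, hs⟩) ∈ KB := by
    rw [map_mul, map_inv]; exact h3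
  have h5 : k⁻¹ * s ∈ JP t := mem_JP_of_psi hB h hM h4
  exact hnot _ h5 k hkc (by group)

/-- **The covering data** -/
theorem covData (hB : BFacts) (h : PRel t) (hM : MFacts (fun i => π (t i)) x₀)
    (hsurj : Function.Surjective π) : CovData π (HP t) (ev t nhW) x₀ where
  surj := hsurj
  inj g hg := inj hB h hM g (by rw [A_eq]; exact hg)
  fix := fix hM
  onto := onto hB h hM
  sq := nh_sq h.cox
  edge := by
    intro k hk hk2
    have hn := nh_sq h.cox
    have hn' : (ev t nhW)⁻¹ = ev t nhW := inv_eq_of_mul_eq_one_left hn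
    have hk' : k ∈ A t := by rw [A_eq]; exact hk
    -- `k` commutes with `t 5`
    have h10 : ev t nhW * t 10 * ev t nhW = t 5 :=
      nh_conj h.cox h.f1a h.f2a (i := 10) (by norm_num)
    have h1 : (π (ev t nhW))⁻¹ * π k * π (ev t nhW) * π (t 10) =
        π (t 10) * ((π (ev t nhW))⁻¹ * π k * π (ev t nhW)) := by
      apply hM.cent
      rw [mul_smul, mul_smul, hk2, inv_smul_smul]
    have h2 : π (k * t 5) = π (t 5 * k) := by
      rw [← map_inv, hn', ← map_mul, ← map_mul, ← map_mul, ← map_mul] at h1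
      have h3 := congrArg (fun y => π (ev t nhW) * y * π (ev t nhW)) h1
      simp only [← map_mul] at h3
      have e1 : ev t nhW * (ev t nhW * k * ev t nhW * t 10) * ev t nhW = k * t 5 := by
        rw [← h10]
        calc ev t nhW * (ev t nhW * k * ev t nhW * t 10) * ev t nhW
            = (ev t nhW * ev t nhW) * k * (ev t nhW * t 10 * ev t nhW) := by
              simp only [mul_assoc]
          _ = _ := by rw [hn, one_mul]
      have e2 : ev t nhW * (t 10 * (ev t nhW * k * ev t nhW)) * ev t nhW = t 5 * k := by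
        rw [← h10]
        calc ev t nhW * (t 10 * (ev t nhW * k * ev t nhW)) * ev t nhW
            = (ev t nhW * t 10 * ev t nhW) * k * (ev t nhW * ev t nhW) := by
              simp only [mul_assoc]
          _ = _ := by rw [hn, mul_one]
      rw [e1, e2] at h3
      exact h3
    have h3 : k * t 5 = t 5 * k := by
      have h4 : k * t 5 * (t 5 * k)⁻¹ = 1 := by
        apply inj hB h hM
        · exact mul_mem (mul_mem hk' (t5_mem_A h)) (inv_mem (mul_mem (t5_mem_A h) hk'))
        · rw [map_mul, map_inv, h2, mul_inv_cancel]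
      exact mul_inv_eq_one.1 h4
    have h4 : k ∈ JP t := cent_f1 hB h hM hk' h3
    -- conjugation by `n` preserves `JP`
    have h5 : JP t ≤ (HP t).comap (MulAut.conj (ev t nhW)).toMonoidHom := by
      refine (Subgroup.closure_le _).2 ?_
      rintro _ ⟨i, hi, rfl⟩
      have key : ∀ i ∈ jNodes, i < 14 ∧ mir i ∈ hNodes := by decide
      show ev t nhW * t i * (ev t nhW)⁻¹ ∈ HP t
      rw [hn', nh_conj h.cox h.f1a h.f2a (key i hi).1]
      exact mem_HP (key i hi).2
    have h6 : ev t nhW * k * (ev t nhW)⁻¹ ∈ HP t := h5 h4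
    rw [hn'] at h6 ⊢
    exact h6

end

end Cfsg.Agent.MonsterP.CovP
end

private theorem dce_b72efaab7c9f : _root_.True := by
  try have : _root_.True := by simp only [_root_.Cfsg.Agent.MonsterP.CovP.psi.congr_simp]
  try have : _root_.True := by simp only [_root_.Cfsg.Agent.Bimonster.spW.eq_1]
  exact _root_.True.intro
end

-- part: MonsterP/IIb
section
set_option linter.all false
open scoped Cfsg.Agent.FastGrp

/-!
# The base triangle of type IIb is closed

The points `H`, `n̂ H`, `h n̂ H` of `Γ ⧸ H` (duads `{11,12}`, `{1,2}`, `{6,7}` of the `S12`) lie above the axes of the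
nodes 10, 5, 0 and form a closed triangle.
-/

set_option autoImplicit false

namespace Cfsg.Agent.MonsterP.IIb

open Cfsg.Agent.Bimonster Cfsg.Agent.Bimonster.Tits Cfsg.Agent.MonsterP.NhatData
open Cfsg.Agent.MonsterP.Nhat Cfsg.Agent.MonsterP.W2

variable {Γ G X : Type*} [Group Γ] [Group G] [MulAction G X]

/-- The base triangle is closed (axes given as images of the base axis). -/
theorem closed_base {t : ℕ → Γ} (h : PRel t) {π : Γ →* G} {x₀ : X}
    (D : CovData π (HP t) (ev t nhW) x₀) :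
    D.Closed x₀ (π (ev t nhW) • x₀) (π (ev t hW * ev t nhW) • x₀) := by
  have h1 := D.closed_of_lift (adj_base (t := t) (ev t nhW)) (adj_h h.f1a h.f2a)
    (adj_nh h.cox h.f1a h.f2a)
  rw [D.pr_mk, D.pr_mk, D.pr_mk, map_one, one_smul] at h1
  exact h1

/-- The conjugation facts. -/
theorem conj_nh {t : ℕ → Γ} (h : PRel t) (π : Γ →* G) :
    π (ev t nhW) * π (t 10) * (π (ev t nhW))⁻¹ = π (t 5) := by
  rw [← map_inv, ← map_mul, ← map_mul, inv_eq_of_mul_eq_one_left (nh_sq h.cox),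
    nh_conj h.cox h.f1a h.f2a (by norm_num)]
  rfl

theorem conj_hnh {t : ℕ → Γ} (h : PRel t) (π : Γ →* G) :
    π (ev t hW * ev t nhW) * π (t 10) * (π (ev t hW * ev t nhW))⁻¹ = π (t 0) := by
  rw [← map_inv, ← map_mul, ← map_mul, hn_conj h.cox h.f1a h.f2a]

/-- **The base triangle is closed.**  `x₀`, `x₁`, `x₂` are the axes of the involutions `π (t 10)`, `π (t 5)`, `π (t 0)`,
where an axis in the orbit of `x₀` is determined by its involution. -/
theorem closed {t : ℕ → Γ} (h : PRel t) {π : Γ →* G} {x₀ x₁ x₂ : X}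
    (D : CovData π (HP t) (ev t nhW) x₀)
    (h1 : ∀ g : G, g * π (t 10) * g⁻¹ = π (t 5) → g • x₀ = x₁)
    (h2 : ∀ g : G, g * π (t 10) * g⁻¹ = π (t 0) → g • x₀ = x₂) :
    D.Closed x₀ x₁ x₂ := by
  have e1 := h1 _ (conj_nh h π)
  have e2 := h2 _ (conj_hnh h π)
  have := closed_base h D
  rwa [e1, e2] at this

/-- the axis of node 5 is the image of the base axis under `n̂` -/
theorem smul_nh {t : ℕ → Γ} (h : PRel t) {π : Γ →* G} {x₀ x₁ : X}
    (h1 : ∀ g : G, g * π (t 10) * g⁻¹ = π (t 5) → g • x₀ = x₁) :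
    π (ev t nhW) • x₀ = x₁ := h1 _ (conj_nh h π)

end Cfsg.Agent.MonsterP.IIb
end

-- part: MonsterP/SheetHom
section
set_option linter.all false
open scoped Cfsg.Agent.FastGrp

/-!
# Homomorphisms from sheets

`s` a section of `D.pr` over `V₀`.  The elements of `G` which preserve `V₀` and lift to an element of `Γ`
compatible with `s` form a subgroup `compat D V₀ s`, and the lift is a homomorphism `lam : compat → Γ`.
An element preserving `V₀` is in `compat` if `V₀` is connected and `s` is a sheet.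
-/

set_option autoImplicit false

namespace Cfsg.Agent.MonsterP

open Cfsg.Agent.MonsterU.Morse

variable {Γ G X : Type*} [Group Γ] [Group G] [MulAction G X]

/-- `g` lifts `m` compatibly with the section. -/
def Lifts (π : Γ →* G) {Y : Type*} [MulAction Γ Y] (V₀ : Set X) (s : X → Y) (m : G) (g : Γ) : Prop :=
  π g = m ∧ ∀ x ∈ V₀, g • s x = s (m • x)

namespace CovData

variable {π : Γ →* G} {H : Subgroup Γ} {n : Γ} {x₀ : X} (D : CovData π H n x₀)

/-- The group of the liftable elements preserving `V₀`. -/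
def compat (D : CovData π H n x₀) (V₀ : Set X) (s : X → Γ ⧸ H) : Subgroup G where
  carrier := {m | (∀ x, m • x ∈ V₀ ↔ x ∈ V₀) ∧ ∃ g, Lifts π V₀ s m g}
  mul_mem' := by
    rintro a b ⟨ha, g, hg, hg'⟩ ⟨hb, h, hh, hh'⟩
    refine ⟨fun x => by rw [mul_smul, ha, hb], g * h, by rw [map_mul, hg, hh], fun x hx => ?_⟩
    rw [mul_smul, hh' x hx, hg' _ ((hb x).2 hx), mul_smul]
  one_mem' := ⟨fun x => by rw [one_smul], 1, map_one _, fun x _ => by rw [one_smul, one_smul]⟩
  inv_mem' := by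
    rintro a ⟨ha, g, hg, hg'⟩
    refine ⟨fun x => by rw [← ha, smul_inv_smul], g⁻¹, by rw [map_inv, hg], fun x hx => ?_⟩
    rw [inv_smul_eq_iff, hg' (a⁻¹ • x) ((ha _).1 (by rwa [smul_inv_smul])), smul_inv_smul]

/-- The lift of an element. -/
noncomputable def lamFun (D : CovData π H n x₀) (V₀ : Set X) (s : X → Γ ⧸ H)
    (m : D.compat V₀ s) : Γ := m.2.2.choose

include D

theorem lamFun_spec (V₀ : Set X) (s : X → Γ ⧸ H) (m : D.compat V₀ s) :
    Lifts π V₀ s (m : G) (D.lamFun V₀ s m) := m.2.2.choose_spec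

theorem lifts_unique {V₀ : Set X} {s : X → Γ ⧸ H} {m : G} {g g' : Γ} (h : Lifts π V₀ s m g)
    {x : X} (hx : x ∈ V₀) (h1 : π g' = m) (h2 : g' • s x = s (m • x)) : g' = g :=
  D.eq_of (by rw [h1, h.1]) (by rw [h2, h.2 x hx])

omit D in
/-- **The homomorphism of a section.** -/
noncomputable def lam (D : CovData π H n x₀) (V₀ : Set X) (s : X → Γ ⧸ H) (hne : V₀.Nonempty) :
    D.compat V₀ s →* Γ :=
  MonoidHom.mk' (D.lamFun V₀ s) (by
    intro a b
    obtain ⟨x, hx⟩ := hne
    have ha := D.lamFun_spec V₀ s a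
    have hb := D.lamFun_spec V₀ s b
    refine (D.lifts_unique (D.lamFun_spec V₀ s (a * b)) hx ?_ ?_).symm
    · rw [map_mul, ha.1, hb.1]
      rfl
    · rw [mul_smul, hb.2 x hx, ha.2 _ ((b.2.1 x).2 hx), ← mul_smul]
      rfl)

theorem lam_lifts {V₀ : Set X} {s : X → Γ ⧸ H} (hne : V₀.Nonempty) (m : D.compat V₀ s) :
    Lifts π V₀ s (m : G) (D.lam V₀ s hne m) := D.lamFun_spec V₀ s m

theorem π_lam {V₀ : Set X} {s : X → Γ ⧸ H} (hne : V₀.Nonempty) (m : D.compat V₀ s) :
    π (D.lam V₀ s hne m) = m := (D.lam_lifts hne m).1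

theorem lam_smul {V₀ : Set X} {s : X → Γ ⧸ H} (hne : V₀.Nonempty) (m : D.compat V₀ s)
    {x : X} (hx : x ∈ V₀) : D.lam V₀ s hne m • s x = s ((m : G) • x) := (D.lam_lifts hne m).2 x hx

/-- an element over `m` with the right value at one point is `lam m` -/
theorem eq_lam {V₀ : Set X} {s : X → Γ ⧸ H} (hne : V₀.Nonempty) (m : D.compat V₀ s) {x : X}
    (hx : x ∈ V₀) {g : Γ} (h1 : π g = m) (h2 : g • s x = s ((m : G) • x)) :
    g = D.lam V₀ s hne m := D.lifts_unique (D.lam_lifts hne m) hx h1 h2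

/-- the homomorphisms of two sections agree -/
theorem lam_eq_lam {V₀ V₁ : Set X} {s s' : X → Γ ⧸ H} (hne : V₀.Nonempty) (hne' : V₁.Nonempty)
    {m : G} (h : m ∈ D.compat V₀ s) (h' : m ∈ D.compat V₁ s') {x : X} (hx : x ∈ V₀) (hx' : x ∈ V₁)
    (hs : s x = s' x) (hs' : s (m • x) = s' (m • x)) :
    D.lam V₀ s hne ⟨m, h⟩ = D.lam V₁ s' hne' ⟨m, h'⟩ := by
  refine D.eq_lam hne' ⟨m, h'⟩ hx' (D.π_lam hne ⟨m, h⟩) ?_
  rw [← hs, D.lam_smul hne ⟨m, h⟩ hx]
  exact hs'

/-- the same section on two sets -/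
theorem lam_eq_lam_same {V₀ V₁ : Set X} {s : X → Γ ⧸ H} (hne : V₀.Nonempty) (hne' : V₁.Nonempty)
    {m : G} (h : m ∈ D.compat V₀ s) (h' : m ∈ D.compat V₁ s) {x : X} (hx : x ∈ V₀) (hx' : x ∈ V₁) :
    D.lam V₀ s hne ⟨m, h⟩ = D.lam V₁ s hne' ⟨m, h'⟩ :=
  D.lam_eq_lam hne hne' h h' hx hx' rfl rfl

omit D in
/-- Connectivity inside a set. -/
def Conn (π : Γ →* G) (n : Γ) (x₀ : X) (V₀ : Set X) : Prop :=
  ∀ x ∈ V₀, ∀ y ∈ V₀, Relation.ReflTransGen (fun a b => a ∈ V₀ ∧ b ∈ V₀ ∧ Adj π n x₀ a b) x y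

/-- an element over `m` which has the right value at one point of a connected set has the right values
everywhere; here `s'` is a second sheet, on `m • V₀` -/
theorem lifts_of_conn {V₀ V₁ : Set X} {s s' : X → Γ ⧸ H} (hs : Sheet (Adj π n x₀) (Adj' H n) D.pr V₀ s)
    (hs' : Sheet (Adj π n x₀) (Adj' H n) D.pr V₁ s') {m : G} (hm : ∀ x ∈ V₀, m • x ∈ V₁) {g : Γ}
    (hg : π g = m) {x y : X} (hx : x ∈ V₀) (hgx : g • s x = s' (m • x))
    (hxy : Relation.ReflTransGen (fun a b => a ∈ V₀ ∧ b ∈ V₀ ∧ Adj π n x₀ a b) x y) :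
    g • s y = s' (m • y) := by
  induction hxy with
  | refl => exact hgx
  | @tail b c _ hbc ih =>
    obtain ⟨hb, hc, hbc⟩ := hbc
    have h1 : Adj' H n (g • s b) (g • s c) := (hs.adj b hb c hc hbc).smul g
    rw [ih] at h1
    refine D.uniq _ _ _ h1 (hs'.adj _ (hm b hb) _ (hm c hc) (hbc.smul m)) ?_
    rw [D.pr_smul, hs.sec c hc, hs'.sec _ (hm c hc), hg]

/-- **Liftability.**  An element preserving a connected set with a sheet is liftable. -/
theorem mem_compat_of_conn {V₀ : Set X} {s : X → Γ ⧸ H}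
    (hs : Sheet (Adj π n x₀) (Adj' H n) D.pr V₀ s) (hc : Conn π n x₀ V₀) (hne : V₀.Nonempty) {m : G}
    (hm : ∀ x, m • x ∈ V₀ ↔ x ∈ V₀) : m ∈ D.compat V₀ s := by
  obtain ⟨x, hx⟩ := hne
  obtain ⟨g, hg, hg'⟩ := D.exists_over m (u := s x) (v := s (m • x))
    (by rw [hs.sec x hx, hs.sec _ ((hm x).2 hx)])
  exact ⟨hm, g, hg, fun y hy => D.lifts_of_conn hs hs (fun x hx => (hm x).2 hx) hg hx hg' (hc x hx y hy)⟩

end CovData

end Cfsg.Agent.MonsterP
end

-- part: MonsterP/SGraph
section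
prune_inst 0x30006124342200000000000002003c2072000100004b800140400800058100400040062022200100900a00000800004000100080002800000a0000000000000000220000802c0000000000000004000000000000000000000000000000000004000000000
set_option linter.all false
open scoped Cfsg.Agent.FastGrp

/-!
# The sheet over the axes of the extraspecial group

The triangles of the graph on `S` (the axes `M.a x`, `x` short; adjacency: inner product `±16`) are closed
if one triangle of type IIb (product `zc`) and one of type IIa are; then the covering has a sheet over `S`.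
-/

set_option autoImplicit false

namespace Cfsg.Agent.MonsterP.SGraph

open Cfsg Cfsg.Agent.LeechMat.Core Cfsg.Agent.MonsterX.KSide Cfsg.Agent.MonsterX.Lat
  Cfsg.Agent.MonsterX.KLift Cfsg.Agent.MonsterX.KSLat Cfsg.Agent.MonsterP.SChar
  Cfsg.Agent.MonsterU.Morse

variable {Γ G V P W : Type*} [Group Γ] [Group G] [AddCommGroup V] [Module ℚ V]
  [DistribMulAction G V] [SMulCommClass G ℚ V] [Group P] [AddCommGroup W] [Module ℚ W]
  {M : KS G V P W} {θ : leechLattice → P}
  {π : Γ →* G} {H : Subgroup Γ} {n : Γ} {o o' : P}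

/-- The edge `(a o, a o')` defining the covering. -/
structure Edge (M : KS G V P W) (π : Γ →* G) (n : Γ) (o o' : P) : Prop where
  mem : o ∈ M.Sh
  mem' : o' ∈ M.Sh
  ad : Ad M o o'
  smul : π n • M.a o = M.a o'

theorem Ad.ne {x y : P} (hx : x ∈ M.Sh) (h : Ad M x y) : y ≠ x := by
  rintro rfl
  have h1 := dot_self' hx
  rcases h with h | h <;> rw [h1] at h <;> norm_num at h

theorem Ad.ne_z {x y : P} (hx : x ∈ M.Sh) (h : Ad M x y) : y ≠ M.zc * x := by
  rintro rfl
  have h1 := dot_self' hx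
  unfold Ad at h
  rw [M.lam_z] at h
  rcases h with h | h <;> rw [h1] at h <;> norm_num at h

theorem B_of_ad {x y : P} (hx : x ∈ M.Sh) (hy : y ∈ M.Sh) (h : Ad M x y) :
    M.B (M.a x) (M.a y) = 1 := by
  rw [M.B_a_ne x y hx hy (Ad.ne hx h) (Ad.ne_z hx h)]
  rcases h with h | h <;> rw [h] <;> norm_num

theorem ad_of_B {x y : P} (hx : x ∈ M.Sh) (hy : y ∈ M.Sh) (h : M.B (M.a x) (M.a y) = 1) :
    Ad M x y := by
  by_cases h1 : y = x
  · rw [h1, M.B_a_self x hx] at h
    norm_num at h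
  by_cases h2 : y = M.zc * x
  · rw [h2, M.B_a_z x hx] at h
    norm_num at h
  rw [M.B_a_ne x y hx hy h1 h2] at h
  have h3 : ((dot (M.lam x) (M.lam y) : ℤ) : ℚ) ^ 2 = ((16 : ℤ) : ℚ) ^ 2 := by
    push_cast
    linarith
  have h4 : (dot (M.lam x) (M.lam y)) ^ 2 = 16 ^ 2 := by exact_mod_cast h3
  exact sq_eq_sq_iff_eq_or_eq_neg.1 h4

/-- Adjacency on `S`. -/
theorem adj_iff (L : Lift M θ) (E : Edge M π n o o') {x y : P} (hx : x ∈ M.Sh) (hy : y ∈ M.Sh) :
    Adj π n (M.a o) (M.a x) (M.a y) ↔ Ad M x y := by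
  constructor
  · rintro ⟨g, h1, h2⟩
    apply ad_of_B hx hy
    rw [h1, h2, M.B_inv, E.smul]
    exact B_of_ad E.mem E.mem' E.ad
  · intro h
    obtain ⟨k, α, hk, h1, h2⟩ := trans_pair L E.mem E.mem' hx hy E.ad h
    refine ⟨k, ?_, ?_⟩
    · rw [hk.smul_a E.mem, h1]
    · rw [E.smul, hk.smul_a E.mem', h2]

section

variable (D : CovData π H n (M.a o))

/-- transport of closed triangles -/
theorem closed_map {k : G} {α : P ≃* P} (hk : ActsBy M k α) {x y w : P} (hx : x ∈ M.Sh)
    (hy : y ∈ M.Sh) (hw : w ∈ M.Sh) (h : D.Closed (M.a x) (M.a y) (M.a w)) :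
    D.Closed (M.a (α x)) (M.a (α y)) (M.a (α w)) := by
  have h1 := CovData.Closed.smul D h k
  rwa [hk.smul_a hx, hk.smul_a hy, hk.smul_a hw] at h1

/-- **Triangles of type IIb.** -/
theorem closed_IIb (L : Lift M θ) (E : Edge M π n o o')
    (hb : D.Closed (M.a o) (M.a o') (M.a (M.zc * (o * o')))) {x y : P} (hx : x ∈ M.Sh)
    (hy : y ∈ M.Sh) (h : Ad M x y) : D.Closed (M.a x) (M.a y) (M.a (M.zc * (x * y))) := by
  obtain ⟨k, α, hk, h1, h2⟩ := trans_pair L E.mem E.mem' hx hy E.ad h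
  have h3 := closed_map D hk E.mem E.mem' (M.Sh_z _ (mul_mem L E.mem E.mem' E.ad)) hb
  rwa [map_mul, map_mul, hk.zc L, h1, h2] at h3

/-- **Triangles of type IIa.** -/
theorem closed_IIa (L : Lift M θ) {x₁ y₁ w₁ : P} (hx₁ : x₁ ∈ M.Sh) (hy₁ : y₁ ∈ M.Sh)
    (hw₁ : w₁ ∈ M.Sh) (h₁ : IIa M x₁ y₁ w₁) (ha : D.Closed (M.a x₁) (M.a y₁) (M.a w₁)) {x y w : P}
    (hx : x ∈ M.Sh) (hy : y ∈ M.Sh) (hw : w ∈ M.Sh) (h : IIa M x y w) :
    D.Closed (M.a x) (M.a y) (M.a w) := by
  obtain ⟨k, α, hk, h2, h3, h4⟩ := trans_IIa L hx₁ hy₁ hw₁ hx hy hw h₁ h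
  have h5 := closed_map D hk hx₁ hy₁ hw₁ ha
  rwa [h2, h3, h4] at h5

end

/-! ### Lifting paths from the lattice -/

/-- A path of lattice vectors lifts to short elements. -/
theorem lift_trans {A : leechLattice → leechLattice → Prop} {R : P → P → Prop}
    (hn : ∀ {v v'}, A v v' → nrm v' = 32)
    (hR : ∀ x ∈ M.Sh, ∀ y ∈ M.Sh, ∀ v v', A v v' → (v = M.lam x ∨ v = -M.lam x) →
      (v' = M.lam y ∨ v' = -M.lam y) → R x y) {w : P} (hw : w ∈ M.Sh) {v : leechLattice}
    (h : Relation.TransGen A (M.lam w) v) : ∀ y ∈ M.Sh, (v = M.lam y ∨ v = -M.lam y) →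
      Relation.TransGen R w y := by
  induction h with
  | single h => exact fun y hy hv => Relation.TransGen.single (hR w hw y hy _ _ h (Or.inl rfl) hv)
  | @tail b c hab hbc ih =>
    intro y hy hv
    have hb : nrm b = 32 := by
      cases hab with
      | single h => exact hn h
      | tail _ h => exact hn h
    obtain ⟨t, ht, htb⟩ := M.lam_surj b hb
    exact (ih t ht htb).tail (hR t ht y hy _ _ hbc htb hv)

/-- Connectivity of short elements from connectivity of lattice vectors. -/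
theorem lift_conn {A : leechLattice → leechLattice → Prop} {R : P → P → Prop}
    (hn : ∀ {v v'}, A v v' → nrm v' = 32)
    (hR : ∀ x ∈ M.Sh, ∀ y ∈ M.Sh, ∀ v v', A v v' → (v = M.lam x ∨ v = -M.lam x) →
      (v' = M.lam y ∨ v' = -M.lam y) → R x y) {w w' : P} (hw : w ∈ M.Sh) (hw' : w' ∈ M.Sh)
    (h : Relation.ReflTransGen A (M.lam w) (M.lam w'))
    (h' : Relation.ReflTransGen A (M.lam w) (-M.lam w)) : Relation.TransGen R w w' := by
  rcases Relation.reflTransGen_iff_eq_or_transGen.1 h with e | h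
  · rcases Relation.reflTransGen_iff_eq_or_transGen.1 h' with e' | h'
    · exact absurd e'.symm (ne_neg _ (M.lam_norm w hw))
    · exact lift_trans hn hR hw h' w' hw' (Or.inr (by rw [e]))
  · exact lift_trans hn hR hw h w' hw' (Or.inl rfl)

/-- inner products of signed vectors -/
theorem dot_signs {x y : P} {v v' : leechLattice} (h : v = M.lam x ∨ v = -M.lam x)
    (h' : v' = M.lam y ∨ v' = -M.lam y) :
    dot v v' = dot (M.lam x) (M.lam y) ∨ dot v v' = -dot (M.lam x) (M.lam y) := by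
  rcases h with rfl | rfl <;> rcases h' with rfl | rfl
  · exact Or.inl rfl
  · right; rw [dot_neg_right]
  · right; rw [dot_neg_left]
  · left; rw [dot_neg_right, dot_neg_left, neg_neg]

theorem ad_of_signs {x y : P} {v v' : leechLattice} (h : v = M.lam x ∨ v = -M.lam x)
    (h' : v' = M.lam y ∨ v' = -M.lam y) (hd : dot v v' = 16 ∨ dot v v' = -16) : Ad M x y := by
  unfold Ad
  rcases dot_signs h h' with e | e <;> rw [e] at hd <;> omega

/-- IIa triples from the nine-graph -/
theorem IIa_of_N9 {x y w : P} {v v' : leechLattice} (h : LeechL2.N9 (M.lam x) v v')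
    (hv : v = M.lam y ∨ v = -M.lam y) (hv' : v' = M.lam w ∨ v' = -M.lam w) : IIa M x y w := by
  obtain ⟨⟨-, h1⟩, ⟨-, h2⟩, h3⟩ := h
  have hvv : dot v v' = 16 ∨ dot v v' = -16 := by
    rcases h1 with h1 | h1 <;> rcases h2 with h2 | h2 <;> rw [h1, h2] at h3 <;> omega
  have hx : M.lam x = M.lam x ∨ M.lam x = -M.lam x := Or.inl rfl
  refine ⟨ad_of_signs hx hv h1, ad_of_signs hx hv' h2, ad_of_signs hv hv' hvv, ?_⟩
  have key : dot (M.lam x) (M.lam y) * dot (M.lam x) (M.lam w) * dot (M.lam y) (M.lam w) = 4096 := by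
    rw [← h3]
    rcases hv with rfl | rfl <;> rcases hv' with rfl | rfl <;>
      simp only [dot_neg_right, dot_neg_left] <;> ring
  rw [key]
  norm_num

/-- lift of the nine-graph -/
theorem conn_IIa {x y w : P} (hx : x ∈ M.Sh) (hy : y ∈ M.Sh) (hw : w ∈ M.Sh) (hxy : Ad M x y)
    (hxw : Ad M x w) : Relation.TransGen (fun a b => a ∈ M.Sh ∧ b ∈ M.Sh ∧ IIa M x a b) y w := by
  have hxn := M.lam_norm x hx
  have hyn := M.lam_norm y hy
  have hwn := M.lam_norm w hw
  refine lift_conn (A := LeechL2.N9 (M.lam x)) (fun h => h.2.1.1)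
    (fun a ha b hb v v' h hv hv' => ⟨ha, hb, IIa_of_N9 h hv hv'⟩) hy hw
    (LeechL2.conn_nine _ _ _ hxn hyn hxy hwn hxw)
    (LeechL2.conn_nine _ _ _ hxn hyn hxy (by rw [nrm_neg, hyn]) ?_)
  rw [dot_neg_right]
  rcases hxy with h | h <;> rw [h]
  · exact Or.inr rfl
  · exact Or.inl rfl

/-! ### Triangles of type I -/

section

variable (D : CovData π H n (M.a o))

/-- **Triangles of type I.** -/
theorem closed_I (L : Lift M θ) (E : Edge M π n o o')
    (hb : ∀ x ∈ M.Sh, ∀ y ∈ M.Sh, Ad M x y → D.Closed (M.a x) (M.a y) (M.a (M.zc * (x * y))))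
    (ha : ∀ x ∈ M.Sh, ∀ y ∈ M.Sh, ∀ w ∈ M.Sh, IIa M x y w → D.Closed (M.a x) (M.a y) (M.a w))
    {x y : P} (hx : x ∈ M.Sh) (hy : y ∈ M.Sh) (h : Ad M x y) :
    D.Closed (M.a x) (M.a y) (M.a (x * y)) := by
  have hxy := mul_mem L hx hy h
  have ad2 := ad_mul_left L hx hy h
  have ad3 := ad_mul_right L hx hy h
  refine ⟨(adj_iff L E hx hy).2 h, (adj_iff L E hx hxy).2 ad2, (adj_iff L E hy hxy).2 ad3, ?_⟩
  intro u v t hu hv ht huv hut
  have hz := M.Sh_z x hx
  -- the lift of `a (z x)` over the lift of `a y`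
  obtain ⟨w₀, hw₀, hvw₀⟩ := D.lift v (M.a (M.zc * x)) (by
    rw [hv]
    exact (adj_iff L E hy hz).2 ((ad_z_right M).2 (Ad.symm M h)))
  -- the property: the lift of `a c` next to `u` is next to `w₀`
  have step : ∀ c d : P, c ∈ M.Sh → d ∈ M.Sh → IIa M x c d →
      (∀ c', D.pr c' = M.a c → Adj' H n u c' → Adj' H n c' w₀) →
      ∀ d', D.pr d' = M.a d → Adj' H n u d' → Adj' H n d' w₀ := by
    intro c d hc hd hcd hQ d' hd' hud'
    obtain ⟨c', hc', huc'⟩ := D.lift u (M.a c) (by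
      rw [hu]
      exact (adj_iff L E hx hc).2 hcd.xy)
    have h1 := hQ c' hc' huc'
    -- `c'` and `d'` are adjacent
    have h2 : Adj' H n c' d' := (ha x hx c hc d hd hcd).2.2.2 u c' d' hu hc' hd' huc' hud'
    -- the triangle `z x, c, d`
    have h3 : IIa M (M.zc * x) c d := by
      obtain ⟨a1, a2, a3, a4⟩ := hcd
      exact ⟨(ad_z_left M).2 a1, (ad_z_left M).2 a2, a3, by rw [M.lam_z]; exact a4⟩
    have h4 := CovData.Closed.rot D (ha _ hz c hc d hd h3)
    exact h4.2.2.2 c' d' w₀ hc' hd' hw₀ h2 h1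
  have hQ0 : ∀ c', D.pr c' = M.a y → Adj' H n u c' → Adj' H n c' w₀ := by
    intro c' hc' huc'
    have : c' = v := D.uniq u c' v huc' huv (by rw [hc', hv])
    rw [this]
    exact hvw₀
  have hQ : ∀ c', D.pr c' = M.a (x * y) → Adj' H n u c' → Adj' H n c' w₀ := by
    have hpath := conn_IIa hx hy hxy h ad2
    have key : ∀ c, Relation.TransGen (fun a b => a ∈ M.Sh ∧ b ∈ M.Sh ∧ IIa M x a b) y c →
        ∀ c', D.pr c' = M.a c → Adj' H n u c' → Adj' H n c' w₀ := by
      intro c hc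
      induction hc with
      | single h => exact step _ _ h.1 h.2.1 h.2.2 hQ0
      | tail _ h ih => exact step _ _ h.1 h.2.1 h.2.2 ih
    exact key _ hpath
  have h5 := hQ t ht hut
  -- the triangle `z x, y, x y` is of type IIb
  have h6 := hb _ hz y hy ((ad_z_left M).2 h)
  have e : M.zc * (M.zc * x * y) = x * y := by
    rw [mul_assoc M.zc x y, M.zc_zc]
  rw [e] at h6
  exact h6.2.2.2 w₀ v t hw₀ hv ht (D.symm' hvw₀) (D.symm' h5)

/-- **All triangles of `S` are closed.** -/
theorem closed_all (L : Lift M θ) (E : Edge M π n o o')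
    (hb : ∀ x ∈ M.Sh, ∀ y ∈ M.Sh, Ad M x y → D.Closed (M.a x) (M.a y) (M.a (M.zc * (x * y))))
    (ha : ∀ x ∈ M.Sh, ∀ y ∈ M.Sh, ∀ w ∈ M.Sh, IIa M x y w → D.Closed (M.a x) (M.a y) (M.a w))
    {x y w : P} (hx : x ∈ M.Sh) (hy : y ∈ M.Sh) (hw : w ∈ M.Sh) (h1 : Ad M x y) (h2 : Ad M x w)
    (h3 : Ad M y w) : D.Closed (M.a x) (M.a y) (M.a w) := by
  by_cases hpos : 0 < dot (M.lam x) (M.lam y) * dot (M.lam x) (M.lam w) * dot (M.lam y) (M.lam w)
  · exact ha x hx y hy w hw ⟨h1, h2, h3, hpos⟩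
  · have e1 : dot (M.lam w) (M.lam x) = dot (M.lam x) (M.lam w) := dot_comm _ _
    have e2 : dot (M.lam w) (M.lam y) = dot (M.lam y) (M.lam w) := dot_comm _ _
    have h4 : dot (M.lam w) (M.lam (x * y)) = 32 ∨ dot (M.lam w) (M.lam (x * y)) = -32 := by
      have h5 := dot_mul_right L hx hy h1 (M.lam w)
      rw [e1, e2] at h5
      rcases h2 with h2 | h2 <;> rcases h3 with h3 | h3 <;>
        rcases h5 with ⟨h5, h6 | h6⟩ | ⟨h5, h6 | h6⟩ <;>
        rw [h2, h3] at h6 <;> rw [h2, h3, h5] at hpos <;> first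
          | (exfalso; norm_num at hpos; done)
          | (left; rw [h6]; norm_num; done)
          | (right; rw [h6]; norm_num; done)
    have hxy := mul_mem L hx hy h1
    have h7 : (dot (M.lam (x * y)) (M.lam w)) ^ 2 = 1024 := by
      rw [dot_comm]
      rcases h4 with h4 | h4 <;> rw [h4] <;> norm_num
    rcases M.eq_or_of_dot _ _ hxy hw h7 with e | e
    · rw [e]
      exact closed_I D L E hb ha hx hy h1
    · rw [e]
      exact hb x hx y hy h1

/-! ### The sheet over `S` -/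

/-- The distance from the base axis. -/
noncomputable def height (_ : CovData π H n (M.a o)) (v : V) : ℕ := by
  classical exact if v = M.a o then 0 else if Adj π n (M.a o) (M.a o) v then 1 else 2

theorem height_base : height D (M.a o) = 0 := by
  unfold height
  rw [if_pos rfl]

theorem height_le (v : V) : height D v ≤ 2 := by
  unfold height
  split_ifs <;> omega

theorem height_zero {v : V} (h : height D v = 0) : v = M.a o := by
  unfold height at h
  split_ifs at h with h1 h2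
  · exact h1

theorem height_one (L : Lift M θ) (E : Edge M π n o o') {x : P} (hx : x ∈ M.Sh) :
    height D (M.a x) = 1 ↔ Ad M o x := by
  unfold height
  split_ifs with h1 h2
  · have h2 := M.a_inj x o hx E.mem h1
    rw [h2]
    exact ⟨fun h => absurd h (by norm_num), fun h => absurd rfl (Ad.ne E.mem h)⟩
  · exact ⟨fun _ => (adj_iff L E E.mem hx).1 h2, fun _ => rfl⟩
  · exact ⟨fun h => absurd h (by norm_num), fun h => absurd ((adj_iff L E E.mem hx).2 h) h2⟩

theorem dot_cases {x y : P} (hx : x ∈ M.Sh) (hy : y ∈ M.Sh) :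
    y = x ∨ y = M.zc * x ∨ Ad M x y ∨
      (dot (M.lam x) (M.lam y) = 0 ∨ dot (M.lam x) (M.lam y) = 8 ∨ dot (M.lam x) (M.lam y) = -8) := by
  by_cases h1 : y = x
  · exact Or.inl h1
  by_cases h2 : y = M.zc * x
  · exact Or.inr (Or.inl h2)
  right; right
  have h8 : (8 : ℤ) ∣ dot (M.lam x) (M.lam y) := Cfsg.Agent.Leech.Basic.eight_dvd_dotInt
    (M.lam x).2 (M.lam y).2
  have hne1 : M.lam x - M.lam y ≠ 0 := by
    intro h
    rcases M.lam_inj x hx y hy (Or.inl (sub_eq_zero.1 h).symm) with e | e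
    · exact h1 e
    · exact h2 e
  have hne2 : M.lam x + M.lam y ≠ 0 := by
    intro h
    rcases M.lam_inj x hx y hy (Or.inr (eq_neg_of_add_eq_zero_right h)) with e | e
    · exact h1 e
    · exact h2 e
  have h3 := le_nrm hne1
  have h4 := le_nrm hne2
  rw [nrm_sub, M.lam_norm x hx, M.lam_norm y hy] at h3
  rw [nrm_add, M.lam_norm x hx, M.lam_norm y hy] at h4
  unfold Ad
  omega

/-- common neighbours of `o` and a point of height 2 -/
theorem exists_low (E : Edge M π n o o') {x : P} (hx : x ∈ M.Sh) (hox : x ≠ o) (h : ¬ Ad M o x) :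
    ∃ w ∈ M.Sh, Ad M o w ∧ Ad M x w := by
  rcases dot_cases E.mem hx with h1 | h1 | h1 | h1
  · exact absurd h1 hox
  · refine ⟨o', E.mem', E.ad, ?_⟩
    rw [h1, ad_z_left]
    exact E.ad
  · exact absurd h1 h
  · obtain ⟨v, hv1, hv2⟩ := LeechL3.exists_mu _ _ (M.lam_norm o E.mem) (M.lam_norm x hx) h1
    obtain ⟨w, hw, hwv⟩ := M.lam_surj v hv1.1
    exact ⟨w, hw, ad_of_signs (Or.inl rfl) hwv hv1.2, ad_of_signs (Or.inl rfl) hwv hv2.2⟩

/-- The common neighbours are connected. -/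
theorem conn_low (E : Edge M π n o o') {x : P} (hx : x ∈ M.Sh) (hox : x ≠ o) (h : ¬ Ad M o x)
    {w w' : P} (hw : w ∈ M.Sh) (hw' : w' ∈ M.Sh) (h1 : Ad M o w) (h2 : Ad M x w) (h1' : Ad M o w')
    (h2' : Ad M x w') : Relation.TransGen (fun a b => a ∈ M.Sh ∧ b ∈ M.Sh ∧ Ad M o a ∧ Ad M x a ∧
      Ad M o b ∧ Ad M x b ∧ Ad M a b) w w' := by
  have hon := M.lam_norm o E.mem
  have hxn := M.lam_norm x hx
  have hwn := M.lam_norm w hw
  have hwn' := M.lam_norm w' hw'
  have hneg : ∀ {a b : P}, Ad M a b → dot (M.lam a) (-M.lam b) = 16 ∨ dot (M.lam a) (-M.lam b) = -16 := by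
    intro a b hab
    rw [dot_neg_right]
    rcases hab with h | h <;> rw [h]
    · exact Or.inr rfl
    · exact Or.inl rfl
  rcases dot_cases E.mem hx with e | e | e | e
  · exact absurd e hox
  · -- `x = z o`
    refine lift_conn (A := LeechL2.N9 (M.lam o)) (fun h => h.2.1.1) ?_ hw hw'
      (LeechL2.conn_nine _ _ _ hon hwn h1 hwn' h1')
      (LeechL2.conn_nine _ _ _ hon hwn h1 (by rw [nrm_neg, hwn]) (hneg h1))
    intro a ha b hb v v' hvv hv hv'
    have h3 := IIa_of_N9 hvv hv hv'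
    refine ⟨ha, hb, h3.xy, ?_, h3.xw, ?_, h3.yw⟩
    · rw [e, ad_z_left]; exact h3.xy
    · rw [e, ad_z_left]; exact h3.xw
  · exact absurd e h
  · refine lift_conn (A := LeechL3.MuAdj (M.lam o) (M.lam x)) (fun h => h.2.1.1.1) ?_ hw hw'
      (LeechL3.mu_conn _ _ hon hxn e ⟨hwn, h1⟩ ⟨hwn, h2⟩ ⟨hwn', h1'⟩ ⟨hwn', h2'⟩)
      (LeechL3.mu_conn _ _ hon hxn e ⟨hwn, h1⟩ ⟨hwn, h2⟩ ⟨by rw [nrm_neg, hwn], hneg h1⟩
        ⟨by rw [nrm_neg, hwn], hneg h2⟩)
    intro a ha b hb v v' hvv hv hv'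
    obtain ⟨⟨a1, a2⟩, ⟨a3, a4⟩, a5⟩ := hvv
    have ho : M.lam o = M.lam o ∨ M.lam o = -M.lam o := Or.inl rfl
    have hx' : M.lam x = M.lam x ∨ M.lam x = -M.lam x := Or.inl rfl
    exact ⟨ha, hb, ad_of_signs ho hv a1.2, ad_of_signs hx' hv a2.2, ad_of_signs ho hv' a3.2,
      ad_of_signs hx' hv' a4.2, ad_of_signs hv hv' a5.2⟩

/-- The Morse hypotheses on `S`. -/
theorem morse (L : Lift M θ) (E : Edge M π n o o')
    (hc : ∀ x ∈ M.Sh, ∀ y ∈ M.Sh, ∀ w ∈ M.Sh, Ad M x y → Ad M x w → Ad M y w →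
      D.Closed (M.a x) (M.a y) (M.a w)) :
    MorseHyp (Adj π n (M.a o)) D.Closed M.S (height D) where
  m1 := by
    rintro _ ⟨x, hx, rfl⟩ hpos
    have hox : x ≠ o := by
      rintro rfl
      rw [height_base] at hpos
      exact absurd hpos (lt_irrefl _)
    by_cases h : Ad M o x
    · refine ⟨M.a o, ⟨o, E.mem, rfl⟩, (adj_iff L E hx E.mem).2 (Ad.symm M h), ?_⟩
      rw [height_base]
      exact hpos
    · obtain ⟨w, hw, h1, h2⟩ := exists_low E hx hox h
      refine ⟨M.a w, ⟨w, hw, rfl⟩, (adj_iff L E hx hw).2 h2, ?_⟩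
      have h3 := (height_one D L E hw).2 h1
      have h4 := (height_one D L E hx).not.2 h
      omega
  m2 := by
    rintro _ ⟨x, hx, rfl⟩ hpos q ⟨⟨w, hw, rfl⟩, hq1, hq2⟩ q' ⟨⟨w', hw', rfl⟩, hq1', hq2'⟩
    have hox : x ≠ o := by
      rintro rfl
      rw [height_base] at hpos
      exact absurd hpos (lt_irrefl _)
    rw [adj_iff L E hx hw] at hq1
    rw [adj_iff L E hx hw'] at hq1'
    by_cases h : Ad M o x
    · have h1 := (height_one D L E hx).2 h
      have h2 := height_zero D (v := M.a w) (by omega)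
      have h3 := height_zero D (v := M.a w') (by omega)
      rw [h2, h3]
    · have h0 : height D (M.a x) = 2 := by
        have h3 := height_le D (M.a x)
        have h4 := (height_one D L E hx).not.2 h
        omega
      have hlow : ∀ {t : P}, t ∈ M.Sh → Ad M x t → height D (M.a t) < height D (M.a x) → Ad M o t := by
        intro t ht hxt hlt
        apply (height_one D L E ht).1
        have h5 : height D (M.a t) ≠ 0 := by
          intro h5
          have h6 := M.a_inj _ _ ht E.mem (height_zero D h5)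
          rw [h6] at hxt
          exact h (Ad.symm M hxt)
        omega
      have hlow' : ∀ {t : P}, t ∈ M.Sh → Ad M x t → Ad M o t →
          M.a t ∈ Low (Adj π n (M.a o)) M.S (height D) (M.a x) := by
        intro t ht hxt hot
        refine ⟨⟨t, ht, rfl⟩, (adj_iff L E hx ht).2 hxt, ?_⟩
        rw [h0, (height_one D L E ht).2 hot]
        norm_num
      have h6 := conn_low E hx hox h hw hw' (hlow hw hq1 hq2) hq1 (hlow hw' hq1' hq2') hq1'
      have key : ∀ c, Relation.TransGen (fun a b => a ∈ M.Sh ∧ b ∈ M.Sh ∧ Ad M o a ∧ Ad M x a ∧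
          Ad M o b ∧ Ad M x b ∧ Ad M a b) w c →
          Relation.ReflTransGen (Link (Adj π n (M.a o)) D.Closed M.S (height D) (M.a x))
            (M.a w) (M.a c) := by
        have hstep : ∀ {a b : P}, (a ∈ M.Sh ∧ b ∈ M.Sh ∧ Ad M o a ∧ Ad M x a ∧
            Ad M o b ∧ Ad M x b ∧ Ad M a b) →
            Link (Adj π n (M.a o)) D.Closed M.S (height D) (M.a x) (M.a a) (M.a b) := by
          rintro a b ⟨ha, hb, h1, h2, h3, h4, h5⟩
          exact ⟨hlow' ha h2 h1, hlow' hb h4 h3, hc x hx a ha b hb h2 h4 h5⟩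
        intro c h7
        induction h7 with
        | single h => exact Relation.ReflTransGen.single (hstep h)
        | tail _ h ih => exact ih.tail (hstep h)
      exact key _ h6
  m3 := by
    rintro _ ⟨x, hx, rfl⟩ _ ⟨y, hy, rfl⟩ hxy heq hpos
    rw [adj_iff L E hx hy] at hxy
    have hox : x ≠ o := by
      rintro rfl
      rw [height_base] at hpos
      exact absurd hpos (lt_irrefl _)
    by_cases h : Ad M o x
    · have h1 := (height_one D L E hx).2 h
      have h2 := (height_one D L E hy).1 (by omega)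
      refine ⟨M.a o, ⟨⟨o, E.mem, rfl⟩, (adj_iff L E hx E.mem).2 (Ad.symm M h), ?_⟩,
        hc x hx y hy o E.mem hxy (Ad.symm M h) (Ad.symm M h2)⟩
      rw [height_base]
      exact hpos
    · have h2 : ¬ Ad M o y := by
        intro h2
        apply h
        apply (height_one D L E hx).1
        rw [heq]
        exact (height_one D L E hy).2 h2
      have hoy : y ≠ o := by
        rintro rfl
        rw [heq, height_base] at hpos
        exact absurd hpos (lt_irrefl _)
      have hxd : dot (M.lam o) (M.lam x) = 0 ∨ dot (M.lam o) (M.lam x) = 8 ∨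
          dot (M.lam o) (M.lam x) = -8 := by
        rcases dot_cases E.mem hx with e | e | e | e
        · exact absurd e hox
        · exfalso
          rw [e, ad_z_left] at hxy
          exact h2 hxy
        · exact absurd e h
        · exact e
      have hyd : dot (M.lam o) (M.lam y) = 0 ∨ dot (M.lam o) (M.lam y) = 8 ∨
          dot (M.lam o) (M.lam y) = -8 := by
        rcases dot_cases E.mem hy with e | e | e | e
        · exact absurd e hoy
        · exfalso
          rw [e, ad_z_right] at hxy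
          exact h (Ad.symm M hxy)
        · exact absurd e h2
        · exact e
      obtain ⟨v, hv, h3, h4, h5⟩ := LeechNbr.exists_common _ _ _ (M.lam_norm o E.mem)
        (M.lam_norm x hx) (M.lam_norm y hy) hxy hxd hyd
      obtain ⟨w, hw, hwv⟩ := M.lam_surj v hv
      have a1 : Ad M o w := ad_of_signs (Or.inl rfl) hwv h3
      have a2 : Ad M x w := ad_of_signs (Or.inl rfl) hwv h4
      have a3 : Ad M y w := ad_of_signs (Or.inl rfl) hwv h5
      refine ⟨M.a w, ⟨⟨w, hw, rfl⟩, (adj_iff L E hx hw).2 a2, ?_⟩, hc x hx y hy w hw hxy a2 a3⟩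
      have h6 := (height_one D L E hw).2 a1
      have h7 := (height_one D L E hx).not.2 h
      omega

/-- **The sheet over `S`.** -/
theorem exists_sheet (L : Lift M θ) (E : Edge M π n o o')
    (hb : D.Closed (M.a o) (M.a o') (M.a (M.zc * (o * o'))))
    (ha : ∃ x ∈ M.Sh, ∃ y ∈ M.Sh, ∃ w ∈ M.Sh, IIa M x y w ∧ D.Closed (M.a x) (M.a y) (M.a w)) :
    ∃ s : V → Γ ⧸ H, Sheet (Adj π n (M.a o)) (Adj' H n) D.pr M.S s := by
  have hb' : ∀ x ∈ M.Sh, ∀ y ∈ M.Sh, Ad M x y → D.Closed (M.a x) (M.a y) (M.a (M.zc * (x * y))) :=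
    fun x hx y hy h => closed_IIb D L E hb hx hy h
  have ha' : ∀ x ∈ M.Sh, ∀ y ∈ M.Sh, ∀ w ∈ M.Sh, IIa M x y w →
      D.Closed (M.a x) (M.a y) (M.a w) := by
    obtain ⟨x₁, hx₁, y₁, hy₁, w₁, hw₁, h1, h2⟩ := ha
    exact fun x hx y hy w hw h => closed_IIa D L hx₁ hy₁ hw₁ h1 h2 hx hy hw h
  have hm := morse D L E (fun x hx y hy w hw h1 h2 h3 => closed_all D L E hb' ha' hx hy hw h1 h2 h3)
  refine Sheet.extend D.cover hm ⟨2, fun x _ => height_le D x⟩
    (s := fun _ => ((1 : Γ) : Γ ⧸ H)) ⟨?_, ?_⟩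
  · rintro x ⟨-, hx⟩
    rw [height_zero D hx, D.pr_mk, map_one, one_smul]
  · rintro x ⟨-, hx⟩ y ⟨-, hy⟩ hxy
    rw [height_zero D hx, height_zero D hy, adj_iff L E E.mem E.mem] at hxy
    exact absurd rfl (Ad.ne E.mem hxy)

/-- `S` is connected. -/
theorem connS (L : Lift M θ) (E : Edge M π n o o') : CovData.Conn π n (M.a o) M.S := by
  rintro _ ⟨x, hx, rfl⟩ _ ⟨y, hy, rfl⟩
  have h := lift_conn (M := M) (A := Cfsg.Agent.MonsterX.Lat.Adj) (R := fun a b => a ∈ M.Sh ∧ b ∈ M.Sh ∧ Ad M a b)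
    (fun h => h.1) (fun a ha b hb v v' hvv hv hv' => ⟨ha, hb, ad_of_signs hv hv' hvv.2⟩) hx hy
    (conn _ _ (M.lam_norm x hx) (M.lam_norm y hy))
    (conn _ _ (M.lam_norm x hx) (by rw [nrm_neg, M.lam_norm x hx]))
  have hstep : ∀ {a b : P}, (a ∈ M.Sh ∧ b ∈ M.Sh ∧ Ad M a b) →
      (M.a a ∈ M.S ∧ M.a b ∈ M.S ∧ Adj π n (M.a o) (M.a a) (M.a b)) := by
    rintro a b ⟨ha, hb, hab⟩
    exact ⟨⟨a, ha, rfl⟩, ⟨b, hb, rfl⟩, (adj_iff L E ha hb).2 hab⟩
  induction h with
  | single h => exact Relation.ReflTransGen.single (hstep h)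
  | tail _ h ih => exact (ih h.1).tail (hstep h)

/-- `K` preserves `S`. -/
theorem K_smul {k : G} (hk : k ∈ M.K) (v : V) : k • v ∈ M.S ↔ v ∈ M.S := by
  have key : ∀ {k : G} {v : V}, k ∈ M.K → v ∈ M.S → k • v ∈ M.S := by
    rintro k _ hk ⟨x, hx, rfl⟩
    obtain ⟨y, hy, e⟩ := M.K_smul_a k hk x hx
    exact ⟨y, hy, e.symm⟩
  refine ⟨fun h => ?_, key hk⟩
  have := key (M.K.inv_mem hk) h
  rwa [inv_smul_smul] at this

end

end Cfsg.Agent.MonsterP.SGraph
end

-- part: MonsterP/HB
section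
set_option linter.all false
open scoped Cfsg.Agent.FastGrp

/-!
# The base triangle of type IIb in the model

In the model of the Monster (`Link`, `Lift`) an axis in `S` is determined by its involution: if
`g (ι x) g⁻¹ = ι y` then `g (a x) = a y`.  Hence for node involutions `π (t 10) = ι o`, `π (t 5) = ι o'`,
`π (t 0) = ι (z o o')` the reversal `n̂` maps `a o` to `a o'` and the triangle `a o`, `a o'`, `a (z o o')` is closed.
-/

set_option autoImplicit false

namespace Cfsg.Agent.MonsterP.HB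

open Cfsg Cfsg.Agent.LeechMat.Core Cfsg.Agent.MonsterX.KSide Cfsg.Agent.MonsterX.KLift
  Cfsg.Agent.MonsterX.KModel Cfsg.Agent.MonsterX.Model Cfsg.Agent.MonsterX.MainTrans
  Cfsg.Agent.MonsterX.MainBasic
  Cfsg.Agent.Bimonster Cfsg.Agent.Bimonster.Tits Cfsg.Agent.MonsterP.NhatData
  Cfsg.Agent.MonsterP.SChar Cfsg.Agent.MonsterP.W2

variable {V P W : Type} [AddCommGroup V] [Module ℚ V] [Group P] [AddCommGroup W] [Module ℚ W]
variable {D : MData V} {M : KS ↥D.G V P W} {x₀ : P} {θ : leechLattice → P} {K₀ : Type} [Group K₀]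

/-- `K` is transitive on the short elements, with the axis and the involution. -/
theorem exists_trans (H : Link D M x₀) (L : Lift M θ) {x : P} (hx : x ∈ M.Sh) :
    ∃ k : D.G, k • M.a x₀ = M.a x ∧ k * M.ι x₀ * k⁻¹ = M.ι x := by
  obtain ⟨k, hk, A, α, T, hA, e⟩ := trans_Sh L x₀ x H.x₀_mem hx
  refine ⟨k, ?_, ?_⟩
  · rw [Link.smul_a hA x₀ H.x₀_mem, e]
  · rw [mul_inv_eq_iff_eq_mul, conj_ι hA, e]

/-- **An axis in `S` is determined by its involution.** -/
theorem smul_a_of_conj (H : Link D M x₀) (L : Lift M θ) (hG : MGroup D K₀) (hR : MRep D)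
    (hL : MLat D) (hO : MOrbit D) (hT : MTrans D) {x y : P} (hx : x ∈ M.Sh) (hy : y ∈ M.Sh)
    {g : D.G} (h : g * M.ι x * g⁻¹ = M.ι y) : g • M.a x = M.a y := by
  obtain ⟨k, hk, hk'⟩ := exists_trans H L hx
  obtain ⟨l, hl, hl'⟩ := exists_trans H L hy
  have h1 : (g * k) * M.ι x₀ * (g * k)⁻¹ = l * M.ι x₀ * l⁻¹ := by
    rw [hl', ← h, ← hk']
    group
  have h2 := congrArg (fun t : D.G => (t : V ≃ₗ[ℚ] V)) h1
  have h3 : ((g * k : D.G) : V ≃ₗ[ℚ] V) * D.t₀ * ((g * k : D.G) : V ≃ₗ[ℚ] V)⁻¹ =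
      (l : V ≃ₗ[ℚ] V) * D.t₀ * (l : V ≃ₗ[ℚ] V)⁻¹ := by
    rw [H.t₀_eq]
    exact h2
  have h4 := conj_inj hG hR hL hO hT (g * k).2 l.2 h3
  rw [H.a₀_eq] at h4
  rw [← hk, ← hl, ← mul_smul]
  exact h4

section

variable {Γ : Type*} [Group Γ] {t : ℕ → Γ} {π : Γ →* D.G} {o o' : P}

/-- The reversal maps the base axis to the axis of node 5. -/
theorem smul_nh (hP : PRel t) (H : Link D M x₀) (L : Lift M θ) (hG : MGroup D K₀) (hR : MRep D)
    (hL : MLat D) (hO : MOrbit D) (hT : MTrans D) (ho : o ∈ M.Sh) (ho' : o' ∈ M.Sh)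
    (e10 : π (t 10) = M.ι o) (e5 : π (t 5) = M.ι o') : π (ev t nhW) • M.a o = M.a o' :=
  IIb.smul_nh hP (fun g hg => smul_a_of_conj H L hG hR hL hO hT ho ho' (by rw [← e10, ← e5]; exact hg))

/-- **The base triangle of type IIb is closed.** -/
theorem closed (hP : PRel t) (H : Link D M x₀) (L : Lift M θ) (hG : MGroup D K₀) (hR : MRep D)
    (hL : MLat D) (hO : MOrbit D) (hT : MTrans D) (C : CovData π (HP t) (ev t nhW) (M.a o))
    (ho : o ∈ M.Sh) (ho' : o' ∈ M.Sh) (had : Ad M o o')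
    (e10 : π (t 10) = M.ι o) (e5 : π (t 5) = M.ι o') (e0 : π (t 0) = M.ι (M.zc * (o * o'))) :
    C.Closed (M.a o) (M.a o') (M.a (M.zc * (o * o'))) :=
  IIb.closed hP C
    (fun g hg => smul_a_of_conj H L hG hR hL hO hT ho ho' (by rw [← e10, ← e5]; exact hg))
    (fun g hg => smul_a_of_conj H L hG hR hL hO hT ho
      (M.Sh_z _ (mul_mem L ho ho' had)) (by rw [← e10, ← e0]; exact hg))

end

end Cfsg.Agent.MonsterP.HB
end

-- part: MonsterP/AxisInj
section
set_option linter.all false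
open scoped Cfsg.Agent.FastGrp

/-!
# Axes and involutions in the model; `n̂` lies over `K`
-/

set_option autoImplicit false

namespace Cfsg.Agent.MonsterP.AxisInj

open Cfsg Cfsg.Agent.LeechMat.Core Cfsg.Agent.MonsterX.KSide Cfsg.Agent.MonsterX.KLift
  Cfsg.Agent.MonsterX.KModel Cfsg.Agent.MonsterX.Model Cfsg.Agent.MonsterX.MainTrans
  Cfsg.Agent.MonsterX.MainBasic
  Cfsg.Agent.Bimonster Cfsg.Agent.Bimonster.Tits Cfsg.Agent.MonsterP.NhatData
  Cfsg.Agent.MonsterP.Nhat Cfsg.Agent.MonsterP.SChar Cfsg.Agent.MonsterP.W2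

variable {V P W : Type} [AddCommGroup V] [Module ℚ V] [Group P] [AddCommGroup W] [Module ℚ W]
variable {D : MData V} {M : KS ↥D.G V P W} {x₀ : P} {θ : leechLattice → P} {K₀ : Type} [Group K₀]

/-- **The axis and the involution of a short element determine each other.** -/
theorem axis_iff (H : Link D M x₀) (L : Lift M θ) (hG : MGroup D K₀) (hR : MRep D)
    (hL : MLat D) (hO : MOrbit D) (hT : MTrans D) {g : D.G} {x y : P} (hx : x ∈ M.Sh)
    (hy : y ∈ M.Sh) : g * M.ι x * g⁻¹ = M.ι y ↔ g • M.a x = M.a y := by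
  refine ⟨HB.smul_a_of_conj H L hG hR hL hO hT hx hy, fun h => ?_⟩
  obtain ⟨k, hk, hk'⟩ := HB.exists_trans H L hx
  obtain ⟨l, hl, hl'⟩ := HB.exists_trans H L hy
  have h1 : ((g * k : D.G) : V ≃ₗ[ℚ] V) D.a₀ = (l : V ≃ₗ[ℚ] V) D.a₀ := by
    rw [H.a₀_eq]
    change (g * k) • M.a x₀ = l • M.a x₀
    rw [mul_smul, hk, hl, h]
  have h2 := conj_eq hG hR hL hO hT (g * k).2 l.2 h1
  rw [H.t₀_eq] at h2
  have h3 : (g * k) * M.ι x₀ * (g * k)⁻¹ = l * M.ι x₀ * l⁻¹ := Subtype.ext h2
  rw [← hl', ← h3, ← hk']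
  group

/-- The involution of the axis `g a₀ = a x` is `ι x`. -/
theorem conj_eq_ι (H : Link D M x₀) (L : Lift M θ) (hG : MGroup D K₀) (hR : MRep D)
    (hL : MLat D) (hO : MOrbit D) (hT : MTrans D) {g : D.G} {x : P} (hx : x ∈ M.Sh)
    (h : g • M.a x₀ = M.a x) : g * M.ι x₀ * g⁻¹ = M.ι x :=
  (axis_iff H L hG hR hL hO hT H.x₀_mem hx).2 h

/-- The product of the three involutions of a triangle of type IIb is `z`. -/
theorem prod (L : Lift M θ) {o o' : P} (ho : o ∈ M.Sh) (ho' : o' ∈ M.Sh) (had : Ad M o o') :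
    M.ι o * M.ι o' * M.ι (M.zc * (o * o')) = M.z := by
  have h1 : (o * o') * (o * o') = 1 := L.sh_sq _ (mul_mem L ho ho' had)
  rw [← map_mul, ← map_mul, KS.z]
  congr 1
  calc o * o' * (M.zc * (o * o')) = M.zc * (o * o') * (o * o') := by
        rw [← mul_assoc (o * o'), ← M.zc_comm]
    _ = M.zc := by rw [mul_assoc, h1, mul_one]

section

variable {Γ : Type*} [Group Γ] {t : ℕ → Γ} {π : Γ →* D.G} {o o' : P}

/-- The reversal commutes with the product of the nodes 10, 5, 0. -/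
theorem nh_comm_prod (hP : PRel t) :
    ev t nhW * (t 10 * t 5 * t 0) = t 10 * t 5 * t 0 * ev t nhW := by
  have c10 := nh_conj hP.cox hP.f1a hP.f2a (i := 10) (by norm_num)
  have c5 := nh_conj hP.cox hP.f1a hP.f2a (i := 5) (by norm_num)
  have c0 := nh_conj hP.cox hP.f1a hP.f2a (i := 0) (by norm_num)
  have hs := nh_sq hP.cox
  change ev t nhW * t 10 * ev t nhW = t 5 at c10
  change ev t nhW * t 5 * ev t nhW = t 10 at c5
  change ev t nhW * t 0 * ev t nhW = t 0 at c0
  have hc : t 5 * t 10 = t 10 * t 5 := hP.cox.cm 5 (by norm_num) 10 (by norm_num) (by decide)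
  have h1 : ev t nhW * (t 10 * t 5 * t 0) * ev t nhW = t 10 * t 5 * t 0 := by
    calc ev t nhW * (t 10 * t 5 * t 0) * ev t nhW
        = (ev t nhW * t 10 * ev t nhW) * ((ev t nhW)⁻¹ * t 5 * ev t nhW) *
            ((ev t nhW)⁻¹ * t 0 * ev t nhW) := by group
      _ = t 10 * t 5 * t 0 := by
        rw [inv_eq_of_mul_eq_one_left hs, c10, c5, c0, hc]
  calc ev t nhW * (t 10 * t 5 * t 0)
      = ev t nhW * (t 10 * t 5 * t 0) * (ev t nhW * ev t nhW) := by rw [hs, mul_one]
    _ = ev t nhW * (t 10 * t 5 * t 0) * ev t nhW * ev t nhW := by rw [← mul_assoc]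
    _ = t 10 * t 5 * t 0 * ev t nhW := by rw [h1]

/-- **The reversal lies over `K`.** -/
theorem nh_mem_K (hP : PRel t) (H : Link D M x₀) (L : Lift M θ) (hG : MGroup D K₀) (hR : MRep D)
    (hL : MLat D) (hO : MOrbit D) (hT : MTrans D) (ho : o ∈ M.Sh) (ho' : o' ∈ M.Sh)
    (had : Ad M o o') (e10 : π (t 10) = M.ι o) (e5 : π (t 5) = M.ι o')
    (e0 : π (t 0) = M.ι (M.zc * (o * o'))) : π (ev t nhW) ∈ M.K := by
  have h1 := congrArg π (nh_comm_prod hP)
  rw [map_mul, map_mul _ (t 10 * t 5 * t 0), map_mul, map_mul, e10, e5, e0, prod L ho ho' had] at h1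
  rw [H.C_iff]
  refine cent_z hG hR hL hO hT (π (ev t nhW)).2 ?_
  rw [H.z_eq]
  exact congrArg (fun t : D.G => (t : V ≃ₗ[ℚ] V)) h1

end

end Cfsg.Agent.MonsterP.AxisInj
end

-- part: MonsterP/MFactsInst
section
set_option linter.all false
open scoped Cfsg.Agent.FastGrp

/-!
# The facts on the stabiliser of an axis in the model

`MFacts` of `CovP.lean` for the group of the 196884-dimensional model: nodes `π (t 10) = ι o`,
`π (t 5) = ι o'` with `o`, `o'` adjacent short elements.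
-/

set_option autoImplicit false

namespace Cfsg.Agent.MonsterP.MFactsInst

open Cfsg Cfsg.Agent.LeechMat.Core Cfsg.Agent.MonsterX.KSide Cfsg.Agent.MonsterX.KLift
  Cfsg.Agent.MonsterX.KModel Cfsg.Agent.MonsterX.Model Cfsg.Agent.MonsterX.MainTrans
  Cfsg.Agent.MonsterX.MainBasic
  Cfsg.Agent.Bimonster Cfsg.Agent.Bimonster.Tits Cfsg.Agent.MonsterP.NhatData
  Cfsg.Agent.MonsterP.SChar Cfsg.Agent.MonsterP.W2 Cfsg.Agent.MonsterP.CovP

variable {V P W : Type} [AddCommGroup V] [Module ℚ V] [Group P] [AddCommGroup W] [Module ℚ W]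
variable {D : MData V} {M : KS ↥D.G V P W} {x₀ : P} {θ : leechLattice → P} {K₀ : Type} [Group K₀]

/-- A braid relation and a commutation. -/
theorem eq_of_br {G : Type*} [Group G] {x c : G} (hx : x * x = 1) (hc : c * c = 1)
    (h1 : x * c = c * x) (h2 : x * c * x = c * x * c) : c = x := by
  have e1 : x * c * x = c := by rw [h1, mul_assoc, hx, mul_one]
  have e2 : c * x * c = x := by rw [← h1, mul_assoc, hc, mul_one]
  rw [← e1, h2, e2]

/-- If two neighbours agree, all nodes agree. -/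
theorem all_eq {G : Type*} [Group G] {y : ℕ → G} (h : CoxRel 14 y) (h01 : y 0 = y 1) :
    y 5 = y 10 := by
  have step : ∀ a b c : ℕ, a < 14 → b < 14 → c < 14 → adjB a c = false → adjB b c = true →
      y a = y b → y c = y b := by
    intro a b c ha hb hc h1 h2 hab
    refine eq_of_br (h.sq b hb) (h.sq c hc) ?_ (h.br b hb c hc h2)
    rw [← hab]
    exact h.cm a ha c hc h1
  have e2 := step 0 1 2 (by norm_num) (by norm_num) (by norm_num) (by decide) (by decide) h01
  have e3 := step 1 2 3 (by norm_num) (by norm_num) (by norm_num) (by decide) (by decide) e2.symm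
  have e4 := step 2 3 4 (by norm_num) (by norm_num) (by norm_num) (by decide) (by decide) e3.symm
  have e5 := step 3 4 5 (by norm_num) (by norm_num) (by norm_num) (by decide) (by decide) e4.symm
  have e6 := step 1 0 6 (by norm_num) (by norm_num) (by norm_num) (by decide) (by decide) h01.symm
  have e7 := step 0 6 7 (by norm_num) (by norm_num) (by norm_num) (by decide) (by decide) e6.symm
  have e8 := step 6 7 8 (by norm_num) (by norm_num) (by norm_num) (by decide) (by decide) e7.symm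
  have e9 := step 7 8 9 (by norm_num) (by norm_num) (by norm_num) (by decide) (by decide) e8.symm
  have e10 := step 8 9 10 (by norm_num) (by norm_num) (by norm_num) (by decide) (by decide) e9.symm
  rw [e5, e4, e3, e2, ← h01, e10, e9, e8, e7, e6]

/-- The Coxeter relations in the image. -/
theorem cox_map {Γ G : Type*} [Group Γ] [Group G] {n : ℕ} {t : ℕ → Γ} (h : CoxRel n t)
    (π : Γ →* G) : CoxRel n (fun i => π (t i)) where
  sq i hi := by rw [← map_mul, h.sq i hi, map_one]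
  cm i hi j hj hij := by rw [← map_mul, ← map_mul, h.cm i hi j hj hij]
  br i hi j hj hij := by simp only [← map_mul]; rw [h.br i hi j hj hij]

/-- The order of the stabiliser of an axis. -/
theorem card_stab (H : Link D M x₀) (L : Lift M θ) (hG : MGroup D K₀) (hR : MRep D)
    (hL : MLat D) (hO : MOrbit D) (hT : MTrans D) {o : P} (ho : o ∈ M.Sh) :
    Nat.card (MulAction.stabilizer D.G (M.a o)) = 2 * 4154781481226426191177580544000000 := by
  obtain ⟨k, hk, -⟩ := HB.exists_trans H L ho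
  rw [← hk, MulAction.stabilizer_smul_eq_stabilizer_map_conj,
    Subgroup.card_map_of_injective (MulAut.conj k).injective,
    ← MonsterX.MainPack.card_cent_t hG hR hL hO hT]
  congr 2
  ext g
  rw [MonsterX.MainPack.mem_cent_t_iff' hG hR hL hO hT, MulAction.mem_stabilizer_iff, ← H.a₀_eq]
  rfl

variable {Γ : Type*} [Group Γ] {t : ℕ → Γ} {π : Γ →* D.G} {o o' : P}

/-- **The facts on the stabiliser of the axis of node 10.** -/
theorem mfacts (hP : PRel t) (H : Link D M x₀) (L : Lift M θ) (hG : MGroup D K₀) (hR : MRep D)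
    (hL : MLat D) (hO : MOrbit D) (hT : MTrans D) (hB : IsB Spor.BabyMonster) (ho : o ∈ M.Sh)
    (ho' : o' ∈ M.Sh) (had : Ad M o o') (e10 : π (t 10) = M.ι o) (e5 : π (t 5) = M.ι o') :
    MFacts (fun i => π (t i)) (M.a o) where
  fix i hi := by
    have h1 : t i * t 10 = t 10 * t i := by
      have h2 : i < 14 ∧ adjB i 10 = false := by
        fin_cases hi <;> exact ⟨by norm_num, by decide⟩
      exact hP.cox.cm i h2.1 10 (by norm_num) h2.2
    refine (AxisInj.axis_iff H L hG hR hL hO hT ho ho).1 ?_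
    rw [← e10, ← map_mul, h1, map_mul, mul_inv_cancel_right]
  cent g hg := by
    have h1 := (AxisInj.axis_iff H L hG hR hL hO hT ho ho).2 hg
    change g * π (t 10) = π (t 10) * g
    rw [e10]
    exact mul_inv_eq_iff_eq_mul.1 h1
  ne_one := by
    change π (t 10) ≠ 1
    rw [e10, ← map_one M.ι]
    intro h
    obtain ⟨q, hq⟩ := nc_of_mem L ho
    rw [Link.ι_inj L h, chi_eq_one, mul_one, mul_inv_cancel, mul_one] at hq
    exact M.zc_ne hq.symm
  ne := by
    intro h
    have h1 := all_eq (cox_map hP.cox π) h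
    change π (t 5) = π (t 10) at h1
    rw [e10, e5] at h1
    exact SGraph.Ad.ne ho had (Link.ι_inj L h1)
  stab_fin := by
    have := G_finite hO
    infer_instance
  stab_card := by
    rw [card_stab H L hG hR hL hO hT ho, hB.2]
  conj := by
    obtain ⟨k, α, hk, h1, h2⟩ := trans_pair L ho ho' ho (mul_mem L ho ho' had) had
      (ad_mul_left L ho ho' had)
    refine ⟨k, ?_, ?_⟩
    · rw [hk.smul_a ho, h1]
    · change k * π (t 5) * k⁻¹ = π (t 5) * π (t 10)
      obtain ⟨-, A, T, hA⟩ := hk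
      rw [e5, e10, mul_inv_eq_iff_eq_mul, conj_ι hA, h2, ← map_mul, mul_comm' L ho ho' had]

end Cfsg.Agent.MonsterP.MFactsInst
end

-- part: MonsterP/GenH
section
set_option linter.all false
open scoped Cfsg.Agent.FastGrp

/-!
# Generation: `H` and the reversal `n̂` generate the presented group
-/

set_option autoImplicit false

namespace Cfsg.Agent.MonsterP.GenH

open Cfsg.Agent.Bimonster Cfsg.Agent.Bimonster.Tits Cfsg.Agent.MonsterP.NhatData
open Cfsg.Agent.MonsterP.Nhat Cfsg.Agent.MonsterP.W2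

variable {Γ : Type*} [Group Γ] {t : ℕ → Γ}

/-- `H` and `n̂` generate everything generated by the nodes. -/
theorem closure_eq_top (hP : PRel t) (hgen : Subgroup.closure (nodes 14 t) = ⊤) :
    Subgroup.closure ((HP t : Set Γ) ∪ {ev t nhW}) = ⊤ := by
  rw [eq_top_iff, ← hgen, Subgroup.closure_le]
  rintro _ ⟨i, hi, rfl⟩
  have hH : ∀ g ∈ HP t, g ∈ Subgroup.closure ((HP t : Set Γ) ∪ {ev t nhW}) :=
    fun g hg => Subgroup.subset_closure (Or.inl hg)
  have hn : ev t nhW ∈ Subgroup.closure ((HP t : Set Γ) ∪ {ev t nhW}) :=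
    Subgroup.subset_closure (Or.inr rfl)
  have h4 := nh_conj hP.cox hP.f1a hP.f2a (i := 4) (by norm_num)
  change ev t nhW * t 4 * ev t nhW = t 9 at h4
  interval_cases i
  all_goals first
    | exact hH _ (mem_HP (by decide))
    | exact hH _ (t5_mem hP.f1a)
    | exact hH _ (t10_mem hP.f2a)
    | (show t 9 ∈ _
       rw [← h4]
       exact Subgroup.mul_mem _ (Subgroup.mul_mem _ hn (hH _ (mem_HP (by decide)))) hn)

end Cfsg.Agent.MonsterP.GenH
end

-- part: MonsterP/Bottom
section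
set_option linter.all false
open scoped Cfsg.Agent.FastGrp

/-!
# The bottom of the Morse argument is given by the subgroup `H` (helper227)

`π : Γ →* G`, `H ≤ Γ` is mapped isomorphically onto the stabiliser of `x₀ : X` (`CovData` of `Cover.lean`),
`α : K →* Γ`, `β : N →* Γ` the homomorphisms of the amalgam (`U4`).  The points `g K` of `G ⧸ K` with
`g • x₀ = x₀` carry a sheet (`g K ↦ (g, h)`, `h ∈ H` over `g`), so the Morse argument of ONE level gives a
homomorphism `φ : G →* Γ` which extends `α`, `β` and maps the stabiliser of `x₀` into `H`; it is onto.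
-/

set_option autoImplicit false

namespace Cfsg.Agent.MonsterP.Bottom

open Cfsg.Agent.MonsterU Cfsg.Agent.MonsterU.Morse Cfsg.Agent.MonsterU.GlueP
open Cfsg.Agent.MonsterU.Glue (gr proj mk_eq_mk mem_gr mk_mem_gr mk_mul_gr proj_mk)

section Keep

variable {P P' : Type*} {A : P → P → Prop} {A' : P' → P' → Prop} {T : P → P → P → Prop} {π : P' → P}

/-- One step of the Morse argument, which keeps the sheet below. -/
theorem step_keep (hc : Cover A A' T π) {E : Set P} {ht : P → ℕ} (hm : MorseHyp A T E ht) (n : ℕ)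
    (s : P → P') (hs : Sheet A A' π {x | x ∈ E ∧ ht x ≤ n} s) :
    ∃ s' : P → P', Sheet A A' π {x | x ∈ E ∧ ht x ≤ n + 1} s' ∧ ∀ x, ht x ≤ n → s' x = s x := by
  classical
  have key : ∀ x, ∃ x', x ∈ E → ht x = n + 1 → π x' = x ∧ ∀ q ∈ Low A E ht x, A' (s q) x' := by
    intro x
    by_cases hx : x ∈ E
    swap
    · exact ⟨s x, fun h => absurd h hx⟩
    by_cases hxn : ht x = n + 1
    swap
    · exact ⟨s x, fun _ h => absurd h hxn⟩
    have hpos : 0 < ht x := by omega
    obtain ⟨q₀, hq₀⟩ := hm.m1 x hx hpos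
    have hmem : ∀ q ∈ Low A E ht x, q ∈ {x | x ∈ E ∧ ht x ≤ n} := by
      intro q hq
      have := hq.2.2
      exact ⟨hq.1, by omega⟩
    have hq₀s : π (s q₀) = q₀ := hs.sec q₀ (hmem q₀ hq₀)
    obtain ⟨x', hx', hax⟩ := hc.lift (s q₀) x (by rw [hq₀s]; exact hc.symm hq₀.2.1)
    refine ⟨x', fun _ _ => ⟨hx', ?_⟩⟩
    intro q hq
    have hchain := hm.m2 x hx hpos q₀ hq₀ q hq
    induction hchain with
    | refl => exact hax
    | @tail b c hab hbc ih =>
      obtain ⟨hb, hc', ht'⟩ := hbc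
      have hb' := ih hb
      have hbs : π (s b) = b := hs.sec b (hmem b hb)
      have hcs : π (s c) = c := hs.sec c (hmem c hc')
      have hbc' : A' (s b) (s c) :=
        hs.adj b (hmem b hb) c (hmem c hc') (hc.adj (hc.rot ht'))
      have htri : T (π (s b)) (π (s c)) (π x') := by
        rw [hbs, hcs, hx']
        exact hc.rot ht'
      exact hc.tri _ _ _ htri hbc' hb'
  choose f hf using key
  refine ⟨fun x => if ht x ≤ n then s x else f x, ⟨?_, ?_⟩, ?_⟩
  · intro x hx
    by_cases h : ht x ≤ n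
    · simp only [h, if_true]; exact hs.sec x ⟨hx.1, h⟩
    · simp only [h, if_false]
      have : ht x = n + 1 := by have := hx.2; omega
      exact (hf x hx.1 this).1
  · intro x hx y hy hxy
    by_cases h : ht x ≤ n
    · by_cases h' : ht y ≤ n
      · simp only [h, h', if_true]; exact hs.adj x ⟨hx.1, h⟩ y ⟨hy.1, h'⟩ hxy
      · simp only [h, h', if_true, if_false]
        have hyn : ht y = n + 1 := by have := hy.2; omega
        exact (hf y hy.1 hyn).2 x ⟨hx.1, hc.symm hxy, by omega⟩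
    · have hxn : ht x = n + 1 := by have := hx.2; omega
      by_cases h' : ht y ≤ n
      · simp only [h, h', if_true, if_false]
        exact hc.symm' ((hf x hx.1 hxn).2 y ⟨hy.1, hxy, by omega⟩)
      · simp only [h, h', if_false]
        have hyn : ht y = n + 1 := by have := hy.2; omega
        obtain ⟨q, hq, ht'⟩ := hm.m3 x hx.1 y hy.1 hxy (by omega) (by omega)
        have h1 : A' (s q) (f x) := (hf x hx.1 hxn).2 q hq
        have hyq : A y q := by
          have := hc.rot ht'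
          exact hc.adj this
        have hqy : q ∈ Low A E ht y := ⟨hq.1, hyq, by have := hq.2.2; omega⟩
        have h2 : A' (s q) (f y) := (hf y hy.1 hyn).2 q hqy
        have hqs : π (s q) = q := hs.sec q ⟨hq.1, by have := hq.2.2; omega⟩
        have htri : T (π (s q)) (π (f x)) (π (f y)) := by
          rw [hqs, (hf x hx.1 hxn).1, (hf y hy.1 hyn).1]
          exact hc.rot (hc.rot ht')
        exact hc.tri _ _ _ htri h1 h2
  · intro x h
    simp only [h, if_true]

/-- **The Morse argument**, which keeps the sheet on the bottom. -/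
theorem extend_keep (hc : Cover A A' T π) {E : Set P} {ht : P → ℕ} (hm : MorseHyp A T E ht)
    (hb : ∃ N, ∀ x ∈ E, ht x ≤ N) {s : P → P'} (hs : Sheet A A' π {x | x ∈ E ∧ ht x = 0} s) :
    ∃ s' : P → P', Sheet A A' π E s' ∧ ∀ x, ht x = 0 → s' x = s x := by
  have key : ∀ n : ℕ, ∃ s' : P → P', Sheet A A' π {x | x ∈ E ∧ ht x ≤ n} s' ∧
      ∀ x, ht x = 0 → s' x = s x := by
    intro n
    induction n with
    | zero =>
      refine ⟨s, hs.mono ?_, fun _ _ => rfl⟩
      rintro x ⟨hx, hx'⟩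
      exact ⟨hx, by omega⟩
    | succ n ih =>
      obtain ⟨s', hs', h0⟩ := ih
      obtain ⟨s'', hs'', h1⟩ := step_keep hc hm n s' hs'
      exact ⟨s'', hs'', fun x hx => by rw [h1 x (by omega), h0 x hx]⟩
  obtain ⟨N, hN⟩ := hb
  obtain ⟨s', hs', h0⟩ := key N
  exact ⟨s', hs'.mono fun x hx => ⟨hx, hN x hx⟩, h0⟩

end Keep

variable {Γ G X : Type*} [Group Γ] [Group G] [MulAction G X]

/-- The points `g K` with `g • x₀ = x₀`. -/
def Bot (K : Subgroup G) (x₀ : X) : Set (G ⧸ K) := {x | ∃ g : G, g • x₀ = x₀ ∧ x = (g : G ⧸ K)}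

/-- The inputs of the final step. -/
structure Inputs (π : Γ →* G) (H : Subgroup Γ) (n : Γ) (x₀ : X) (K N : Subgroup G) (α : K →* Γ)
    (β : N →* Γ) : Prop where
  cov : CovData π H n x₀
  /-- `Γ` is generated by `H` and `n` -/
  gen : Subgroup.closure ((H : Set Γ) ∪ {n}) = ⊤
  /-- `G` is generated by `K` and `N` -/
  genG : Subgroup.closure ((K : Set G) ∪ N) = ⊤
  πα : ∀ x (h : x ∈ K), π (α ⟨x, h⟩) = x
  πβ : ∀ x (h : x ∈ N), π (β ⟨x, h⟩) = x
  αH : ∀ x (h : x ∈ K), x • x₀ = x₀ → α ⟨x, h⟩ ∈ H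
  βH : ∀ x (h : x ∈ N), x • x₀ = x₀ → β ⟨x, h⟩ ∈ H
  /-- the edge `(H, n H)` lies in the sheet of `K` -/
  edgeK : ∃ k, ∃ h : k ∈ K, (α ⟨k, h⟩)⁻¹ * n ∈ H
  /-- the stabiliser of `x₀` in `K` is transitive on the lines joining `K` to a point of `Bot` -/
  trans : ∀ g : G, g • x₀ = x₀ → Glue.Adj K N ((1 : G) : G ⧸ K) (g : G ⧸ K) →
    ∃ c ∈ K, c • x₀ = x₀ ∧ ∃ m ∈ N, m • x₀ = x₀ ∧ (g : G ⧸ K) = ((c * m : G) : G ⧸ K)

namespace Inputs

variable {π : Γ →* G} {H : Subgroup Γ} {n : Γ} {x₀ : X} {K N : Subgroup G} {α : K →* Γ} {β : N →* Γ}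

/-- elements of `H` with the same image are equal -/
theorem eqH (I : Inputs π H n x₀ K N α β) {a b : Γ} (ha : a ∈ H) (hb : b ∈ H) (h : π a = π b) :
    a = b := by
  have h1 : π (a⁻¹ * b) = 1 := by rw [map_mul, map_inv, h, inv_mul_cancel]
  exact inv_mul_eq_one.1 (I.cov.inj _ (H.mul_mem (H.inv_mem ha) hb) h1)

/-- **The sheet on the bottom.** -/
theorem exists_bottom (I : Inputs π H n x₀ K N α β) :
    ∃ s : G ⧸ K → (G × Γ) ⧸ gr K α,
      Sheet (Glue.Adj K N) (Glue.Adj' K N α β) (proj K α) (Bot K x₀) s ∧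
      ∀ (g : G) (h : Γ), g • x₀ = x₀ → h ∈ H → π h = g →
        s (g : G ⧸ K) = (((g, h) : G × Γ) : (G × Γ) ⧸ gr K α) := by
  classical
  have hex : ∀ x : G ⧸ K, ∃ p : G × Γ, x ∈ Bot K x₀ →
      p.1 • x₀ = x₀ ∧ p.2 ∈ H ∧ π p.2 = p.1 ∧ x = (p.1 : G ⧸ K) := by
    intro x
    by_cases hx : x ∈ Bot K x₀
    · obtain ⟨g, hg, rfl⟩ := hx
      obtain ⟨h, hh, hh'⟩ := I.cov.onto g hg
      exact ⟨(g, h), fun _ => ⟨hg, hh, hh', rfl⟩⟩
    · exact ⟨1, fun h => absurd h hx⟩
  choose f hf using hex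
  have hval : ∀ (g : G) (h : Γ), g • x₀ = x₀ → h ∈ H → π h = g →
      ((f (g : G ⧸ K) : G × Γ) : (G × Γ) ⧸ gr K α) = (((g, h) : G × Γ) : (G × Γ) ⧸ gr K α) := by
    intro g h hg hh hπ
    obtain ⟨h1, h2, h3, h4⟩ := hf (g : G ⧸ K) ⟨g, hg, rfl⟩
    rw [mk_eq_mk, mem_gr]
    rw [eq_comm, QuotientGroup.eq] at h4
    refine ⟨h4, ?_⟩
    have hk : ((f (g : G ⧸ K)).1⁻¹ * g) • x₀ = x₀ := by
      rw [mul_smul, hg, inv_smul_eq_iff]; exact h1.symm
    refine I.eqH (I.αH _ h4 hk) (H.mul_mem (H.inv_mem h2) hh) ?_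
    rw [I.πα]
    show _ = π ((f (g : G ⧸ K)).2⁻¹ * h)
    rw [map_mul, map_inv, h3, hπ]
    rfl
  refine ⟨fun x => ((f x : G × Γ) : (G × Γ) ⧸ gr K α), ⟨?_, ?_⟩, hval⟩
  · intro x hx
    obtain ⟨-, -, -, h4⟩ := hf x hx
    rw [proj_mk]
    exact h4.symm
  · rintro x ⟨g, hg, rfl⟩ y ⟨g', hg', rfl⟩ hxy
    obtain ⟨h, hh, hπ⟩ := I.cov.onto g hg
    -- translate to the base point
    have hadj : Glue.Adj K N ((1 : G) : G ⧸ K) ((g⁻¹ * g' : G) : G ⧸ K) := by
      obtain ⟨a, m, hm, h1, h2⟩ := hxy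
      refine ⟨g⁻¹ * a, m, hm, ?_, ?_⟩
      · rw [QuotientGroup.eq] at h1 ⊢
        simpa using h1
      · rw [QuotientGroup.eq] at h2 ⊢
        have e : (g⁻¹ * g')⁻¹ * (g⁻¹ * a * m) = g'⁻¹ * (a * m) := by group
        rw [e]; exact h2
    have hfix : (g⁻¹ * g') • x₀ = x₀ := by rw [mul_smul, hg', inv_smul_eq_iff]; exact hg.symm
    obtain ⟨c, hc, hcx, m, hm, hmx, hcm⟩ := I.trans _ hfix hadj
    have hy : (g' : G ⧸ K) = ((g * c * m : G) : G ⧸ K) := by
      rw [QuotientGroup.eq] at hcm ⊢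
      have e : g'⁻¹ * (g * c * m) = (g⁻¹ * g')⁻¹ * (c * m) := by group
      rw [e]; exact hcm
    have hαc := I.αH c hc hcx
    have hβm := I.βH m hm hmx
    have e1 := hval g h hg hh hπ
    have e2 := hval (g * c * m) (h * α ⟨c, hc⟩ * β ⟨m, hm⟩)
      (by rw [mul_smul, hmx, mul_smul, hcx, hg]) (H.mul_mem (H.mul_mem hh hαc) hβm)
      (by rw [map_mul, map_mul, hπ, I.πα, I.πβ])
    show Glue.Adj' K N α β ((f (g : G ⧸ K) : G × Γ) : (G × Γ) ⧸ gr K α)
      ((f (g' : G ⧸ K) : G × Γ) : (G × Γ) ⧸ gr K α)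
    rw [hy, e1, e2]
    refine ⟨(g, h) * (c, α ⟨c, hc⟩), (m, β ⟨m, hm⟩), mk_mem_gr hm, ?_, rfl⟩
    exact (mk_mul_gr _ _ (mk_mem_gr hc)).symm

/-- A global sheet through `(1, 1)` is the graph of the homomorphism. -/
theorem sheet_eq {T : G ⧸ K → G ⧸ K → G ⧸ K → Prop}
    (hc : Cover (Glue.Adj K N) (Glue.Adj' K N α β) T (proj K α))
    (hgen : Subgroup.closure ((K : Set G) ∪ N) = ⊤) {s : G ⧸ K → (G × Γ) ⧸ gr K α}
    (hs : Sheet (Glue.Adj K N) (Glue.Adj' K N α β) (proj K α) Set.univ s)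
    (h1 : s ((1 : G) : G ⧸ K) = (((1, 1) : G × Γ) : (G × Γ) ⧸ gr K α))
    {φ : G →* Γ} (hα : ∀ x (h : x ∈ K), φ x = α ⟨x, h⟩) (hβ : ∀ x (h : x ∈ N), φ x = β ⟨x, h⟩)
    (g : G) : s (g : G ⧸ K) = (((g, φ g) : G × Γ) : (G × Γ) ⧸ gr K α) := by
  have hN : ∀ (g m : G), m ∈ N → s (g : G ⧸ K) = (((g, φ g) : G × Γ) : (G × Γ) ⧸ gr K α) →
      s ((g * m : G) : G ⧸ K) = (((g * m, φ (g * m)) : G × Γ) : (G × Γ) ⧸ gr K α) := by
    intro g m hm hg
    have h2 : Glue.Adj K N (g : G ⧸ K) ((g * m : G) : G ⧸ K) := ⟨g, m, hm, rfl, rfl⟩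
    have h3 := hs.adj _ (Set.mem_univ _) _ (Set.mem_univ _) h2
    rw [hg] at h3
    refine hc.uniq _ _ _ h3 ⟨(g, φ g), (m, β ⟨m, hm⟩), mk_mem_gr hm, rfl, ?_⟩ ?_
    · rw [map_mul, hβ m hm]
      rfl
    · rw [hs.sec _ (Set.mem_univ _), proj_mk]
  have hK : ∀ (g k : G), k ∈ K → s (g : G ⧸ K) = (((g, φ g) : G × Γ) : (G × Γ) ⧸ gr K α) →
      s ((g * k : G) : G ⧸ K) = (((g * k, φ (g * k)) : G × Γ) : (G × Γ) ⧸ gr K α) := by
    intro g k hk hg
    have h2 : ((g * k : G) : G ⧸ K) = (g : G ⧸ K) := by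
      rw [eq_comm, QuotientGroup.eq, inv_mul_cancel_left]; exact hk
    rw [h2, hg, map_mul, hα k hk]
    exact (mk_mul_gr (g, φ g) (k, α ⟨k, hk⟩) (mk_mem_gr hk)).symm
  have hg : g ∈ Subgroup.closure ((K : Set G) ∪ N) := by rw [hgen]; trivial
  induction hg using Subgroup.closure_induction_right with
  | one => rw [h1, map_one]
  | mul_right x _ y hy ih =>
    rcases hy with hy | hy
    · exact hK x y hy ih
    · exact hN x y hy ih
  | mul_inv_cancel x _ y hy ih =>
    rcases hy with hy | hy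
    · exact hK x y⁻¹ (K.inv_mem hy) ih
    · exact hN x y⁻¹ (N.inv_mem hy) ih

/-- **The homomorphism `G →* Γ`, one Morse level.** -/
theorem exists_hom (I : Inputs π H n x₀ K N α β) {T : G ⧸ K → G ⧸ K → G ⧸ K → Prop}
    (hc : Cover (Glue.Adj K N) (Glue.Adj' K N α β) T (proj K α)) {ht : G ⧸ K → ℕ}
    (hm : MorseHyp (Glue.Adj K N) T Set.univ ht) (hb : ∃ b, ∀ x, ht x ≤ b)
    (h0 : ∀ x, ht x = 0 ↔ x ∈ Bot K x₀) :
    ∃ φ : G →* Γ, (∀ x (h : x ∈ K), φ x = α ⟨x, h⟩) ∧ (∀ x (h : x ∈ N), φ x = β ⟨x, h⟩) ∧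
      (∀ g, π (φ g) = g) ∧ (∀ g, g • x₀ = x₀ → φ g ∈ H) ∧ Function.Surjective φ := by
  obtain ⟨s₀, hs₀, hv⟩ := I.exists_bottom
  obtain ⟨b, hb⟩ := hb
  obtain ⟨s, hs, hkeep⟩ := extend_keep hc hm ⟨b, fun x _ => hb x⟩
    (hs₀.mono (D' := {x | x ∈ Set.univ ∧ ht x = 0}) fun x hx => (h0 x).1 hx.2)
  obtain ⟨φ, hα, hβ⟩ := exists_hom_of_cover hc I.genG hs
  have hπ : ∀ g, π (φ g) = g := by
    intro g
    have hg : g ∈ Subgroup.closure ((K : Set G) ∪ N) := by rw [I.genG]; trivial
    induction hg using Subgroup.closure_induction with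
    | mem x hx =>
      rcases hx with hx | hx
      · rw [hα x hx, I.πα]
      · rw [hβ x hx, I.πβ]
    | one => rw [map_one, map_one]
    | mul x y _ _ hx hy => rw [map_mul, map_mul, hx, hy]
    | inv x _ hx => rw [map_inv, map_inv, hx]
  have hbot : ∀ (g : G) (h : Γ), g • x₀ = x₀ → h ∈ H → π h = g →
      s (g : G ⧸ K) = (((g, h) : G × Γ) : (G × Γ) ⧸ gr K α) := by
    intro g h hg hh hπh
    rw [hkeep _ ((h0 _).2 ⟨g, hg, rfl⟩), hv g h hg hh hπh]
  have hone := hbot 1 1 (one_smul _ _) (one_mem _) (map_one π)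
  have hmemH : ∀ g, g • x₀ = x₀ → φ g ∈ H := by
    intro g hg
    obtain ⟨h, hh, hπh⟩ := I.cov.onto g hg
    have h1 := sheet_eq hc I.genG hs hone hα hβ g
    rw [hbot g h hg hh hπh, mk_eq_mk, mem_gr] at h1
    obtain ⟨h2, h3⟩ := h1
    have h4 : (⟨((g, h)⁻¹ * (g, φ g) : G × Γ).1, h2⟩ : K) = 1 := Subtype.ext (by simp)
    rw [h4, map_one] at h3
    have h5 : h⁻¹ * φ g = 1 := h3.symm
    rw [← inv_mul_eq_one.1 h5]
    exact hh
  refine ⟨φ, hα, hβ, hπ, hmemH, ?_⟩
  have hHle : H ≤ φ.range := by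
    intro h hh
    exact ⟨π h, I.eqH (hmemH _ (I.cov.fix h hh)) hh (hπ _)⟩
  have hn : n ∈ φ.range := by
    obtain ⟨k, hk, hkn⟩ := I.edgeK
    have h1 : α ⟨k, hk⟩ ∈ φ.range := ⟨k, hα k hk⟩
    have h2 := φ.range.mul_mem h1 (hHle hkn)
    rwa [mul_inv_cancel_left] at h2
  rw [← MonoidHom.range_eq_top, eq_top_iff, ← I.gen, Subgroup.closure_le]
  rintro x (hx | hx)
  · exact hHle hx
  · rw [Set.mem_singleton_iff.1 hx]; exact hn

/-- The presented group is finite and not larger than `G`. -/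
theorem card_le (I : Inputs π H n x₀ K N α β) {T : G ⧸ K → G ⧸ K → G ⧸ K → Prop}
    (hc : Cover (Glue.Adj K N) (Glue.Adj' K N α β) T (proj K α)) {ht : G ⧸ K → ℕ}
    (hm : MorseHyp (Glue.Adj K N) T Set.univ ht) (hb : ∃ b, ∀ x, ht x ≤ b)
    (h0 : ∀ x, ht x = 0 ↔ x ∈ Bot K x₀) [Finite G] :
    Finite Γ ∧ Nat.card Γ ≤ Nat.card G := by
  obtain ⟨φ, -, -, -, -, hs⟩ := I.exists_hom hc hm hb h0
  exact ⟨Finite.of_surjective φ hs, Nat.card_le_card_of_surjective φ hs⟩

/-- The same with `π` an isomorphism. -/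
theorem bijective (I : Inputs π H n x₀ K N α β) {T : G ⧸ K → G ⧸ K → G ⧸ K → Prop}
    (hc : Cover (Glue.Adj K N) (Glue.Adj' K N α β) T (proj K α)) {ht : G ⧸ K → ℕ}
    (hm : MorseHyp (Glue.Adj K N) T Set.univ ht) (hb : ∃ b, ∀ x, ht x ≤ b)
    (h0 : ∀ x, ht x = 0 ↔ x ∈ Bot K x₀) : Function.Bijective π := by
  obtain ⟨φ, -, -, hπ, -, hs⟩ := I.exists_hom hc hm hb h0
  refine ⟨?_, fun g => ⟨φ g, hπ g⟩⟩
  intro a b hab
  obtain ⟨a, rfl⟩ := hs a
  obtain ⟨b, rfl⟩ := hs b
  rw [hπ, hπ] at hab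
  rw [hab]

end Inputs

end Cfsg.Agent.MonsterP.Bottom
end

-- part: MonsterP/Assembly
section
set_option linter.all false
open scoped Cfsg.Agent.FastGrp

/-!
# From the sheet on `S` to the isomorphism (Monster, project R19, piece U4, steps 5 and 6)

`D : CovData π H n x₀`, a sheet over a connected set `S ∋ x₀` preserved by `K` and a connected set `T₀ ⊆ S`
preserved by `N` give homomorphisms `α : K →* Γ`, `β : N →* Γ` which agree on `K ∩ N` and satisfy the relations
of the plane; with the local hypotheses of the point graph of `G` (three levels) `π` is an isomorphism.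
-/

set_option autoImplicit false

namespace Cfsg.Agent.MonsterP

open Cfsg.Agent.MonsterU Cfsg.Agent.MonsterU.Morse Cfsg.Agent.MonsterU.GlueP

variable {Γ G X : Type*} [Group Γ] [Group G] [MulAction G X]
variable {π : Γ →* G} {H : Subgroup Γ} {n : Γ} {x₀ : X}

namespace CovData

variable (D : CovData π H n x₀)

include D

/-- A sheet can be moved such that it maps the base point to `H`. -/
theorem normalize {S : Set X} {s : X → Γ ⧸ H} (hs : Sheet (Adj π n x₀) (Adj' H n) D.pr S s) (h₀ : x₀ ∈ S) :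
    ∃ s' : X → Γ ⧸ H, Sheet (Adj π n x₀) (Adj' H n) D.pr S s' ∧ s' x₀ = ((1 : Γ) : Γ ⧸ H) := by
  obtain ⟨r, hr, hr'⟩ := D.fibre (u := s x₀) (v := ((1 : Γ) : Γ ⧸ H))
    (by rw [hs.sec x₀ h₀, D.pr_mk, map_one, one_smul])
  refine ⟨fun x => r • s x, ⟨fun x hx => ?_, fun x hx y hy hxy => (hs.adj x hx y hy hxy).smul r⟩, hr'⟩
  rw [D.pr_smul, hr, one_smul, hs.sec x hx]

/-- The lift of the edge `x₀, π n • x₀`. -/
theorem sheet_edge {S : Set X} {s : X → Γ ⧸ H} (hs : Sheet (Adj π n x₀) (Adj' H n) D.pr S s)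
    (h₀ : x₀ ∈ S) (h₁ : π n • x₀ ∈ S) (hs₀ : s x₀ = ((1 : Γ) : Γ ⧸ H)) :
    s (π n • x₀) = (n : Γ ⧸ H) := by
  have h1 : Adj π n x₀ x₀ (π n • x₀) := ⟨1, by rw [one_smul], by rw [one_smul]⟩
  have h2 := hs.adj _ h₀ _ h₁ h1
  rw [hs₀] at h2
  have h3 : Adj' H n ((1 : Γ) : Γ ⧸ H) (n : Γ ⧸ H) := ⟨1, rfl, by rw [one_mul]⟩
  exact D.uniq _ _ _ h2 h3 (by rw [hs.sec _ h₁, D.pr_mk])

end CovData

/-- The data of the two sets over which the sheet is used. -/
structure SetData (D : CovData π H n x₀) (K N : Subgroup G) (S T₀ : Set X) (s : X → Γ ⧸ H) : Prop where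
  sheet : Sheet (Adj π n x₀) (Adj' H n) D.pr S s
  base : x₀ ∈ T₀
  sub : T₀ ⊆ S
  connS : CovData.Conn π n x₀ S
  connT : CovData.Conn π n x₀ T₀
  K_smul : ∀ k ∈ K, ∀ x, k • x ∈ S ↔ x ∈ S
  N_smul : ∀ m ∈ N, ∀ x, m • x ∈ T₀ ↔ x ∈ T₀
  s₀ : s x₀ = ((1 : Γ) : Γ ⧸ H)

namespace SetData

variable {D : CovData π H n x₀} {K N : Subgroup G} {S T₀ : Set X} {s : X → Γ ⧸ H}
  (W : SetData D K N S T₀ s)

include W

theorem base' : x₀ ∈ S := W.sub W.base

theorem K_le : K ≤ D.compat S s := fun k hk =>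
  D.mem_compat_of_conn W.sheet W.connS ⟨x₀, W.base'⟩ (W.K_smul k hk)

theorem N_le : N ≤ D.compat T₀ s := fun m hm =>
  D.mem_compat_of_conn (W.sheet.mono W.sub) W.connT ⟨x₀, W.base⟩ (W.N_smul m hm)

/-- The homomorphism on `K`. -/
noncomputable def α : K →* Γ := (D.lam S s ⟨x₀, W.base'⟩).comp (Subgroup.inclusion W.K_le)

/-- The homomorphism on `N`. -/
noncomputable def β : N →* Γ := (D.lam T₀ s ⟨x₀, W.base⟩).comp (Subgroup.inclusion W.N_le)

theorem π_α (k : K) : π (W.α k) = k := D.π_lam ⟨x₀, W.base'⟩ ⟨k, W.K_le k.2⟩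

theorem π_β (m : N) : π (W.β m) = m := D.π_lam ⟨x₀, W.base⟩ ⟨m, W.N_le m.2⟩

theorem α_smul (k : K) {x : X} (hx : x ∈ S) : W.α k • s x = s ((k : G) • x) :=
  D.lam_smul ⟨x₀, W.base'⟩ ⟨k, W.K_le k.2⟩ hx

theorem β_smul (m : N) {x : X} (hx : x ∈ T₀) : W.β m • s x = s ((m : G) • x) :=
  D.lam_smul ⟨x₀, W.base⟩ ⟨m, W.N_le m.2⟩ hx

theorem kn (x : G) (h : x ∈ K) (h' : x ∈ N) : W.α ⟨x, h⟩ = W.β ⟨x, h'⟩ :=
  D.lam_eq_lam_same ⟨x₀, W.base'⟩ ⟨x₀, W.base⟩ (W.K_le h) (W.N_le h') W.base' W.base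

/-- The elements of `range α` and `range β`. -/
theorem α_eq {g : Γ} {x : X} (hx : x ∈ S) (hg : π g ∈ K) (h : g • s x = s (π g • x)) :
    W.α ⟨π g, hg⟩ = g :=
  (D.eq_lam (V₀ := S) ⟨x, hx⟩ ⟨π g, W.K_le hg⟩ hx rfl h).symm

theorem β_eq {g : Γ} {x : X} (hx : x ∈ T₀) (hg : π g ∈ N) (h : g • s x = s (π g • x)) :
    W.β ⟨π g, hg⟩ = g :=
  (D.eq_lam (V₀ := T₀) ⟨x, hx⟩ ⟨π g, W.N_le hg⟩ hx rfl h).symm

/-- Elements of `H` over `K`. -/
theorem α_of_H {g : Γ} (hg : g ∈ H) (hK : π g ∈ K) : W.α ⟨π g, hK⟩ = g := by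
  refine W.α_eq W.base' hK ?_
  rw [W.s₀, D.fix g hg, W.s₀]
  show ((g * 1 : Γ) : Γ ⧸ H) = _
  rw [mul_one, eq_comm, QuotientGroup.eq, inv_one, one_mul]
  exact hg

/-- Elements of `H` over `N`. -/
theorem β_of_H {g : Γ} (hg : g ∈ H) (hN : π g ∈ N) : W.β ⟨π g, hN⟩ = g := by
  refine W.β_eq W.base hN ?_
  rw [W.s₀, D.fix g hg, W.s₀]
  show ((g * 1 : Γ) : Γ ⧸ H) = _
  rw [mul_one, eq_comm, QuotientGroup.eq, inv_one, one_mul]
  exact hg

/-- The edge element. -/
theorem α_n (hn : π n ∈ K) : W.α ⟨π n, hn⟩ = n := by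
  refine W.α_eq W.base' hn ?_
  rw [W.s₀, D.sheet_edge W.sheet W.base' ((W.K_smul _ hn _).2 W.base') W.s₀]
  show ((n * 1 : Γ) : Γ ⧸ H) = _
  rw [mul_one]

/-- The relations of the plane hold for `α` and `β` if they hold in `G` and the points met on the way from `x₀`
are in `T₀`. -/
theorem plane {τ ξ : G} (hτ : τ ∈ N) (hξ : ξ ∈ K)
    (h : ∀ a b, Pm τ a → Pm τ b → ∃ c ∈ K, ∃ m ∈ N, ∃ c' ∈ K, a * ξ * b = c * m * c' ∧
      ξ • b • x₀ ∈ T₀ ∧ c' • x₀ ∈ T₀) : PlaneRel K N W.α W.β τ ξ where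
  hτ := hτ
  hξ := hξ
  rel := by
    intro a ha b hb ha' hb'
    obtain ⟨c, hc, m, hm, c', hc', h1, h2, h3⟩ := h a b ha' hb'
    refine ⟨c, hc, m, hm, c', hc', h1, ?_⟩
    refine D.eq_of (u := s x₀) ?_ ?_
    · rw [map_mul, map_mul, map_mul, map_mul, W.π_α, W.π_α, W.π_α, W.π_β, W.π_β, W.π_β]
      exact h1
    · have e1 : b • x₀ ∈ T₀ := (W.N_smul b hb _).2 W.base
      have e2 : m • c' • x₀ ∈ T₀ := (W.N_smul m hm _).2 h3
      rw [mul_smul, mul_smul, mul_smul, mul_smul, W.β_smul ⟨b, hb⟩ W.base, W.α_smul ⟨ξ, hξ⟩ (W.sub e1),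
        W.β_smul ⟨a, ha⟩ h2, W.α_smul ⟨c', hc'⟩ W.base', W.β_smul ⟨m, hm⟩ h3,
        W.α_smul ⟨c, hc⟩ (W.sub e2)]
      congr 1
      show a • ξ • b • x₀ = c • m • c' • x₀
      rw [← mul_smul, ← mul_smul, h1, mul_smul, mul_smul]

/-- Generation: the images of `α` and `β` generate `Γ`. -/
theorem gen (hn : π n ∈ K)
    (hstab : ∀ g : G, g • x₀ = x₀ →
      g ∈ Subgroup.closure {g | g • x₀ = x₀ ∧ (g ∈ K ∨ g ∈ N)})
    (hΓ : Subgroup.closure ((H : Set Γ) ∪ {n}) = ⊤) :
    Subgroup.closure ((W.α.range : Set Γ) ∪ W.β.range) = ⊤ := by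
  obtain ⟨L, hL⟩ : ∃ L, L = Subgroup.closure ((W.α.range : Set Γ) ∪ W.β.range) := ⟨_, rfl⟩
  rw [← hL]
  have hα : ∀ k : K, W.α k ∈ L := fun k => by rw [hL]; exact Subgroup.subset_closure (Or.inl ⟨k, rfl⟩)
  have hβ : ∀ m : N, W.β m ∈ L := fun m => by rw [hL]; exact Subgroup.subset_closure (Or.inr ⟨m, rfl⟩)
  have hstab' : ∀ g : G, g ∈ Subgroup.closure {g | g • x₀ = x₀ ∧ (g ∈ K ∨ g ∈ N)} →
      ∃ h ∈ H, π h = g ∧ h ∈ L := by
    intro g hg
    induction hg using Subgroup.closure_induction with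
    | mem g hg =>
      obtain ⟨hg0, hg'⟩ := hg
      obtain ⟨h, hh, rfl⟩ := D.onto g hg0
      refine ⟨h, hh, rfl, ?_⟩
      rcases hg' with hK | hN
      · rw [← W.α_of_H hh hK]; exact hα _
      · rw [← W.β_of_H hh hN]; exact hβ _
    | one => exact ⟨1, H.one_mem, map_one _, L.one_mem⟩
    | mul a b _ _ iha ihb =>
      obtain ⟨h, hh, rfl, hl⟩ := iha
      obtain ⟨h', hh', rfl, hl'⟩ := ihb
      exact ⟨h * h', H.mul_mem hh hh', map_mul _ _ _, L.mul_mem hl hl'⟩
    | inv a _ iha =>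
      obtain ⟨h, hh, rfl, hl⟩ := iha
      exact ⟨h⁻¹, H.inv_mem hh, map_inv _ _, L.inv_mem hl⟩
  rw [eq_top_iff, ← hΓ, Subgroup.closure_le]
  rintro x (hx | hx)
  · obtain ⟨h, hh, hπ, hl⟩ := hstab' (π x) (hstab (π x) (D.fix x hx))
    have e1 : h⁻¹ * x = 1 := D.inj _ (H.mul_mem (H.inv_mem hh) hx)
      (by rw [map_mul, map_inv, hπ, inv_mul_cancel])
    rw [← inv_mul_eq_one.1 e1]
    exact hl
  · rw [Set.mem_singleton_iff.1 hx, ← W.α_n hn]
    exact hα _

/-- **The isomorphism.** -/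
theorem injective (hn : π n ∈ K)
    (hstab : ∀ g : G, g • x₀ = x₀ →
      g ∈ Subgroup.closure {g | g • x₀ = x₀ ∧ (g ∈ K ∨ g ∈ N)})
    (hΓ : Subgroup.closure ((H : Set Γ) ∪ {n}) = ⊤)
    (unique : ∀ m ∈ K, ∀ n ∈ N, ∀ n' ∈ N, n' ∉ K → n⁻¹ * m * n' ∈ K → m ∈ N)
    {τ ξ : G} (hτ : τ ∈ N) (hξ : ξ ∈ K)
    (h : ∀ a b, Pm τ a → Pm τ b → ∃ c ∈ K, ∃ m ∈ N, ∃ c' ∈ K, a * ξ * b = c * m * c' ∧
      ξ • b • x₀ ∈ T₀ ∧ c' • x₀ ∈ T₀) (hL : Levels3 K N τ ξ) : Function.Injective π := by
  have hg := W.gen hn hstab hΓ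
  have hgen : Subgroup.closure ((K : Set G) ∪ N) = ⊤ := by
    rw [eq_top_iff]
    intro g _
    obtain ⟨x, rfl⟩ := D.surj g
    have hx : x ∈ Subgroup.closure ((W.α.range : Set Γ) ∪ W.β.range) := by rw [hg]; trivial
    induction hx using Subgroup.closure_induction with
    | mem x hx =>
      rcases hx with ⟨k, rfl⟩ | ⟨m, rfl⟩
      · rw [W.π_α]; exact Subgroup.subset_closure (Or.inl k.2)
      · rw [W.π_β]; exact Subgroup.subset_closure (Or.inr m.2)
    | one => rw [map_one]; exact one_mem _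
    | mul a b _ _ iha ihb => rw [map_mul]; exact mul_mem (iha trivial) (ihb trivial)
    | inv a _ iha => rw [map_inv]; exact inv_mem (iha trivial)
  obtain ⟨φ, hφK, hφN⟩ := exists_hom_of_levels W.kn unique (W.plane hτ hξ h) hgen hL
  have key : ∀ x : Γ, φ (π x) = x := by
    intro x
    have hx : x ∈ Subgroup.closure ((W.α.range : Set Γ) ∪ W.β.range) := by rw [hg]; trivial
    induction hx using Subgroup.closure_induction with
    | mem x hx =>
      rcases hx with ⟨k, rfl⟩ | ⟨m, rfl⟩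
      · rw [W.π_α, hφK _ k.2]
      · rw [W.π_β, hφN _ m.2]
    | one => rw [map_one, map_one]
    | mul a b _ _ iha ihb => rw [map_mul, map_mul, iha, ihb]
    | inv a _ iha => rw [map_inv, map_inv, iha]
  intro a b hab
  rw [← key a, ← key b, hab]

end SetData

end Cfsg.Agent.MonsterP
end

-- part: MonsterP/OneLevel
section
set_option linter.all false
open scoped Cfsg.Agent.FastGrp

/-!
# `π` is an isomorphism: one Morse level is enough (helper227)

`SetData` of `Assembly.lean` (the homomorphisms `α : K →* Γ`, `β : N →* Γ` from the sheet on `S`), the local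
hypotheses `LocHyp` of the FIRST level (axes), and the bottom sheet of `Bottom.lean`.
-/

set_option autoImplicit false

namespace Cfsg.Agent.MonsterP.OneLevel

open Cfsg.Agent.MonsterU Cfsg.Agent.MonsterU.Morse Cfsg.Agent.MonsterU.GlueP Cfsg.Agent.MonsterU.Local
open Cfsg.Agent.MonsterP.Bottom (Bot)

variable {Γ G X : Type*} [Group Γ] [Group G] [MulAction G X]

/-- Transitivity on the lines joining `K` to a point of `Bot`: the points of the standard line through
`v = k x₀` are of height `0` only if `v` is in the `D`-orbit of `x₀`. -/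
theorem trans_of {K N Dg : Subgroup G} {τ ξ : G} (hG : Geom K N Dg τ ξ) {x₀ : X} (hτ : τ • x₀ = x₀)
    (hT : ∀ k ∈ K, (∃ k' ∈ K, τ • k • x₀ = k' • x₀ ∨ τ⁻¹ • k • x₀ = k' • x₀) →
      ∃ d ∈ Dg, k • x₀ = d • x₀)
    (g : G) (hg : g • x₀ = x₀) (hadj : Glue.Adj K N ((1 : G) : G ⧸ K) (g : G ⧸ K)) :
    ∃ c ∈ K, c • x₀ = x₀ ∧ ∃ m ∈ N, m • x₀ = x₀ ∧ (g : G ⧸ K) = ((c * m : G) : G ⧸ K) := by
  have hτ' : τ⁻¹ • x₀ = x₀ := by rw [inv_smul_eq_iff]; exact hτ.symm
  rcases hG.adj_cases hadj with h1 | ⟨k, n, hn, h1, h2⟩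
  · exact ⟨1, K.one_mem, one_smul _ _, 1, N.one_mem, one_smul _ _, by rw [← h1, mul_one]⟩
  · have hk : k ∈ K := by
      rw [QuotientGroup.eq] at h1
      simpa using h1
    have hnx : n • x₀ = x₀ := by
      rcases hn with rfl | rfl
      · exact hτ
      · exact hτ'
    -- `k n K = g K` contains `x₀`
    rw [QuotientGroup.eq] at h2
    have h3 : n⁻¹ • k⁻¹ • x₀ = ((g⁻¹ * (k * n))⁻¹) • x₀ := by
      rw [mul_inv_rev, inv_inv, mul_smul, hg, mul_inv_rev, mul_smul]
    have h4 : ∃ k' ∈ K, τ • k⁻¹ • x₀ = k' • x₀ ∨ τ⁻¹ • k⁻¹ • x₀ = k' • x₀ := by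
      refine ⟨_, K.inv_mem h2, ?_⟩
      rcases hn with rfl | rfl
      · exact Or.inr h3
      · rw [inv_inv] at h3; exact Or.inl h3
    obtain ⟨d, hd, hkd⟩ := hT _ (K.inv_mem hk) h4
    have hc : (k * d) • x₀ = x₀ := by rw [mul_smul, ← hkd, smul_inv_smul]
    have hcK : k * d ∈ K := K.mul_mem hk (hG.D_K hd)
    have hgk : (g : G ⧸ K) = ((k * d * (d⁻¹ * n) : G) : G ⧸ K) := by
      rw [QuotientGroup.eq]
      have : g⁻¹ * (k * d * (d⁻¹ * n)) = g⁻¹ * (k * n) := by group
      rw [this]; exact h2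
    rw [hgk]
    rcases hG.mul_D hn (Dg.inv_mem hd) with h5 | ⟨d', hd', h5⟩ | ⟨d', hd', h5⟩
    · refine ⟨k * d, hcK, hc, 1, N.one_mem, one_smul _ _, ?_⟩
      rw [mul_one]
      exact mk_mul_K (hG.D_K h5)
    · refine ⟨k * d, hcK, hc, τ, hG.τ_N, hτ, ?_⟩
      rw [h5, ← mul_assoc]
      exact mk_mul_K (hG.D_K hd')
    · refine ⟨k * d, hcK, hc, τ⁻¹, N.inv_mem hG.τ_N, hτ', ?_⟩
      rw [h5, ← mul_assoc]
      exact mk_mul_K (hG.D_K hd')

variable {π : Γ →* G} {H : Subgroup Γ} {n : Γ} {x₀ : X}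

/-- `SetData` gives the inputs of `Bottom.lean`. -/
theorem inputs {D : CovData π H n x₀} {K N : Subgroup G} {S T₀ : Set X} {s : X → Γ ⧸ H}
    (W : SetData D K N S T₀ s) (hn : π n ∈ K) (hΓ : Subgroup.closure ((H : Set Γ) ∪ {n}) = ⊤)
    (hgen : Subgroup.closure ((K : Set G) ∪ N) = ⊤)
    (trans : ∀ g : G, g • x₀ = x₀ → Glue.Adj K N ((1 : G) : G ⧸ K) (g : G ⧸ K) →
      ∃ c ∈ K, c • x₀ = x₀ ∧ ∃ m ∈ N, m • x₀ = x₀ ∧ (g : G ⧸ K) = ((c * m : G) : G ⧸ K)) :
    Bottom.Inputs π H n x₀ K N W.α W.β where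
  cov := D
  gen := hΓ
  genG := hgen
  πα x h := W.π_α ⟨x, h⟩
  πβ x h := W.π_β ⟨x, h⟩
  αH := by
    intro x h hx
    obtain ⟨a, ha, rfl⟩ := D.onto x hx
    rw [W.α_of_H ha h]; exact ha
  βH := by
    intro x h hx
    obtain ⟨a, ha, rfl⟩ := D.onto x hx
    rw [W.β_of_H ha h]; exact ha
  edgeK := ⟨π n, hn, by rw [W.α_n hn, inv_mul_cancel]; exact H.one_mem⟩
  trans := trans

/-- The height is `0` exactly at the points of `Bot`. -/
theorem ht_zero_iff {K : Subgroup G} {P : X → Prop} {h : X → ℕ} (hi : Inv K P h)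
    (hz : ∀ g : G, h (g • x₀) = 0 ↔ ∃ k ∈ K, g • x₀ = k • x₀) (x : G ⧸ K) :
    ht K h x₀ x = 0 ↔ x ∈ Bot K x₀ := by
  obtain ⟨g, rfl⟩ := QuotientGroup.mk_surjective x
  rw [ht_mk hi, hz]
  constructor
  · rintro ⟨k, hk, h1⟩
    exact ⟨g * k, by rw [mul_smul, ← h1, smul_inv_smul], (mk_mul_K hk).symm⟩
  · rintro ⟨g', hg', h1⟩
    rw [QuotientGroup.eq] at h1
    exact ⟨g⁻¹ * g', h1, by rw [mul_smul, hg']⟩

/-- **The isomorphism from one Morse level.** -/
theorem bijective {D : CovData π H n x₀} {K N : Subgroup G} {S T₀ : Set X} {s : X → Γ ⧸ H}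
    (W : SetData D K N S T₀ s) (hn : π n ∈ K) (hΓ : Subgroup.closure ((H : Set Γ) ∪ {n}) = ⊤)
    (hgen : Subgroup.closure ((K : Set G) ∪ N) = ⊤)
    (unique : ∀ m ∈ K, ∀ n ∈ N, ∀ n' ∈ N, n' ∉ K → n⁻¹ * m * n' ∈ K → m ∈ N)
    {Dg : Subgroup G} {τ ξ : G} (hG : Geom K N Dg τ ξ) (hτ : τ • x₀ = x₀)
    (h4 : ∀ a b, Pm τ a → Pm τ b → ∃ c ∈ K, ∃ m ∈ N, ∃ c' ∈ K, a * ξ * b = c * m * c' ∧
      ξ • b • x₀ ∈ T₀ ∧ c' • x₀ ∈ T₀)
    (hT : ∀ k ∈ K, (∃ k' ∈ K, τ • k • x₀ = k' • x₀ ∨ τ⁻¹ • k • x₀ = k' • x₀) →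
      ∃ d ∈ Dg, k • x₀ = d • x₀)
    {P : X → Prop} {h : X → ℕ} (hi : Inv K P h) (hL : LocHyp K Dg τ ξ P h)
    (hP : ∀ g : G, P (g • x₀)) (hb : ∃ b, ∀ g : G, h (g • x₀) ≤ b)
    (hz : ∀ g : G, h (g • x₀) = 0 ↔ ∃ k ∈ K, g • x₀ = k • x₀) : Function.Bijective π := by
  have hI := inputs W hn hΓ hgen (trans_of hG hτ hT)
  have hc := coverP W.kn unique (W.plane hG.τ_N hG.ξ_K h4)
  have hm := morse hG Sheet3.triHyp hi hL x₀
  have huniv : Pts K P x₀ = Set.univ := by
    rw [Set.eq_univ_iff_forall]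
    intro x
    obtain ⟨g, rfl⟩ := QuotientGroup.mk_surjective x
    rw [mem_Pts hi]
    exact hP _
  rw [huniv] at hm
  refine hI.bijective hc hm ?_ (ht_zero_iff hi hz)
  obtain ⟨b, hb⟩ := hb
  refine ⟨b, fun x => ?_⟩
  obtain ⟨g, rfl⟩ := QuotientGroup.mk_surjective x
  rw [ht_mk hi]
  exact hb _

end Cfsg.Agent.MonsterP.OneLevel
end

-- part: MonsterP/PlaneIn
section
set_option linter.all false
open scoped Cfsg.Agent.FastGrp

/-!
# The isomorphism from the plane (helper227)

`PlaneGeo.Plane z a b τ ξ y` gives all the geometric inputs of `OneLevel.bijective` for `K = C(z)`, `N = N(⟨z, a⟩)`,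
if `τ`, `ξ`, `y` fix the base point.
-/

set_option autoImplicit false

namespace Cfsg.Agent.MonsterP.PlaneIn

open Cfsg.Agent.MonsterU Cfsg.Agent.MonsterU.Morse Cfsg.Agent.MonsterU.GlueP Cfsg.Agent.MonsterU.Local
open Cfsg.Agent.MonsterU.PlaneGeo

variable {Γ G X : Type*} [Group Γ] [Group G] [MulAction G X]

section plane

variable {z a b τ ξ y : G} (h : Plane z a b τ ξ y)

include h

/-- The geometry for the local hypotheses. -/
theorem geom (hξ : ξ * ξ = 1) : Geom (K z) (N z a) (K z ⊓ N z a) τ ξ where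
  D_K := inf_le_left
  D_N := inf_le_right
  τ_N := h.τ_mem_N
  ξ_K := h.ξ_mem_K
  ξ_sq := hξ
  cases := by
    intro n hn
    obtain ⟨t, ht, d, hd, rfl⟩ := h.N_eq hn
    simp only [Set.mem_insert_iff, Set.mem_singleton_iff] at ht
    rcases ht with rfl | rfl | rfl
    · left
      rw [one_mul]
      exact hd
    · exact Or.inr (Or.inl ⟨d, hd, rfl⟩)
    · refine Or.inr (Or.inr ⟨τ * τ * τ * d, ?_, by group⟩)
      refine mul_mem (Subgroup.mem_inf.2 ⟨?_, ?_⟩) hd
      · rw [mem_K]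
        calc τ * τ * τ * z * (τ * τ * τ)⁻¹ = τ * (τ * (τ * z * τ⁻¹) * τ⁻¹) * τ⁻¹ := by group
          _ = τ * (z * a) * τ⁻¹ := by rw [h.τ_z, h.τ_a]
          _ = (τ * z * τ⁻¹) * (τ * a * τ⁻¹) := by group
          _ = a * (z * a) := by rw [h.τ_z, h.τ_a]
          _ = z := by rw [← mul_assoc, ← h.za, mul_assoc, h.a_sq, mul_one]
      · exact mul_mem (mul_mem h.τ_mem_N h.τ_mem_N) h.τ_mem_N

/-- The four identities. -/
theorem h4 {x₀ : X} (hτ : τ • x₀ = x₀) (hξ : ξ • x₀ = x₀) (hy : y • x₀ = x₀) {T₀ : Set X} (h₀ : x₀ ∈ T₀) :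
    ∀ p q, Pm τ p → Pm τ q → ∃ c ∈ K z, ∃ m ∈ N z a, ∃ c' ∈ K z, p * ξ * q = c * m * c' ∧
      ξ • q • x₀ ∈ T₀ ∧ c' • x₀ ∈ T₀ := by
  intro p q hp hq
  have hτi : τ⁻¹ • x₀ = x₀ := by rw [inv_smul_eq_iff, hτ]
  have hpm : ∀ r, Pm τ r → r ∈ P z a b ∧ r • x₀ = x₀ := by
    rintro r (rfl | rfl)
    · exact ⟨h.τ_mem_P, hτ⟩
    · exact ⟨inv_mem h.τ_mem_P, hτi⟩
  obtain ⟨hpP, hpx⟩ := hpm p hp
  obtain ⟨hqP, hqx⟩ := hpm q hq
  obtain ⟨k, hk, n, hn, k', hk', e⟩ := h.P_eq (mul_mem (mul_mem hpP h.ξ_mem_P) hqP)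
  have hkx : k • x₀ = x₀ := by
    simp only [Set.mem_insert_iff, Set.mem_singleton_iff] at hk
    rcases hk with rfl | rfl | rfl
    · exact one_smul _ _
    · exact hξ
    · rw [mul_smul, hξ, hy]
  have hnx : n • x₀ = x₀ := by
    simp only [Set.mem_insert_iff, Set.mem_singleton_iff] at hn
    rcases hn with rfl | rfl | rfl
    · exact one_smul _ _
    · exact hτ
    · rw [mul_smul, hτ, hτ]
  have hk'x : k' • x₀ = x₀ := by
    have e1 : k' = n⁻¹ * (k⁻¹ * (p * ξ * q)) := by rw [e]; group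
    have hkx' : k⁻¹ • x₀ = x₀ := by rw [inv_smul_eq_iff, hkx]
    have hnx' : n⁻¹ • x₀ = x₀ := by rw [inv_smul_eq_iff, hnx]
    rw [e1, mul_smul, mul_smul, mul_smul, mul_smul, hqx, hξ, hpx, hkx', hnx']
  refine ⟨k, (h.word_mem_KP hk).1, n, h.word_mem_N hn, k', hk'.1, e, ?_, ?_⟩
  · rw [hqx, hξ]; exact h₀
  · rw [hk'x]; exact h₀

/-- **The isomorphism**, all geometric inputs from the plane. -/
theorem bijective {π : Γ →* G} {H : Subgroup Γ} {n : Γ} {x₀ : X} {D : CovData π H n x₀} {S T₀ : Set X}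
    {s : X → Γ ⧸ H} (W : SetData D (K z) (N z a) S T₀ s) (hn : π n ∈ K z)
    (hΓ : Subgroup.closure ((H : Set Γ) ∪ {n}) = ⊤) (hgen : Subgroup.closure ((K z : Set G) ∪ {τ}) = ⊤)
    (hξ2 : ξ * ξ = 1) (hτ : τ • x₀ = x₀) (hξ : ξ • x₀ = x₀) (hy : y • x₀ = x₀)
    (hT : ∀ k ∈ K z, (∃ k' ∈ K z, τ • k • x₀ = k' • x₀ ∨ τ⁻¹ • k • x₀ = k' • x₀) →
      ∃ d ∈ K z ⊓ N z a, k • x₀ = d • x₀)
    {Q : X → Prop} {ht : X → ℕ} (hi : Inv (K z) Q ht) (hL : LocHyp (K z) (K z ⊓ N z a) τ ξ Q ht)
    (hQ : ∀ g : G, Q (g • x₀)) (hb : ∃ b, ∀ g : G, ht (g • x₀) ≤ b)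
    (hz : ∀ g : G, ht (g • x₀) = 0 ↔ ∃ k ∈ K z, g • x₀ = k • x₀) : Function.Bijective π :=
  OneLevel.bijective W hn hΓ (h.gen hgen) h.geo.unique (geom h hξ2) hτ (h4 h hτ hξ hy W.base) hT hi hL hQ hb hz

end plane

end Cfsg.Agent.MonsterP.PlaneIn
end

-- part: MonsterP/H1Abs
section
set_option linter.all false
open scoped Cfsg.Agent.FastGrp

/-!
# The presented group is the group of the model

All inputs of the covering argument put together: `Γ` is generated by elements `t` with `PRel t`,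
`π : Γ → G` is onto the group of the model, the nodes 10, 5, 0 are mapped to `ι o`, `ι o'`, `ι (z o o')`.
-/

set_option autoImplicit false

namespace Cfsg.Agent.MonsterP.H1Abs

open Cfsg Cfsg.Agent.LeechMat.Core Cfsg.Agent.MonsterX.KSide Cfsg.Agent.MonsterX.KLift
  Cfsg.Agent.MonsterX.KModel Cfsg.Agent.MonsterX.Model
  Cfsg.Agent.Bimonster Cfsg.Agent.Bimonster.Tits Cfsg.Agent.MonsterP.NhatData
  Cfsg.Agent.MonsterP.SChar Cfsg.Agent.MonsterP.W2 Cfsg.Agent.MonsterP.CovP
open Cfsg.Agent.MonsterU.Local (Inv LocHyp)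
open Cfsg.Agent.MonsterU.PlaneGeo (Plane)

/-- The images of the nodes 10, 5, 0. -/
structure Base {G V P W : Type*} [Group G] [AddCommGroup V] [Module ℚ V] [DistribMulAction G V]
    [SMulCommClass G ℚ V] [Group P] [AddCommGroup W] [Module ℚ W] (M : KS G V P W) (o o' : P)
    (y : ℕ → G) : Prop where
  mem : o ∈ M.Sh
  mem' : o' ∈ M.Sh
  ad : Ad M o o'
  e10 : y 10 = M.ι o
  e5 : y 5 = M.ι o'
  e0 : y 0 = M.ι (M.zc * (o * o'))

variable {V P W : Type} [AddCommGroup V] [Module ℚ V] [Group P] [AddCommGroup W] [Module ℚ W]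

/-- The facts on the model. -/
structure Model (D : MData V) (M : KS ↥D.G V P W) (x₀ : P) (θ : leechLattice → P) (K₀ : Type)
    [Group K₀] : Prop where
  link : Link D M x₀
  lift : Lift M θ
  group : MGroup D K₀
  rep : MRep D
  lat : MLat D
  orbit : MOrbit D
  trans : MTrans D

/-- The geometry: the plane, the lines with two points of the lowest type, the height function of level 1. -/
structure Geo1 {G X : Type*} [Group G] [MulAction G X] (z a b τ ξ y : G) (Q : X → Prop) (ht : X → ℕ)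
    (x₀ : X) : Prop where
  plane : Plane z a b τ ξ y
  gen : Subgroup.closure ((MonsterU.PlaneGeo.K z : Set G) ∪ {τ}) = ⊤
  ξ_sq : ξ * ξ = 1
  τ_o : τ • x₀ = x₀
  ξ_o : ξ • x₀ = x₀
  y_o : y • x₀ = x₀
  hT : ∀ k ∈ MonsterU.PlaneGeo.K z,
    (∃ k' ∈ MonsterU.PlaneGeo.K z, τ • k • x₀ = k' • x₀ ∨ τ⁻¹ • k • x₀ = k' • x₀) →
      ∃ d ∈ MonsterU.PlaneGeo.K z ⊓ MonsterU.PlaneGeo.N z a, k • x₀ = d • x₀
  inv : Inv (MonsterU.PlaneGeo.K z) Q ht
  loc : LocHyp (MonsterU.PlaneGeo.K z) (MonsterU.PlaneGeo.K z ⊓ MonsterU.PlaneGeo.N z a) τ ξ Q ht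
  hQ : ∀ g : G, Q (g • x₀)
  bound : ∃ b, ∀ g : G, ht (g • x₀) ≤ b
  zero : ∀ g : G, ht (g • x₀) = 0 ↔ ∃ k ∈ MonsterU.PlaneGeo.K z, g • x₀ = k • x₀

variable {D : MData V} {M : KS ↥D.G V P W} {x₀ : P} {θ : leechLattice → P} {K₀ : Type} [Group K₀]
variable {Γ : Type*} [Group Γ] {t : ℕ → Γ} {π : Γ →* D.G} {o o' : P}

section

variable (hP : PRel t) (hM : Model D M x₀ θ K₀) (hB : Base M o o' fun i => π (t i))

include hP hM hB

theorem covData (hBF : BFacts) (hIB : IsB Spor.BabyMonster) (hsurj : Function.Surjective π) :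
    CovData π (HP t) (ev t nhW) (M.a o) :=
  CovP.covData hBF hP (MFactsInst.mfacts hP hM.link hM.lift hM.group hM.rep hM.lat hM.orbit hM.trans
    hIB hB.mem hB.mem' hB.ad hB.e10 hB.e5) hsurj

theorem smul_nh : π (ev t nhW) • M.a o = M.a o' :=
  HB.smul_nh hP hM.link hM.lift hM.group hM.rep hM.lat hM.orbit hM.trans hB.mem hB.mem' hB.e10 hB.e5

theorem closed (C : CovData π (HP t) (ev t nhW) (M.a o)) :
    C.Closed (M.a o) (M.a o') (M.a (M.zc * (o * o'))) :=
  HB.closed hP hM.link hM.lift hM.group hM.rep hM.lat hM.orbit hM.trans C hB.mem hB.mem' hB.ad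
    hB.e10 hB.e5 hB.e0

theorem nh_mem_K : π (ev t nhW) ∈ M.K :=
  AxisInj.nh_mem_K hP hM.link hM.lift hM.group hM.rep hM.lat hM.orbit hM.trans hB.mem hB.mem' hB.ad
    hB.e10 hB.e5 hB.e0

/-- **`π` is an isomorphism.** -/
theorem bijective (hgen : Subgroup.closure (nodes 14 t) = ⊤) (hBF : BFacts)
    (hIB : IsB Spor.BabyMonster) (hsurj : Function.Surjective π) {z a b τ ξ y : D.G}
    {Q : V → Prop} {ht : V → ℕ} (hgeo : Geo1 z a b τ ξ y Q ht (M.a o))
    (hK : ∀ g ∈ M.K, g ∈ MonsterU.PlaneGeo.K z) {S T₀ : Set V}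
    (hSD : ∀ C : CovData π (HP t) (ev t nhW) (M.a o), π (ev t nhW) • M.a o = M.a o' →
      C.Closed (M.a o) (M.a o') (M.a (M.zc * (o * o'))) →
      ∃ s, SetData C (MonsterU.PlaneGeo.K z) (MonsterU.PlaneGeo.N z a) S T₀ s) :
    Function.Bijective π := by
  have C := covData hP hM hB hBF hIB hsurj
  obtain ⟨s, hs⟩ := hSD C (smul_nh hP hM hB) (closed hP hM hB C)
  exact PlaneIn.bijective hgeo.plane hs (hK _ (nh_mem_K hP hM hB)) (GenH.closure_eq_top hP hgen) hgeo.gen
    hgeo.ξ_sq hgeo.τ_o hgeo.ξ_o hgeo.y_o hgeo.hT hgeo.inv hgeo.loc hgeo.hQ hgeo.bound hgeo.zero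

end

/-- **S1705 from an isomorphism with the group of the model.** -/
theorem isM_of_bijective (hF : FiFacts) {G : Type} [Group G] (hIM : IsM G) {v : ℕ → G} (hv : PRel v)
    (hz : ZRel v) (hgen : Subgroup.closure (nodes 14 v) = ⊤)
    (H1 : ∀ (Γ : Type) [Group Γ] (t : ℕ → Γ) (π : Γ →* G), PRel t →
      Subgroup.closure (nodes 14 t) = ⊤ → (∀ i < 14, π (t i) = v i) → Function.Surjective π →
      Function.Bijective π) : IsM Spor.Monster := by
  obtain ⟨π, hπ⟩ := xM_univ G v hv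
  have hsurj : Function.Surjective π := by
    rw [← MonoidHom.range_eq_top, eq_top_iff, ← hgen, Subgroup.closure_le]
    rintro _ ⟨i, hi, rfl⟩
    exact ⟨xM i, hπ i hi⟩
  have e : PM ≃* G := MulEquiv.ofBijective π (H1 PM xM π xM_prel xM_gen hπ hsurj)
  have : Finite G := Nat.finite_of_card_ne_zero (by rw [hIM.2]; norm_num)
  refine Bimonster.isM_monster hF hIM hv hz hgen (Finite.of_equiv _ e.symm.toEquiv) ?_
  rw [Nat.card_congr e.toEquiv, hIM.2]

/-- **S1705 from the model.** -/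
theorem isM_monster (hF : FiFacts) (hM : Model D M x₀ θ K₀) {v : ℕ → D.G} (hv : PRel v) (hz : ZRel v)
    (hgen : Subgroup.closure (nodes 14 v) = ⊤) (hB : Base M o o' v) (hBF : BFacts)
    (hIB : IsB Spor.BabyMonster) {z a b τ ξ y : D.G} {Q : V → Prop} {ht : V → ℕ}
    (hgeo : Geo1 z a b τ ξ y Q ht (M.a o)) (hK : ∀ g ∈ M.K, g ∈ MonsterU.PlaneGeo.K z) {S T₀ : Set V}
    (hSD : ∀ (Γ : Type) [Group Γ] (t : ℕ → Γ) (π : Γ →* D.G) (C : CovData π (HP t) (ev t nhW) (M.a o)),
      π (ev t nhW) • M.a o = M.a o' → C.Closed (M.a o) (M.a o') (M.a (M.zc * (o * o'))) →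
      ∃ s, SetData C (MonsterU.PlaneGeo.K z) (MonsterU.PlaneGeo.N z a) S T₀ s) :
    IsM Spor.Monster := by
  refine isM_of_bijective hF
    (MonsterX.MainSimple.isM hM.group hM.rep hM.lat hM.orbit hM.trans) hv hz hgen ?_
  intro Γ _ t π hP hgen' hπ hsurj
  have hB' : Base M o o' fun i => π (t i) :=
    ⟨hB.mem, hB.mem', hB.ad, by rw [hπ 10 (by norm_num)]; exact hB.e10,
      by rw [hπ 5 (by norm_num)]; exact hB.e5, by rw [hπ 0 (by norm_num)]; exact hB.e0⟩
  exact bijective hP hM hB' hgen' hBF hIB hsurj hgeo hK (hSD Γ t π)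

end Cfsg.Agent.MonsterP.H1Abs
end

-- part: MonsterP/TZeroG
section
set_option linter.all false
open scoped Cfsg.Agent.FastGrp

/-!
# The set `T₀` in terms of the covering data over the group of the model
-/

set_option autoImplicit false

namespace Cfsg.Agent.MonsterP.TZero

open Cfsg.Agent.MonsterX.Space Cfsg.Agent.MonsterX.Conc Cfsg.Agent.MonsterX
open Cfsg.Agent.MonsterX.CertOrb

variable {Γ : Type*} [Group Γ] {π : Γ →* ↥InstData.M.G} {H : Subgroup Γ} {n : Γ}

/-- `T₀` is connected in the graph of the covering. -/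
theorem connT (D : CovData π H n a₀) (h₀ : Adj π n a₀ a₀ b₀) : CovData.Conn π n a₀ T₀ := by
  intro x hx y hy
  refine conn (R := Adj π n a₀) ?_ (fun x y h => D.symm h) h₀ x hx y hy
  intro g hg x y hxy
  have hg' : g ∈ InstData.M.G := C_le_G (N_le_C hg)
  exact hxy.smul (⟨g, hg'⟩ : ↥InstData.M.G)

/-- The group `⟨N, τ⟩` preserves `T₀`. -/
theorem smul_mem_iff {D₀ : Subgroup (V ≃ₗ[ℚ] V)} (h : TauData Conc.N D₀ τ (E 12)) {g : V ≃ₗ[ℚ] V}
    (hg : g ∈ Subgroup.closure ((Conc.N : Set (V ≃ₗ[ℚ] V)) ∪ {τ})) (x : V) : g x ∈ T₀ ↔ x ∈ T₀ := by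
  have key : ∀ g ∈ Subgroup.closure ((Conc.N : Set (V ≃ₗ[ℚ] V)) ∪ {τ}),
      ∀ x ∈ T₀, g x ∈ T₀ ∧ g⁻¹ x ∈ T₀ := by
    intro g hg
    induction hg using Subgroup.closure_induction with
    | mem g hg =>
      rcases hg with hg | hg
      · exact fun x hx => ⟨N_mem hg hx, N_mem (Conc.N.inv_mem hg) hx⟩
      · rw [Set.mem_singleton_iff] at hg
        subst hg
        exact fun x hx => tau_mem h hx
    | one => exact fun x hx => ⟨hx, by rw [inv_one]; exact hx⟩
    | mul a b _ _ iha ihb =>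
      intro x hx
      refine ⟨(iha _ (ihb x hx).1).1, ?_⟩
      rw [mul_inv_rev]
      exact (ihb _ (iha x hx).2).2
    | inv a _ iha =>
      intro x hx
      exact ⟨(iha x hx).2, by rw [inv_inv]; exact (iha x hx).1⟩
  constructor
  · intro hx
    have h1 := (key g hg _ hx).2
    have h2 : g⁻¹ (g x) = x := by
      rw [← LinearEquiv.mul_apply, inv_mul_cancel]
      rfl
    rwa [h2] at h1
  · intro hx
    exact (key g hg x hx).1

end Cfsg.Agent.MonsterP.TZero
end

-- part: MonsterP/SInst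
section
prune_inst 0x3000612474220000001800000200002472000002004000002040000009890240a040000102700110900200903002004811100000020000002a0000000001000000230040803c0c00120000806802580c00000000000000000000000000000000000000000
set_option linter.all false
open scoped Cfsg.Agent.FastGrp

/-!
# The sheet over `S` for the concrete model

The three short elements `x₀`, `x₁`, `x₂ = z x₀ x₁` (axes `a₀`, `b₀`, `c₀`), and `x₃ = x_Ω x₀ x₁`: `τ` fixes `a₀`, `b₀`
and maps `c₀` to the axis of `x₃`, so one closed triangle `(a₀, b₀, c₀)` gives a closed triangle of type IIa.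
-/

set_option autoImplicit false
set_option maxRecDepth 100000

namespace Cfsg.Agent.MonsterP.SInst

open Cfsg Cfsg.Agent.Monster.PauliBasic Cfsg.Agent.MonsterX Cfsg.Agent.MonsterX.Space
open Cfsg.Agent.MonsterX.Conc Cfsg.Agent.MonsterX.InstData Cfsg.Agent.MonsterX.Short
open Cfsg.Agent.MonsterX.KSide Cfsg.Agent.MonsterX.KLift Cfsg.Agent.MonsterX.KModel Cfsg.Agent.MonsterX.KAsm
open Cfsg.Agent.MonsterX.KInst Cfsg.Agent.MonsterX.KLetX Cfsg.Agent.MonsterX.KRowsInst
open Cfsg.Agent.MonsterP.SChar Cfsg.Agent.MonsterP.SGraph Cfsg.Agent.MonsterP.TZero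
open Cfsg.Agent.MonsterU.Morse Cfsg.Agent.MonsterX.KSLat Cfsg.Agent.MonsterX.Lat
open Cfsg.Agent.Monster.PauliPlanes Cfsg.Agent.Monster.PauliGates Cfsg.Agent.MonsterX.KLetW

/-! ### General lemmas -/

section general

variable {G V P W : Type*} [Group G] [AddCommGroup V] [Module ℚ V]
  [DistribMulAction G V] [SMulCommClass G ℚ V] [Group P] [AddCommGroup W] [Module ℚ W]
  {M : KS G V P W} {θ : leechLattice → P}

/-- If the product of two short elements is short, they are adjacent. -/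
theorem ad_of_mul_mem (L : Lift M θ) {x y : P} (hx : x ∈ M.Sh) (hy : y ∈ M.Sh) (hxy : x * y ∈ M.Sh)
    (h : y ≠ x) (hz : y ≠ M.zc * x) : Ad M x y := by
  rcases dot_cases hx hy with e | e | e | e
  · exact absurd e h
  · exact absurd e hz
  · exact e
  exfalso
  have h1 : Eqz M (θ (M.lam x + M.lam y)) (θ (M.lam (x * y))) := by
    have e1 : Eqz M (θ (M.lam x + M.lam y)) (θ (M.lam x) * θ (M.lam y)) := L.add _ _
    have e2 : Eqz M (θ (M.lam x) * θ (M.lam y)) (x * y) := Eqz.mul (L.lam x hx) (L.lam y hy)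
    have e3 : Eqz M (θ (M.lam (x * y))) (x * y) := L.lam _ hxy
    exact (e1.trans e2).trans e3.symm
  obtain ⟨w, hw⟩ : ∃ w : leechLattice, M.lam x + M.lam y + M.lam (x * y) = 2 • w := by
    apply L.ker
    have e1 : Eqz M (θ (M.lam x + M.lam y + M.lam (x * y))) (θ (M.lam x + M.lam y) * θ (M.lam (x * y))) :=
      L.add _ _
    have e2 : Eqz M (θ (M.lam (x * y)) * θ (M.lam (x * y))) 1 := by
      rcases L.sq (θ (M.lam (x * y))) with e | e
      · exact Or.inl e
      · right; rw [e, mul_one]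
    have e3 := (e1.trans (h1.mul (Eqz.refl _))).trans e2
    rcases e3 with e | e
    · exact Or.inl e
    · right; rwa [mul_one] at e
  have key : ∀ v r w : leechLattice, nrm r = 32 → v + r = 2 • w → nrm v ≤ 80 → nrm v = 32 := by
    intro v r w hr hvr hv
    have a1 : nrm (v + r) = 4 * nrm w := by rw [hvr, nrm_two]
    have hsub : v - r = 2 • (w - r) := by
      rw [smul_sub, ← hvr, two_smul]
      abel
    have a2 : nrm (v - r) = 4 * nrm (w - r) := by rw [hsub, nrm_two]
    rw [nrm_add] at a1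
    rw [nrm_sub] at a2
    by_cases hw0 : w = 0
    · rw [hw0, smul_zero] at hvr
      rw [eq_neg_of_add_eq_zero_left hvr, nrm_neg, hr]
    · by_cases hw1 : w - r = 0
      · rw [sub_eq_zero.1 hw1] at hvr
        have : v = r := by
          rw [two_smul] at hvr
          exact add_right_cancel hvr
        rw [this, hr]
      · have b1 := le_nrm hw0
        have b2 := le_nrm hw1
        omega
  have hnx := M.lam_norm x hx
  have hny := M.lam_norm y hy
  have hp : nrm (M.lam x + M.lam y) ≤ 80 := by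
    rw [nrm_add, hnx, hny]
    rcases e with e | e | e <;> rw [e] <;> norm_num
  have h3 := key _ _ w (M.lam_norm _ hxy) hw hp
  rw [nrm_add, hnx, hny] at h3
  rcases e with e | e | e <;> rw [e] at h3 <;> norm_num at h3

/-- A closed triangle which is not a line is of type IIa. -/
theorem IIa_of_not_line (L : Lift M θ) {x y w : P} (hx : x ∈ M.Sh) (hy : y ∈ M.Sh) (hw : w ∈ M.Sh)
    (h1 : Ad M x y) (h2 : Ad M x w) (h3 : Ad M y w) (hne : w ≠ x * y) (hne' : w ≠ M.zc * (x * y)) :
    IIa M x y w := by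
  refine ⟨h1, h2, h3, ?_⟩
  by_contra hpos
  have e1 : dot (M.lam w) (M.lam x) = dot (M.lam x) (M.lam w) := dot_comm _ _
  have e2 : dot (M.lam w) (M.lam y) = dot (M.lam y) (M.lam w) := dot_comm _ _
  have h4 : dot (M.lam w) (M.lam (x * y)) = 32 ∨ dot (M.lam w) (M.lam (x * y)) = -32 := by
    have h5 := dot_mul_right L hx hy h1 (M.lam w)
    rw [e1, e2] at h5
    rcases h2 with h2 | h2 <;> rcases h3 with h3 | h3 <;>
      rcases h5 with ⟨h5, h6 | h6⟩ | ⟨h5, h6 | h6⟩ <;>
      rw [h2, h3] at h6 <;> rw [h2, h3, h5] at hpos <;> first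
        | (exfalso; norm_num at hpos; done)
        | (left; rw [h6]; norm_num; done)
        | (right; rw [h6]; norm_num; done)
  have hxy := mul_mem L hx hy h1
  have h7 : (dot (M.lam (x * y)) (M.lam w)) ^ 2 = 1024 := by
    rw [dot_comm]
    rcases h4 with h4 | h4 <;> rw [h4] <;> norm_num
  rcases M.eq_or_of_dot _ _ hxy hw h7 with e | e
  · exact hne e
  · exact hne' e

end general

/-! ### The short elements -/

/-- The action of a word in the letters `< 40` on the Pauli group. -/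
def alW (w : List ℕ) (x : Pauli 12) : Pauli 12 := w.foldl (fun x n => al n x) x

/-- The same on planes. -/
def plW (w : List ℕ) (L : List ℕ) : List ℕ := w.foldl (fun L n => conjPlL (circ n) L) L

theorem alW_labP (w : List ℕ) : ∀ (L : List ℕ), L.length = 2 * 12 + 1 →
    alW w (labP 12 L 0) = labP 12 (plW w L) 0 := by
  induction w with
  | nil => intro L _; rfl
  | cons n w ih =>
    intro L hL
    show alW w (al n (labP 12 L 0)) = labP 12 (plW w (conjPlL (circ n) L)) 0
    rw [← ih _ (by rw [length_conjPlL, hL])]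
    congr 1
    exact (labP_conjPlL (circ n) hL 0).symm

theorem ext' {x y : Pauli 12} (hs : x.s = y.s) (ha : ∀ i, x.a i = y.a i) (hb : ∀ i, x.b i = y.b i) :
    x = y := Pauli.ext hs (funext ha) (funext hb)

def L₀ : List ℕ := [0, 0, 0, 0, 1, 0, 1, 0, 0, 0, 0, 0, 0, 0, 0, 0, 0, 0, 0, 0, 0, 0, 0, 0, 0]
def L₁ : List ℕ := [0, 0, 0, 0, 1, 1, 0, 0, 0, 0, 0, 0, 0, 0, 0, 0, 0, 0, 0, 0, 0, 0, 0, 0, 0]
def L₂ : List ℕ := [0, 0, 0, 0, 0, 1, 1, 0, 0, 0, 0, 0, 0, 0, 0, 0, 0, 0, 0, 0, 0, 0, 0, 0, 1]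
def L₃ : List ℕ := [0, 0, 0, 0, 0, 1, 1, 0, 0, 0, 0, 1, 0, 0, 0, 0, 0, 0, 0, 0, 0, 0, 0, 0, 0]

theorem plW₁ : plW [37, 37, 37] L₀ = L₁ := by decide +kernel
theorem plW₂ : plW [1, 36] L₀ = L₂ := by decide +kernel
theorem plW₃ : plW [25, 36] L₀ = L₃ := by decide +kernel

/-- `x_01`. -/
def xb : Pauli 12 := g 14 * g 13

/-- `x_02`. -/
def x₁ : Pauli 12 := g 15 * g 13

/-- `z x_01 x_02`. -/
def x₂ : Pauli 12 := Pauli.z 12 * (xb * x₁)

/-- `x_Ω x_01 x_02`. -/
def x₃ : Pauli 12 := g 0 * (xb * x₁)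

theorem xb_eq : xb = labP 12 L₀ 0 := ext' (by decide +kernel) (by decide +kernel) (by decide +kernel)
theorem x₁_eq : x₁ = labP 12 L₁ 0 := ext' (by decide +kernel) (by decide +kernel) (by decide +kernel)
theorem x₂_eq : x₂ = labP 12 L₂ 0 := ext' (by decide +kernel) (by decide +kernel) (by decide +kernel)
theorem x₃_eq : x₃ = labP 12 L₃ 0 := ext' (by decide +kernel) (by decide +kernel) (by decide +kernel)

theorem alW₁ : alW [37, 37, 37] xb = x₁ := by rw [xb_eq, alW_labP _ _ rfl, plW₁, x₁_eq]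
theorem alW₂ : alW [1, 36] xb = x₂ := by rw [xb_eq, alW_labP _ _ rfl, plW₂, x₂_eq]
theorem alW₃ : alW [25, 36] xb = x₃ := by rw [xb_eq, alW_labP _ _ rfl, plW₃, x₃_eq]

theorem ne_of_b {x y : Pauli 12} (i : Fin 12) (h : x.b i ≠ y.b i) : x ≠ y := fun e => h (by rw [e])

theorem ne₁ : x₁ ≠ xb := ne_of_b 6 (by decide +kernel)
theorem ne₁' : x₁ ≠ Pauli.z 12 * xb := ne_of_b 6 (by decide +kernel)
theorem ne₃ : x₃ ≠ xb * x₁ := ne_of_b 11 (by decide +kernel)
theorem ne₃' : x₃ ≠ Pauli.z 12 * (xb * x₁) := ne_of_b 11 (by decide +kernel)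

/-! ### The axes -/

/-- The axis of `x₂`. -/
noncomputable def c₀ : V := W [1, 36] a₀

theorem b₀_eq : W [37, 37, 37] a₀ = b₀ := W_eq_of_check (w₂ := [43, 43]) (by decide +kernel)

theorem tau_b₀ : τ b₀ = b₀ := by
  rw [← b₀_eq]
  have h : W [37, 37, 37, 40] (vecV a0B) = W [37, 37, 37] (vecV a0B) := W_eq_of_up (n := 6) (by decide +kernel)
  have e : ([37, 37, 37, 40] : List ℕ) = [37, 37, 37] ++ [40] := rfl
  rw [e, W_append, W_single] at h
  exact h

theorem tau_c₀ : τ c₀ = W [25, 36] a₀ := by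
  have h : W [1, 36, 40] (vecV a0B) = W [25, 36] (vecV a0B) := W_eq_of_up (n := 6) (by decide +kernel)
  have e : ([1, 36, 40] : List ℕ) = [1, 36] ++ [40] := rfl
  rw [e, W_append, W_single] at h
  exact h

section rows

variable (hc : ∀ n < 40, Compat (CoGens.A n) (al n))

/-- The concrete `KS`. -/
noncomputable abbrev K : KS ↥InstData.M.G V (Pauli 12) (B 12 → ℚ) := ks (rows hc)

theorem xb_x₀ : xb = KLinkInst.x₀ := base_eq

theorem lnk : Link InstData.M (K hc) xb := by
  rw [xb_x₀]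
  exact KLinkInst.link (rows hc) (hx hc)

theorem a_xb : (K hc).a xb = a₀ := by
  rw [a₀_eq', (lnk hc).a₀_eq]

/-- A letter in the group of the model. -/
noncomputable def EG (n : ℕ) (hn : n < 40) : ↥InstData.M.G := ⟨E n, C_le_G (Subgroup.subset_closure ⟨n, hn, rfl⟩)⟩

theorem acts_E {n : ℕ} (hn : n < 40) : ActsBy (K hc) (EG n hn) (al n) := by
  have h := act_E (rows hc) hn
  refine ⟨Subgroup.mem_subgroupOf.2 (Subgroup.subset_closure ⟨n, hn, rfl⟩), CoGens.A n, (T n).toLinearMap,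
    { act_u := h.act_u
      act_sh := h.compat.act_sh
      act_X := fun x _ => h.act_X x
      act_lam := h.compat.act_lam
      act_Θ := h.act_Θ
      act_ρ := h.act_ρ }⟩

/-- A letter acts on the axes. -/
theorem E_a {n : ℕ} (hn : n < 40) {x : Pauli 12} (hx : x ∈ Sh) :
    al n x ∈ Sh ∧ E n ((K hc).a x) = (K hc).a (al n x) :=
  ⟨(acts_E hc hn).sh hx, (acts_E hc hn).smul_a hx⟩

theorem W_a (w : List ℕ) : (∀ n ∈ w, n < 40) → ∀ {x : Pauli 12}, x ∈ Sh →
    alW w x ∈ Sh ∧ W w ((K hc).a x) = (K hc).a (alW w x) := by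
  induction w with
  | nil =>
    intro _ x hx
    refine ⟨hx, ?_⟩
    rw [W_nil]
    rfl
  | cons n w ih =>
    intro hw x hx
    obtain ⟨h1, h2⟩ := E_a hc (hw n (by simp)) hx
    obtain ⟨h3, h4⟩ := ih (fun m hm => hw m (by simp [hm])) h1
    refine ⟨h3, ?_⟩
    rw [W_cons, LinearEquiv.mul_apply, h2, h4]
    rfl

theorem xb_mem : xb ∈ Sh := by rw [xb_x₀]; exact KLinkInst.x₀_mem

include hc in
theorem x₁_mem : x₁ ∈ Sh := by
  rw [← alW₁]
  exact (W_a hc [37, 37, 37] (by decide) xb_mem).1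

include hc in
theorem x₂_mem : x₂ ∈ Sh := by
  rw [← alW₂]
  exact (W_a hc [1, 36] (by decide) xb_mem).1

include hc in
theorem x₃_mem : x₃ ∈ Sh := by
  rw [← alW₃]
  exact (W_a hc [25, 36] (by decide) xb_mem).1

theorem a_x₁ : (K hc).a x₁ = b₀ := by
  rw [← alW₁, ← (W_a hc [37, 37, 37] (by decide) xb_mem).2, a_xb, b₀_eq]

theorem a_x₂ : (K hc).a x₂ = c₀ := by
  rw [← alW₂, ← (W_a hc [1, 36] (by decide) xb_mem).2, a_xb]
  rfl

theorem a_x₃ : (K hc).a x₃ = τ c₀ := by
  rw [← alW₃, ← (W_a hc [25, 36] (by decide) xb_mem).2, a_xb, tau_c₀]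

theorem ad₁ : Ad (K hc) xb x₁ := by
  refine ad_of_mul_mem (lift (rows hc)) xb_mem (x₁_mem hc) ?_ ne₁ ne₁'
  have h : Pauli.z 12 * x₂ = xb * x₁ := (K hc).zc_zc (xb * x₁)
  have h2 : Pauli.z 12 * x₂ ∈ (K hc).Sh := (K hc).Sh_z _ (x₂_mem hc)
  rwa [h] at h2

theorem S_eq : InstData.M.S = (K hc).S := (lnk hc).S_eq (lift (rows hc))

end rows

/-! ### The sheet -/

section general

variable {Γ G V P W : Type*} [Group Γ] [Group G] [AddCommGroup V] [Module ℚ V]
  [DistribMulAction G V] [SMulCommClass G ℚ V] [Group P] [AddCommGroup W] [Module ℚ W]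
  {M : KS G V P W} {θ : leechLattice → P}
  {π : Γ →* G} {H : Subgroup Γ} {n : Γ} {o o' w : P}

/-- A normalised sheet over `S`, from a closed triangle and an element `t` moving it to a triangle of type IIa. -/
theorem exists_sheet_of (L : Lift M θ) (ho : o ∈ M.Sh) (ho' : o' ∈ M.Sh) (hw : w ∈ M.Sh) (had : Ad M o o')
    (hne : w ≠ o * o') (hne' : w ≠ M.zc * (o * o')) {a b c : V} (ha : M.a o = a) (hb : M.a o' = b)
    (hc : M.a (M.zc * (o * o')) = c) (D : CovData π H n a) (hn : π n • a = b) (hcl : D.Closed a b c)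
    (t : G) (hta : t • a = a) (htb : t • b = b) (htc : t • c = M.a w) :
    (∃ s : V → Γ ⧸ H, Sheet (Adj π n a) (Adj' H n) D.pr M.S s ∧ s a = ((1 : Γ) : Γ ⧸ H)) ∧
      CovData.Conn π n a M.S ∧ Adj π n a a b := by
  subst ha hb hc
  have E : Edge M π n o o' := ⟨ho, ho', had, hn⟩
  have h1 := CovData.Closed.smul D hcl t
  rw [hta, htb, htc] at h1
  have h2 : IIa M o o' w := IIa_of_not_line L ho ho' hw had ((adj_iff L E ho hw).1 h1.2.1)
    ((adj_iff L E ho' hw).1 h1.2.2.1) hne hne'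
  obtain ⟨s, hs⟩ := exists_sheet D L E hcl ⟨o, ho, o', ho', w, hw, h2, h1⟩
  obtain ⟨s', hs', hs''⟩ := D.normalize hs ⟨o, ho, rfl⟩
  exact ⟨⟨s', hs', hs''⟩, connS L E, (adj_iff L E ho ho').2 had⟩

end general

section model

variable (hc : ∀ n < 40, Compat (CoGens.A n) (al n))
variable {Γ : Type*} [Group Γ] {π : Γ →* ↥InstData.M.G} {H : Subgroup Γ} {n : Γ}

/-- `τ` in the group of the model. -/
noncomputable def τG : ↥InstData.M.G := ⟨τ, Subgroup.subset_closure (Or.inr rfl)⟩

include hc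

/-- **The sheet over `S` in the concrete model.** -/
theorem exists_sheet (D : CovData π H n a₀) (hn : π n • a₀ = b₀) (hb : D.Closed a₀ b₀ c₀) :
    (∃ s : V → Γ ⧸ H, Sheet (Adj π n a₀) (Adj' H n) D.pr InstData.M.S s ∧ s a₀ = ((1 : Γ) : Γ ⧸ H)) ∧
      CovData.Conn π n a₀ InstData.M.S ∧ Adj π n a₀ a₀ b₀ := by
  rw [S_eq hc]
  exact exists_sheet_of (lift (rows hc)) xb_mem (x₁_mem hc) (x₃_mem hc) (ad₁ hc) ne₃ ne₃' (a_xb hc) (a_x₁ hc)
    (a_x₂ hc) D hn hb τG tau_a₀ tau_b₀ (a_x₃ hc).symm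

end model

end Cfsg.Agent.MonsterP.SInst
end
end

-- part: MonsterP/SetInst
section
prune_inst 0x20000000000000000000000000000000
set_option linter.all false
open scoped Cfsg.Agent.FastGrp

/-!
# The set data of the concrete model

`KΓ`, `NΓ` (the stabilisers of the point `z` and of the line `⟨z, x_Ω⟩` in the group of the model) against the
subgroups `Conc.C`, `Conc.N` generated by letters, and `SetData` for `S` and `T₀`.

`hc` is `cent_z`: the centraliser of `z` in the group is `C`.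
-/

set_option autoImplicit false
set_option maxRecDepth 100000

namespace Cfsg.Agent.MonsterP.SetInst

open Cfsg Cfsg.Agent.Monster.PauliBasic Cfsg.Agent.LeechMat.Core Cfsg.Agent.LeechMat.Code
open Cfsg.Agent.LeechMat.Elements Cfsg.Agent.SporadicA.Co0Card
open Cfsg.Agent.MonsterX Cfsg.Agent.MonsterX.Space Cfsg.Agent.MonsterX.Conc
open Cfsg.Agent.MonsterX.KSide Cfsg.Agent.MonsterX.KLift Cfsg.Agent.MonsterX.FrameStab
open Cfsg.Agent.MonsterX.FrameInst Cfsg.Agent.MonsterX.FrameConc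
open Cfsg.Agent.MonsterX.ConcMono Cfsg.Agent.MonsterX.TauRel Cfsg.Agent.MonsterX.RelAll
open Cfsg.Agent.MonsterU Cfsg.Agent.MonsterU.Morse Cfsg.Agent.MonsterU.PlaneGeo
open Cfsg.Agent.MonsterU.ModelGeo Cfsg.Agent.MonsterU.ModelCent
open Cfsg.Agent.MonsterP.TZero Cfsg.Agent.MonsterP.SInst

/-! ### An element `y` fixing the base axis -/

/-- The letter `27`. -/
noncomputable def y₁ : ModelGeo.Γ := ⟨E 27, C_le_G (E_mem_C (by norm_num))⟩

theorem y₁_sq : E 27 * E 27 = 1 := by
  have h : W [27, 27] = W [] := ConcMono.W_eq_of_same (by decide +kernel)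
  rw [W2, W_nil] at h
  exact h

theorem y₁_a : E 27 * E 0 = E 0 * E 27 := by
  have h : W [0, 27] = W [27, 0] := ConcMono.W_eq_of_same (by decide +kernel)
  rw [W2, W2] at h
  exact h

theorem y₁_b : E 27 * xT * (E 27)⁻¹ = E 0 * xT := by
  have h : W ([27] ++ ([13, 14, 15, 16] ++ [27])) = W ([0] ++ [13, 14, 15, 16]) :=
    ConcMono.W_eq_of_same (by decide +kernel)
  rw [W_append, W_append, W_append, W_single, W_single] at h
  rw [inv_eq_of_mul_eq_one_right y₁_sq, ModelGeo.a_b]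
  exact h

/-- The plane with an element `y` which fixes the base axis. -/
theorem plane₁ : Plane zE aE bE τE ξE y₁ :=
  { ModelGeo.plane with
    y_z := Subtype.ext (by
      show E 27 * z * (E 27)⁻¹ = z
      rw [z_comm_C _ (E_mem_C (by norm_num)), mul_inv_cancel_right])
    y_a := Subtype.ext (by
      show E 27 * E 0 * (E 27)⁻¹ = E 0
      rw [y₁_a, mul_inv_cancel_right])
    y_b := Subtype.ext SetInst.y₁_b }

theorem y₁_a₀ : y₁ • a₀ = a₀ := E_fix (by decide)

theorem τE_a₀ : τE • a₀ = a₀ := tau_a₀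

theorem ξE_a₀ : ξE • a₀ = a₀ := xi_a₀

theorem ξE_sq : ξE * ξE = 1 := Subtype.ext ConcGrp.ξ_sq

/-! ### The stabiliser of the frame -/

/-- The packed vector `4 e_0 - 4 e_∞`. -/
def nw : ℕ := 0x642108421084210842108421084214

def vw : leechLattice := ⟨vec nw, isLeech_sound (by decide +kernel)⟩

theorem v8_sub : v8 - v0 = 2 • vw := by
  apply Subtype.ext
  funext p
  have h : ∀ p : GolayPt, sdig n8 (pos p) - (Pi.single none 8 : GolayPt → ℤ) p = sdig nw (pos p) + sdig nw (pos p) := by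
    decide +kernel
  have h2 : ((2 • vw : leechLattice) : GolayPt → ℤ) p = sdig nw (pos p) + sdig nw (pos p) := by
    rw [two_smul]
    rfl
  rw [h2, ← h p]
  rfl

/-- `A` fixes the class of `8 e_0` if and only if it fixes the class of `8 e_∞`. -/
theorem fixes_iff (A : Co0) : FixesFrame A ↔ ∃ w : leechLattice, v8 - A • v8 = 2 • w := by
  have e : v8 = v0 + 2 • vw := by rw [← v8_sub]; abel
  have e2 : A • v8 = A • v0 + 2 • (A • vw) := by rw [e, co0_smul_add, two_smul, co0_smul_add, ← two_smul ℕ]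
  constructor
  · rintro ⟨w, hw⟩
    refine ⟨w + vw - A • vw, ?_⟩
    rw [e2, smul_sub, smul_add, ← hw]
    nth_rewrite 1 [e]
    abel
  · rintro ⟨w, hw⟩
    refine ⟨w - vw + A • vw, ?_⟩
    rw [smul_add, smul_sub, ← hw, e2]
    nth_rewrite 1 [e]
    abel

theorem U : ULink USide.u := FrameU.ulink ConcGrp.ξ_sq KDone.ker_C

/-- Two lattice vectors have the same image up to the centre if and only if they are congruent. -/
theorem eqz_iff {v w : leechLattice} : Eqz KDone.K (ShortQ.theta v) (ShortQ.theta w) ↔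
    ∃ x : leechLattice, w - v = 2 • x := by
  have L := KDone.lft
  constructor
  · intro h
    have e1 : Eqz KDone.K (ShortQ.theta (w + -v)) (ShortQ.theta w * ShortQ.theta (-v)) := L.add _ _
    have e2 := (Eqz.refl (M := KDone.K) (ShortQ.theta w)).mul (θ_neg L v)
    have e3 := (Eqz.refl (M := KDone.K) (ShortQ.theta w)).mul h
    have e4 : Eqz KDone.K (ShortQ.theta w * ShortQ.theta w) 1 := by
      rcases L.sq (ShortQ.theta w) with e | e
      · exact Or.inl e
      · right; rw [e, mul_one]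
    have e5 := ((e1.trans e2).trans e3).trans e4
    rw [← sub_eq_add_neg] at e5
    apply L.ker
    rcases e5 with e | e
    · exact Or.inl e
    · right; rwa [mul_one] at e
  · rintro ⟨x, hx⟩
    have e0 : w = v + 2 • x := by rw [← hx]; abel
    have e1 : Eqz KDone.K (ShortQ.theta w) (ShortQ.theta v * ShortQ.theta (2 • x)) := by
      rw [e0]; exact L.add _ _
    have e2 := (Eqz.refl (M := KDone.K) (ShortQ.theta v)).mul (θ_two L x)
    rw [mul_one] at e2
    exact (e1.trans e2).symm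

/-- **The stabiliser of the frame**: an element of `C` is in `N` if and only if it maps `x_Ω` to `x_Ω` or `z x_Ω`. -/
theorem mem_N_iff {g : ModelGeo.Γ} (hg : (g : V ≃ₗ[ℚ] V) ∈ C) :
    (g : V ≃ₗ[ℚ] V) ∈ Conc.N ↔ (g * aE * g⁻¹ = aE ∨ g * aE * g⁻¹ = zE * aE) := by
  have L := KDone.lft
  obtain ⟨A, α, T, hA⟩ := KDone.K.acts g (Subgroup.mem_subgroupOf.2 hg)
  have hinj := KDone.K.ι_injective (fun p hp => L.center p (fun y => mul_inv_eq_iff_eq_mul.1 (hp y)))
  have h1 := conj_ι hA pa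
  rw [ι_a] at h1
  have h2 : KDone.K.ι (α pa) = g * aE * g⁻¹ := by rw [h1, mul_inv_cancel_right]
  have hz : zE * aE = KDone.K.ι (KDone.K.zc * pa) := by
    rw [map_mul, ι_a]
    congr 1
    exact z_eq.symm
  have h3 : (g * aE * g⁻¹ = aE ∨ g * aE * g⁻¹ = zE * aE) ↔ Eqz KDone.K (α pa) pa := by
    rw [← h2, hz]
    constructor
    · rintro (h | h)
      · left
        rw [← ι_a] at h
        exact hinj h
      · right
        exact hinj h
    · rintro (h | h)
      · left; rw [h, ι_a]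
      · right; rw [h]
  have h4 : Eqz KDone.K pa (ShortQ.theta v8) := eqz_of_psi psi_v8
  have hz' := α_zc L α
  have h5 : Eqz KDone.K (α pa) pa ↔ Eqz KDone.K (ShortQ.theta (A • v8)) (ShortQ.theta v8) := by
    have e1 : Eqz KDone.K (ShortQ.theta (A • v8)) (α (ShortQ.theta v8)) := act_θ L hA v8
    have e2 : Eqz KDone.K (α pa) (α (ShortQ.theta v8)) := h4.map α hz'
    constructor
    · intro h
      exact ((e1.trans e2.symm).trans h).trans h4
    · intro h
      exact ((e2.trans e1.symm).trans h).trans h4.symm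
  have h6 : R USide.u ⟨g, hg⟩ A := fun v => hA.act_u v
  rw [h3, h5, eqz_iff, ← fixes_iff, ← fix_iff U.ind h6]
  exact (U.frames.stab ⟨g, hg⟩).symm

/-! ### The subgroups -/

section subgroups

variable (hc : ∀ g ∈ InstData.M.G, g * InstData.M.z = InstData.M.z * g → g ∈ InstData.M.C)

include hc

theorem K_eq : KΓ = InstData.M.C.subgroupOf InstData.M.G := by
  ext g
  rw [Subgroup.mem_subgroupOf]
  exact mem_KΓ hc

/-- `K ∩ N` is the group generated by the monomial letters. -/
theorem mem_D {g : ModelGeo.Γ} : g ∈ KΓ ⊓ NΓ ↔ (g : V ≃ₗ[ℚ] V) ∈ Conc.N := by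
  have pl := ModelGeo.plane
  constructor
  · intro h
    obtain ⟨h1, h2⟩ := Subgroup.mem_inf.1 h
    have h3 := (mem_KΓ hc).1 h1
    rw [mem_N_iff h3]
    have h4 := Plane.conj_mem_V4 h2 a_mem_V4
    rw [mem_V4 pl.z_sq pl.a_sq pl.za] at h4
    have h5 := mem_K.1 h1
    rcases h4 with h4 | h4 | h4 | h4
    · exfalso
      rw [mul_inv_eq_one] at h4
      exact pl.a_ne (mul_eq_left.1 h4)
    · exfalso
      rw [← h5] at h4
      exact pl.a_ne_z (mul_left_cancel (mul_right_cancel h4))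
    · exact Or.inl h4
    · exact Or.inr h4
  · intro h
    have h3 : (g : V ≃ₗ[ℚ] V) ∈ C := N_le_C h
    have h1 : g ∈ KΓ := mem_KΓ_of_C h3
    refine Subgroup.mem_inf.2 ⟨h1, pl.mem_N_of ?_ ?_⟩
    · rw [mem_K.1 h1]
      exact z_mem_V4
    · rcases (mem_N_iff h3).1 h with e | e
      · rw [e]; exact a_mem_V4
      · rw [e]; exact mul_mem z_mem_V4 a_mem_V4

theorem D_eq : KΓ ⊓ NΓ = Conc.N.subgroupOf InstData.M.G := by
  ext g
  rw [Subgroup.mem_subgroupOf]
  exact mem_D hc

theorem K_smul {k : ModelGeo.Γ} (hk : k ∈ KΓ) (x : V) : k • x ∈ InstData.M.S ↔ x ∈ InstData.M.S := by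
  rw [SInst.S_eq KCompat.compat]
  exact SGraph.K_smul (M := SInst.K KCompat.compat) (Subgroup.mem_subgroupOf.2 ((mem_KΓ hc).1 hk)) x

theorem NΓ_closure {m : ModelGeo.Γ} (hm : m ∈ NΓ) :
    (m : V ≃ₗ[ℚ] V) ∈ Subgroup.closure ((Conc.N : Set (V ≃ₗ[ℚ] V)) ∪ {τ}) := by
  obtain ⟨t, ht, d, hd, rfl⟩ := ModelGeo.plane.N_eq hm
  have hτ : τ ∈ Subgroup.closure ((Conc.N : Set (V ≃ₗ[ℚ] V)) ∪ {τ}) := Subgroup.subset_closure (Or.inr rfl)
  refine Subgroup.mul_mem (Subgroup.closure ((Conc.N : Set (V ≃ₗ[ℚ] V)) ∪ {τ})) ?_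
    (Subgroup.subset_closure (Or.inl ((mem_D hc).1 hd)))
  simp only [Set.mem_insert_iff, Set.mem_singleton_iff] at ht
  rcases ht with rfl | rfl | rfl
  · exact one_mem _
  · exact hτ
  · exact mul_mem hτ hτ

theorem N_smul {m : ModelGeo.Γ} (hm : m ∈ NΓ) (x : V) : m • x ∈ T₀ ↔ x ∈ T₀ :=
  smul_mem_iff ConcGrp.tauData (NΓ_closure hc hm) x

/-- **The set data of the concrete model.** -/
theorem exists_setData {Γ : Type*} [Group Γ] {π : Γ →* ↥InstData.M.G} {H : Subgroup Γ} {n : Γ}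
    (D : CovData π H n a₀) (hn : π n • a₀ = b₀) (hb : D.Closed a₀ b₀ c₀) :
    ∃ s, SetData D KΓ NΓ InstData.M.S T₀ s := by
  obtain ⟨⟨s, hs, hs₀⟩, hS, had⟩ := SInst.exists_sheet KCompat.compat D hn hb
  exact ⟨s, hs, a₀_mem, T₀_sub, hS, connT D had, fun k hk x => K_smul hc hk x, fun m hm x => N_smul hc hm x, hs₀⟩

end subgroups

end Cfsg.Agent.MonsterP.SetInst
end

section
prune_inst 0x20000000000000000000000000000000

-- part: MonsterP/H1Abs_mg
section

end

-- part: MonsterP/LeechPairs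
section
set_option linter.all false
open scoped Cfsg.Agent.FastGrp

/-!
`Co0` is transitive on the ordered pairs of minimal vectors of the Leech lattice with inner
product `0`, and on those with inner product `8`.
-/

set_option autoImplicit false

namespace Cfsg.Agent.MonsterP.LeechPairs

open Cfsg Cfsg.Agent.MonsterX.KSide Cfsg.Agent.MonsterX.Lat Cfsg.Agent.Leech.Min
  Cfsg.Agent.Leech.Trans Cfsg.Agent.Leech.TransPair Cfsg.Agent.Leech.Code
  Cfsg.Agent.Leech.Co0Elts Cfsg.Agent.MonsterP.LeechTriple Cfsg.Agent.MonsterP.LeechNbr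
  Cfsg.Agent.Leech.Basic

section

variable {p q : GolayPt} (hpq : p ≠ q)

/-- Flip the sign at one point, keeping those at up to four points. -/
theorem E_flip (x : leechLattice) (m : GolayPt) (s : Finset GolayPt) (hs : s.card ≤ 4)
    (hm : m ∉ s) (hp : p ∈ s) (hq : q ∈ s) :
    ∃ y : leechLattice, E (v0 p q hpq) x y ∧
      (y : GolayPt → ℤ) m = -(x : GolayPt → ℤ) m ∧
      (∀ i ∈ s, (y : GolayPt → ℤ) i = (x : GolayPt → ℤ) i) ∧
      ∀ i, (y : GolayPt → ℤ) i = (x : GolayPt → ℤ) i ∨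
        (y : GolayPt → ℤ) i = -(x : GolayPt → ℤ) i := by
  obtain ⟨D, hD, hmD, hDs⟩ := exists_word m s hs hm
  obtain ⟨y, hE, hy⟩ := E_sgn (v := v0 p q hpq) x hD (fun i hi => v0_other hpq
    (fun h => hDs p hp (h ▸ hi)) (fun h => hDs q hq (h ▸ hi)))
  refine ⟨y, hE, by rw [hy m, if_pos hmD], fun i hi => by rw [hy i, if_neg (hDs i hi)],
    fun i => ?_⟩
  rw [hy i]
  split_ifs
  · exact Or.inr rfl
  · exact Or.inl rfl

/-- The sign at one point can be prescribed. -/
theorem E_sign (x : leechLattice) (m : GolayPt) (s : Finset GolayPt) (hs : s.card ≤ 4)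
    (hm : m ∉ s) (hp : p ∈ s) (hq : q ∈ s) (a : ℤ)
    (ha : (x : GolayPt → ℤ) m = a ∨ (x : GolayPt → ℤ) m = -a) :
    ∃ y : leechLattice, E (v0 p q hpq) x y ∧ (y : GolayPt → ℤ) m = a ∧
      (∀ i ∈ s, (y : GolayPt → ℤ) i = (x : GolayPt → ℤ) i) ∧
      ∀ i, (y : GolayPt → ℤ) i = (x : GolayPt → ℤ) i ∨
        (y : GolayPt → ℤ) i = -(x : GolayPt → ℤ) i := by
  rcases ha with ha | ha
  · exact ⟨x, E.refl _ _, ha, fun _ _ => rfl, fun _ => Or.inl rfl⟩
  · obtain ⟨y, hE, h1, h2, h3⟩ := E_flip hpq x m s hs hm hp hq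
    exact ⟨y, hE, by rw [h1, ha, neg_neg], h2, h3⟩

/-- The map `ξ` on the four points `p, q, k, l`. -/
theorem E_xi4 {k l : GolayPt} (hpk : p ≠ k) (hpl : p ≠ l) (hqk : q ≠ k) (hql : q ≠ l)
    (hkl : k ≠ l) (x : leechLattice) :
    ∃ y : leechLattice, E (v0 p q hpq) x y ∧
      (∀ i ∈ ({p, q, k, l} : Finset GolayPt), (y : GolayPt → ℤ) i = (x : GolayPt → ℤ) i -
        ((x : GolayPt → ℤ) p + (x : GolayPt → ℤ) q + (x : GolayPt → ℤ) k + (x : GolayPt → ℤ) l) / 2) ∧
      ((∀ i, i ∉ ({p, q, k, l} : Finset GolayPt) → (x : GolayPt → ℤ) i = 0) →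
        ∀ i, i ∉ ({p, q, k, l} : Finset GolayPt) → (y : GolayPt → ℤ) i = 0) := by
  obtain ⟨y, hE, hy, hy0⟩ := E_xi x (card_four hpq hpk hpl hqk hql hkl) (v0_zero hpq)
    (v0_sum hpq hpk hpl hqk hql hkl)
  exact ⟨y, hE, fun i hi => by rw [hy i hi, sum_four hpq hpk hpl hqk hql hkl], hy0⟩

theorem lv_eq {k l : GolayPt} (hkl : k ≠ l) {a b : ℤ} (ha : a = 4 ∨ a = -4) (hb : b = 4 ∨ b = -4)
    {x : leechLattice} (hk : (x : GolayPt → ℤ) k = a) (hl : (x : GolayPt → ℤ) l = b)
    (h0 : ∀ i, i ≠ k → i ≠ l → (x : GolayPt → ℤ) i = 0) : x = lv k l a b hkl ha hb := by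
  apply Subtype.ext
  funext i
  rw [lv_coe]
  by_cases hik : i = k
  · subst hik; rw [hk, two_left]
  · by_cases hil : i = l
    · subst hil; rw [hl, two_right hkl]
    · rw [h0 i hik hil, two_other hik hil]

/-! ### Inner product `0` -/

theorem zero_out {k l : GolayPt} (hpk : p ≠ k) (hpl : p ≠ l) (hqk : q ≠ k) (hql : q ≠ l)
    (hkl : k ≠ l) {a b : ℤ} (ha : a = 4 ∨ a = -4) (hb : b = 4 ∨ b = -4) :
    E (v0 p q hpq) (lv k l a b hkl ha hb) (lv p q (-4) (-4) hpq neg_four_or neg_four_or) := by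
  -- make the signs positive
  have h1 : E (v0 p q hpq) (lv k l a b hkl ha hb) (lv k l 4 4 hkl four_or four_or) := by
    obtain ⟨y, hE, hyk, hys, hyi⟩ := E_sign hpq (lv k l a b hkl ha hb) k {p, q, l}
      (Finset.card_le_three.trans (by norm_num)) (by
        simp only [Finset.mem_insert, Finset.mem_singleton, not_or]
        exact ⟨hpk.symm, hqk.symm, hkl⟩) (by simp) (by simp) 4 (by
        rw [lv_coe, two_left]
        exact ha)
    have e : y = lv k l 4 b hkl four_or hb := lv_eq hkl four_or hb hyk (by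
      rw [hys l (by simp), lv_coe, two_right hkl]) (fun i hik hil => by
        have := hyi i
        rw [lv_coe, two_other hik hil] at this
        omega)
    obtain ⟨z, hE', hzl, hzs, hzi⟩ := E_sign hpq y l {p, q, k}
      (Finset.card_le_three.trans (by norm_num)) (by
        simp only [Finset.mem_insert, Finset.mem_singleton, not_or]
        exact ⟨hpl.symm, hql.symm, hkl.symm⟩) (by simp) (by simp) 4 (by
        rw [e, lv_coe, two_right hkl]
        exact hb)
    have e' : z = lv k l 4 4 hkl four_or four_or := lv_eq hkl four_or four_or (by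
      rw [hzs k (by simp), e, lv_coe, two_left]) hzl (fun i hik hil => by
        have := hzi i
        rw [e, lv_coe, two_other hik hil] at this
        omega)
    rw [← e']
    exact hE.trans hE'
  obtain ⟨y, hE, hy, hy0⟩ := E_xi4 hpq hpk hpl hqk hql hkl (lv k l 4 4 hkl four_or four_or)
  rw [lv_coe, two_left, two_right hkl, two_other hpk hpl, two_other hqk hql] at hy
  have e : y = lv p q (-4) (-4) hpq neg_four_or neg_four_or := by
    refine lv_eq hpq neg_four_or neg_four_or ?_ ?_ ?_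
    · rw [hy p (by simp), two_other hpk hpl]; rfl
    · rw [hy q (by simp), two_other hqk hql]; rfl
    · intro i hip hiq
      by_cases hik : i = k
      · subst hik
        rw [hy i (by simp), two_left]; rfl
      · by_cases hil : i = l
        · subst hil
          rw [hy i (by simp), two_right hkl]; rfl
        · refine hy0 (fun j hj => ?_) i (by simp [hip, hiq, hik, hil])
          simp only [Finset.mem_insert, Finset.mem_singleton, not_or] at hj
          rw [lv_coe, two_other hj.2.2.1 hj.2.2.2]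
  rw [← e]
  exact h1.trans hE

theorem exists_two_out : ∃ k l, p ≠ k ∧ p ≠ l ∧ q ≠ k ∧ q ≠ l ∧ k ≠ l := by
  obtain ⟨k, hk⟩ := exists_notMem {p, q} (lt_of_le_of_lt Finset.card_le_two (by decide))
  obtain ⟨l, hl⟩ := exists_notMem {p, q, k} (lt_of_le_of_lt Finset.card_le_three (by decide))
  simp only [Finset.mem_insert, Finset.mem_singleton, not_or] at hk hl
  exact ⟨k, l, Ne.symm hk.1, Ne.symm hl.1, Ne.symm hk.2, Ne.symm hl.2.1, Ne.symm hl.2.2⟩

theorem zero_in {a : ℤ} (ha : a = 4 ∨ a = -4) :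
    E (v0 p q hpq) (lv p q a a hpq ha ha) (lv p q (-4) (-4) hpq neg_four_or neg_four_or) := by
  obtain ⟨k, l, hpk, hpl, hqk, hql, hkl⟩ := exists_two_out (p := p) (q := q)
  obtain ⟨y, hE, hy, hy0⟩ := E_xi4 hpq hpk hpl hqk hql hkl (lv p q a a hpq ha ha)
  rw [lv_coe, two_left, two_right hpq, two_other hpk.symm hqk.symm,
    two_other hpl.symm hql.symm] at hy
  have e : y = lv k l (-a) (-a) hkl (by omega) (by omega) := by
    refine lv_eq hkl (by omega) (by omega) ?_ ?_ ?_
    · rw [hy k (by simp), two_other hpk.symm hqk.symm]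
      rcases ha with rfl | rfl <;> rfl
    · rw [hy l (by simp), two_other hpl.symm hql.symm]
      rcases ha with rfl | rfl <;> rfl
    · intro i hik hil
      by_cases hip : i = p
      · subst hip
        rw [hy i (by simp), two_left]
        rcases ha with rfl | rfl <;> rfl
      · by_cases hiq : i = q
        · subst hiq
          rw [hy i (by simp), two_right hpq]
          rcases ha with rfl | rfl <;> rfl
        · refine hy0 (fun j hj => ?_) i (by simp [hip, hiq, hik, hil])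
          simp only [Finset.mem_insert, Finset.mem_singleton, not_or] at hj
          rw [lv_coe, two_other hj.1 hj.2.1]
  rw [e] at hE
  exact hE.trans (zero_out hpq hpk hpl hqk hql hkl _ _)

theorem zero_four (x : leechLattice) (hx : Type4 (x : GolayPt → ℤ))
    (h : (x : GolayPt → ℤ) p = (x : GolayPt → ℤ) q) :
    E (v0 p q hpq) x (lv p q (-4) (-4) hpq neg_four_or neg_four_or) := by
  obtain ⟨k, l, hkl, a, b, ha, hb, e⟩ := eq_two_of_type4 hx
  have hxe : x = lv k l a b hkl ha hb := Subtype.ext e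
  rw [e] at h
  by_cases hpk : p = k
  · subst hpk
    by_cases hql : q = l
    · subst hql
      rw [two_left, two_right hkl] at h
      subst h
      rw [hxe]
      exact zero_in hpq _
    · rw [two_left, two_other hpq.symm hql] at h
      omega
  · by_cases hpl : p = l
    · subst hpl
      by_cases hqk : q = k
      · subst hqk
        rw [two_left, two_right hkl] at h
        subst h
        rw [hxe, lv_swap]
        exact zero_in hpq _
      · rw [two_right hkl, two_other hqk hpq.symm] at h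
        omega
    · rw [two_other hpk hpl] at h
      have hqk : q ≠ k := by
        rintro rfl
        rw [two_left] at h
        omega
      have hql : q ≠ l := by
        rintro rfl
        rw [two_right hkl] at h
        omega
      rw [hxe]
      exact zero_out hpq hpk hpl hqk hql hkl _ _

theorem zero_even (x : leechLattice) (hn : nrm x = 32) {i : GolayPt}
    (hi : (x : GolayPt → ℤ) i % 2 = 0) (h : (x : GolayPt → ℤ) p = (x : GolayPt → ℤ) q) :
    E (v0 p q hpq) x (lv p q (-4) (-4) hpq neg_four_or neg_four_or) := by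
  -- first the case that `p` and `q` are in the support
  have key : ∀ x : leechLattice, nrm x = 32 →
      ((x : GolayPt → ℤ) p = 2 ∨ (x : GolayPt → ℤ) p = -2) →
      (x : GolayPt → ℤ) p = (x : GolayPt → ℤ) q →
      E (v0 p q hpq) x (lv p q (-4) (-4) hpq neg_four_or neg_four_or) := by
    intro x hn hp h
    rcases type2_or_type4_of_coord x.2 hn (i := p) (by omega) with h4 | h2
    · exact zero_four hpq x h4 h
    obtain ⟨A, hA, hA2, hA0, -⟩ := h2
    have h8 : A.card = 8 := hA.2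
    obtain ⟨k, hkA, hk⟩ := Finset.exists_mem_notMem_of_card_lt_card
      (show ({p, q} : Finset GolayPt).card < A.card from
        lt_of_le_of_lt Finset.card_le_two (by omega))
    obtain ⟨l, hlA, hl⟩ := Finset.exists_mem_notMem_of_card_lt_card
      (show ({p, q, k} : Finset GolayPt).card < A.card from
        lt_of_le_of_lt Finset.card_le_three (by omega))
    simp only [Finset.mem_insert, Finset.mem_singleton, not_or] at hk hl
    have hk2 := hA2 k hkA
    have hl2 := hA2 l hlA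
    obtain ⟨y, hE, hyk, hys, hyi⟩ := E_sign hpq x k {p, q, l}
      (Finset.card_le_three.trans (by norm_num)) (by
        simp only [Finset.mem_insert, Finset.mem_singleton, not_or]
        exact ⟨hk.1, hk.2, Ne.symm hl.2.2⟩) (by simp) (by simp) ((x : GolayPt → ℤ) p) (by (clear * - hp hk2; omega))
    have hyl := hyi l
    obtain ⟨z, hE', hzl, hzs, hzi⟩ := E_sign hpq y l {p, q, k}
      (Finset.card_le_three.trans (by norm_num)) (by
        simp only [Finset.mem_insert, Finset.mem_singleton, not_or]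
        exact ⟨hl.1, hl.2.1, hl.2.2⟩) (by simp) (by simp) (-(x : GolayPt → ℤ) p) (by (clear * - hp hl2 hyl; omega))
    have hzp : (z : GolayPt → ℤ) p = (x : GolayPt → ℤ) p := by
      rw [hzs p (by simp), hys p (by simp)]
    have hzq : (z : GolayPt → ℤ) q = (x : GolayPt → ℤ) p := by
      rw [hzs q (by simp), hys q (by simp), ← h]
    have hzk : (z : GolayPt → ℤ) k = (x : GolayPt → ℤ) p := by
      rw [hzs k (by simp), hyk]
    obtain ⟨w, hE2, hw, -⟩ := E_xi4 hpq (Ne.symm hk.1) (Ne.symm hl.1) (Ne.symm hk.2)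
      (Ne.symm hl.2.1) (Ne.symm hl.2.2) z
    rw [hzp, hzq, hzk, hzl] at hw
    have hwl := hw l (by simp)
    have hwp := hw p (by simp)
    have hwq := hw q (by simp)
    rw [hzl] at hwl
    rw [hzp] at hwp
    rw [hzq] at hwq
    have hEE := (hE.trans hE').trans hE2
    have hnw : nrm w = 32 := by
      have := hEE.sqNorm_eq
      show sqNorm _ = 32
      rw [this]; exact hn
    exact hEE.trans (zero_four hpq w (type4_of_coord w.2 hnw (i := l) (by (clear * - hp hwl; omega)))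
      (by rw [hwp, hwq]))
  rcases type2_or_type4_of_coord x.2 hn hi with h4 | h2
  · exact zero_four hpq x h4 h
  obtain ⟨A, hA, hA2, hA0, -⟩ := h2
  have h8 : A.card = 8 := hA.2
  by_cases hpA : p ∈ A
  · exact key x hn (hA2 p hpA) h
  have hp0 := hA0 p hpA
  have hqA : q ∉ A := by
    intro hq
    have := hA2 q hq
    omega
  have hq0 := hA0 q hqA
  obtain ⟨k, hkA, l, hlA, hkl⟩ := Finset.one_lt_card.1 (show 1 < A.card by omega)
  have hpk : p ≠ k := by rintro rfl; exact hpA hkA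
  have hpl : p ≠ l := by rintro rfl; exact hpA hlA
  have hqk : q ≠ k := by rintro rfl; exact hqA hkA
  have hql : q ≠ l := by rintro rfl; exact hqA hlA
  have hk2 := hA2 k hkA
  have hl2 := hA2 l hlA
  obtain ⟨y, hE, hyk, hys, hyi⟩ := E_sign hpq x k {p, q, l}
    (Finset.card_le_three.trans (by norm_num)) (by
      simp only [Finset.mem_insert, Finset.mem_singleton, not_or]
      exact ⟨hpk.symm, hqk.symm, hkl⟩) (by simp) (by simp) ((x : GolayPt → ℤ) l) (by omega)
  have hyl := hys l (by simp)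
  have hyp := hys p (by simp)
  have hyq := hys q (by simp)
  obtain ⟨w, hE2, hw, -⟩ := E_xi4 hpq hpk hpl hqk hql hkl y
  have hwp := hw p (by simp)
  have hwq := hw q (by simp)
  have hEE := hE.trans hE2
  have hnw : nrm w = 32 := by
    have := hEE.sqNorm_eq
    show sqNorm _ = 32
    rw [this]; exact hn
  exact hEE.trans (key w hnw (by (clear * - h hl2 hyk hyl hyp hyq hwp; omega)) (by omega))

theorem zero_any (x : leechLattice) (hn : nrm x = 32)
    (h : (x : GolayPt → ℤ) p = (x : GolayPt → ℤ) q) :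
    E (v0 p q hpq) x (lv p q (-4) (-4) hpq neg_four_or neg_four_or) := by
  by_cases hi : ∃ i, (x : GolayPt → ℤ) i % 2 = 0
  · obtain ⟨i, hi⟩ := hi
    exact zero_even hpq x hn hi h
  push Not at hi
  obtain ⟨k, l, hpk, hpl, hqk, hql, hkl⟩ := exists_two_out (p := p) (q := q)
  have hp1 := hi p
  have hk1 := hi k
  have hl1 := hi l
  obtain ⟨y, hE, hys, hs⟩ : ∃ y : leechLattice, E (v0 p q hpq) x y ∧
      (y : GolayPt → ℤ) p = (x : GolayPt → ℤ) p ∧
      ((y : GolayPt → ℤ) p + (y : GolayPt → ℤ) q + (y : GolayPt → ℤ) k +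
        (y : GolayPt → ℤ) l) % 4 = 2 := by
    by_cases hs : ((x : GolayPt → ℤ) p + (x : GolayPt → ℤ) q + (x : GolayPt → ℤ) k +
        (x : GolayPt → ℤ) l) % 4 = 2
    · exact ⟨x, E.refl _ _, rfl, hs⟩
    · obtain ⟨y, hE, hyk, hys, -⟩ := E_flip hpq x k {p, q, l}
        (Finset.card_le_three.trans (by norm_num)) (by
          simp only [Finset.mem_insert, Finset.mem_singleton, not_or]
          exact ⟨hpk.symm, hqk.symm, hkl⟩) (by simp) (by simp)
      have h1 := hys p (by simp)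
      have h2 := hys q (by simp)
      have h3 := hys l (by simp)
      exact ⟨y, hE, h1, by omega⟩
  obtain ⟨w, hE2, hw, -⟩ := E_xi4 hpq hpk hpl hqk hql hkl y
  have hwp := hw p (by simp)
  have hEE := hE.trans hE2
  have hnw : nrm w = 32 := by
    have := hEE.sqNorm_eq
    show sqNorm _ = 32
    rw [this]; exact hn
  have hd := sub_of_E hpq hEE
  exact hEE.trans (zero_even hpq w hnw (i := p) (by (clear * - hp1 hys hs hwp; omega)) (by omega))

/-! ### Inner product `8` -/

end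

/-- `Co0` is transitive on the ordered pairs of minimal vectors with inner product `0`. -/
theorem exists_pair_zero (b c b' c' : leechLattice) (hb : nrm b = 32) (hc : nrm c = 32)
    (hb' : nrm b' = 32) (hc' : nrm c' = 32) (h : dot b c = 0) (h' : dot b' c' = 0) :
    ∃ g : ↥Co0, g • b = b' ∧ g • c = c' := by
  obtain ⟨p, hp⟩ := exists_notMem ∅ (by simp)
  obtain ⟨q, hq⟩ := exists_notMem {p} (by simp)
  simp only [Finset.mem_singleton] at hq
  have hpq : p ≠ q := Ne.symm hq
  have key : ∀ b c : leechLattice, nrm b = 32 → nrm c = 32 → dot b c = 0 →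
      ∃ g : ↥Co0, g • b = v0 p q hpq ∧ g • c = lv p q (-4) (-4) hpq neg_four_or neg_four_or := by
    intro b c hb hc h
    obtain ⟨g, hg⟩ := co0_transitive_min b (v0 p q hpq) hb (nrm_v0 _)
    have e1 : dot (g • b) (g • c) = 0 := by rw [dot_smul, h]
    rw [hg, dot_v0'] at e1
    obtain ⟨k, hk1, hk2⟩ := zero_any hpq (g • c) (by rw [nrm_smul, hc]) (by omega)
    exact ⟨k * g, by rw [mul_smul, hg, hk1], by rw [mul_smul, hk2]⟩
  obtain ⟨g, h1, h2⟩ := key b c hb hc h
  obtain ⟨g', h1', h2'⟩ := key b' c' hb' hc' h'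
  refine ⟨g'⁻¹ * g, ?_, ?_⟩
  · rw [mul_smul, h1, ← h1', inv_smul_smul]
  · rw [mul_smul, h2, ← h2', inv_smul_smul]

theorem type3_odd_aux {d : leechLattice} (hn : nrm d = 32) {i : GolayPt}
    (hi : (d : GolayPt → ℤ) i % 2 = 1) : Type3 (d : GolayPt → ℤ) := by
  rcases (min_iff _).1 ⟨d.2, hn⟩ with h | h | h
  · exfalso
    obtain ⟨k, l, hkl, hk, hl, h0⟩ := h
    by_cases hik : i = k
    · subst hik; omega
    · by_cases hil : i = l
      · subst hil; omega
      · rw [h0 i hik hil] at hi; omega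
  · exfalso
    obtain ⟨A, -, hA2, hA0, -⟩ := h
    by_cases hiA : i ∈ A
    · have := hA2 i hiA; omega
    · rw [hA0 i hiA] at hi; omega
  · exact h

/-- Vectors with coordinates `3, 1` at `p, q` differ by signs outside `p, q`. -/
theorem E_three {p q : GolayPt} (hpq : p ≠ q) (x y : leechLattice) (hx : nrm x = 32)
    (hy : nrm y = 32) (hxp : (x : GolayPt → ℤ) p = 3) (hxq : (x : GolayPt → ℤ) q = 1)
    (hyp : (y : GolayPt → ℤ) p = 3) (hyq : (y : GolayPt → ℤ) q = 1) :
    E (v0 p q hpq) x y := by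
  obtain ⟨k, hk, hk1, hkW⟩ := type3_odd_aux hx (i := p) (by rw [hxp]; rfl)
  obtain ⟨l, hl, hl1, hlW⟩ := type3_odd_aux hy (i := p) (by rw [hyp]; rfl)
  have hkp : k = p := by
    by_contra hne
    have := hk1 p (Ne.symm hne)
    omega
  have hlp : l = p := by
    by_contra hne
    have := hl1 p (Ne.symm hne)
    omega
  subst hkp
  subst hlp
  have hD := symmDiff_mem hkW hlW
  have hmem : ∀ (x : leechLattice) (i : GolayPt), i ∈ cls (x : GolayPt → ℤ) 1 ↔
      (x : GolayPt → ℤ) i % 4 = 1 := by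
    intro x i
    rw [mem_cls]
    rfl
  obtain ⟨z, hE, hz⟩ := E_sgn (v := v0 l q hpq) x hD (fun i hi => by
    rw [Finset.mem_symmDiff, hmem, hmem] at hi
    refine v0_other hpq ?_ ?_
    · rintro rfl
      rw [hxp, hyp] at hi
      omega
    · rintro rfl
      rw [hxq, hyq] at hi
      omega)
  have e : z = y := by
    apply Subtype.ext
    funext i
    rw [hz i]
    by_cases hil : i = l
    · subst hil
      rw [if_neg, hxp, hyp]
      rw [Finset.mem_symmDiff, hmem, hmem, hxp, hyp]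
      omega
    · have h1 := hk1 i hil
      have h2 := hl1 i hil
      split_ifs with hi <;> rw [Finset.mem_symmDiff, hmem, hmem] at hi <;> omega
  rwa [e] at hE

end Cfsg.Agent.MonsterP.LeechPairs
end
end
end
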